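import Mathlib
import Cfsg.Agent.LieRecognition.FT61.O3
import Cfsg.Agent.ClassicalGeometry.DicksonCount
import Cfsg.Agent.LieRecognition.FT61.ThmC
import Cfsg.Agent.H697.Lift
import Cfsg.Agent.LieRecognition.FT61.Grp
import Cfsg.Agent.LieRecognition.FT61.Red
import Cfsg.Agent.LieRecognition.FT61.ThmA
import Cfsg.Agent.LieExceptional.SingerCentralizer
import Cfsg.Agent.PermutationGroups.RegularLinear
import Cfsg.Agent.H365.Zsig
set_option linter.all false

-- part: H697/Conic
section
/-!
# Finite groups of isometries of determinant one of a three-dimensional space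

`U` is a 3-dimensional space over an algebraically closed field `k` of odd characteristic `s` with a
nondegenerate symmetric bilinear form `β`. A group of isometries of determinant one acts on the set of singular
lines like a group of Moebius transformations; so Dickson's list applies.
-/

set_option autoImplicit false

namespace Cfsg.Agent.H697.Conic

open Module MulAction
open Cfsg.Agent.LieRecognition.FT61.O3Lin

section form

variable {k U : Type*} [Field k] [AddCommGroup U] [Module k U]

theorem exists_frame (hU : finrank k U = 3) {β : LinearMap.BilinForm k U}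
    (hsymm : β.IsSymm) (hnd : β.Nondegenerate) {a b : U} (ha : β a a = 0) (hb : β b b = 0)
    (hab : β a b ≠ 0) :
    ∃ B : Basis (Fin 3) k U, B 0 = a ∧ B 1 = b ∧ β a (B 2) = 0 ∧ β b (B 2) = 0 ∧
      β (B 2) (B 2) ≠ 0 := by
  have ha0 : a ≠ 0 := by
    rintro rfl
    exact hab (by simp)
  have hba : β b a ≠ 0 := by
    rw [hsymm.eq]; exact hab
  have hbs : ∀ c : k, b ≠ c • a := by
    rintro c rfl
    apply hab
    rw [LinearMap.BilinForm.smul_right, ha, mul_zero]
  obtain ⟨n, hn0, han, hbn, -⟩ := exists_normal hU hnd ha0 hbs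
  have hnn : β n n ≠ 0 := by
    intro hnn
    obtain ⟨c, hc⟩ := mem_span_of_singular hU hsymm hnd ha0 ha hnn han
    rw [hc, LinearMap.BilinForm.smul_right] at hbn
    rcases mul_eq_zero.1 hbn with h | h
    · apply hn0
      rw [hc, h, zero_smul]
    · exact hba h
  have hli : LinearIndependent k ![a, b, n] := by
    rw [Fintype.linearIndependent_iff]
    intro c hc
    rw [Fin.sum_univ_three] at hc
    have hc' : c 0 • a + c 1 • b + c 2 • n = 0 := hc
    have h1 : c 0 = 0 := by
      have h := congrArg (fun w => β b w) hc'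
      simp only [LinearMap.BilinForm.add_right, LinearMap.BilinForm.smul_right, hb, hbn,
        LinearMap.BilinForm.zero_right, mul_zero, add_zero] at h
      exact (mul_eq_zero.1 h).resolve_right hba
    have h2 : c 1 = 0 := by
      have h := congrArg (fun w => β a w) hc'
      simp only [LinearMap.BilinForm.add_right, LinearMap.BilinForm.smul_right, ha, han,
        LinearMap.BilinForm.zero_right, mul_zero, add_zero, zero_add] at h
      exact (mul_eq_zero.1 h).resolve_right hab
    have h3 : c 2 = 0 := by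
      rw [h1, h2, zero_smul, zero_smul, zero_add, zero_add] at hc'
      exact (smul_eq_zero.1 hc').resolve_right hn0
    intro i
    fin_cases i
    · exact h1
    · exact h2
    · exact h3
  have hcard : Fintype.card (Fin 3) = finrank k U := by rw [hU, Fintype.card_fin]
  refine ⟨basisOfLinearIndependentOfCardEqFinrank hli hcard, ?_, ?_, ?_, ?_, ?_⟩
  · rw [coe_basisOfLinearIndependentOfCardEqFinrank]; rfl
  · rw [coe_basisOfLinearIndependentOfCardEqFinrank]; rfl
  · rw [coe_basisOfLinearIndependentOfCardEqFinrank]; exact han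
  · rw [coe_basisOfLinearIndependentOfCardEqFinrank]; exact hbn
  · rw [coe_basisOfLinearIndependentOfCardEqFinrank]; exact hnn

theorem det_of_frame (B : Basis (Fin 3) k U) (g : U →ₗ[k] U) {x0 x1 y0 y1 z : k}
    (h0 : g (B 0) = x0 • B 0 + x1 • B 1) (h1 : g (B 1) = y0 • B 0 + y1 • B 1)
    (h2 : g (B 2) = z • B 2) : LinearMap.det g = (x0 * y1 - x1 * y0) * z := by
  rw [← LinearMap.det_toMatrix B g, Matrix.det_fin_three]
  simp only [LinearMap.toMatrix_apply, h0, h1, h2, map_add, map_smul, Basis.repr_self,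
    Finsupp.add_apply, Finsupp.smul_apply, Finsupp.single_apply, smul_eq_mul]
  simp
  ring

/-- The decomposition of a vector along a frame. -/
theorem frame_sum (B : Basis (Fin 3) k U) (u : U) :
    ∃ x y z : k, u = x • B 0 + y • B 1 + z • B 2 := by
  refine ⟨B.repr u 0, B.repr u 1, B.repr u 2, ?_⟩
  have h := B.sum_repr u
  rw [Fin.sum_univ_three] at h
  exact h.symm

theorem ext_frame (B : Basis (Fin 3) k U) {f g : U →ₗ[k] U} (h0 : f (B 0) = g (B 0))
    (h1 : f (B 1) = g (B 1)) (h2 : f (B 2) = g (B 2)) : f = g := by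
  apply B.ext
  intro i
  fin_cases i
  · exact h0
  · exact h1
  · exact h2

end form

section iso

variable {k U : Type*} [Field k] [AddCommGroup U] [Module k U]

/-- two distinct singular lines are not orthogonal -/
theorem pairing_ne_zero (hU : finrank k U = 3) {β : LinearMap.BilinForm k U}
    (hsymm : β.IsSymm) (hnd : β.Nondegenerate) {a b : U} (ha0 : a ≠ 0) (ha : β a a = 0)
    (hb0 : b ≠ 0) (hb : β b b = 0) (hab : Submodule.span k {a} ≠ Submodule.span k {b}) :
    β a b ≠ 0 := by
  intro h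
  obtain ⟨c, hc⟩ := mem_span_of_singular hU hsymm hnd ha0 ha hb h
  have hc0 : c ≠ 0 := by
    rintro rfl
    exact hb0 (by rw [hc, zero_smul])
  apply hab
  rw [hc]
  exact (Submodule.span_singleton_smul_eq (IsUnit.mk0 c hc0) a).symm

variable {β : LinearMap.BilinForm k U} {g : U →ₗ[k] U}

/-- The third vector of a frame whose first two lines are preserved. -/
theorem third_diag (hsymm : β.IsSymm) (B : Basis (Fin 3) k U) (h02 : β (B 0) (B 2) = 0)
    (h12 : β (B 1) (B 2) = 0) (h22 : β (B 2) (B 2) ≠ 0) (hab : β (B 0) (B 1) ≠ 0)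
    (h00 : β (B 0) (B 0) = 0) (h11 : β (B 1) (B 1) = 0)
    (hg : ∀ u v, β (g u) (g v) = β u v) {l m : k}
    (e0 : g (B 0) = l • B 0) (e1 : g (B 1) = m • B 1) :
    l * m = 1 ∧ ∃ z : k, z ^ 2 = 1 ∧ g (B 2) = z • B 2 := by
  have hba : β (B 1) (B 0) ≠ 0 := by rw [hsymm.eq]; exact hab
  have hlm : l * m = 1 := by
    have h := hg (B 0) (B 1)
    rw [e0, e1, LinearMap.BilinForm.smul_left, LinearMap.BilinForm.smul_right, ← mul_assoc] at h
    exact mul_right_cancel₀ hab (by rw [h, one_mul])
  have hl0 : l ≠ 0 := left_ne_zero_of_mul_eq_one hlm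
  have hm0 : m ≠ 0 := right_ne_zero_of_mul_eq_one hlm
  refine ⟨hlm, ?_⟩
  obtain ⟨x, y, z, hxyz⟩ := frame_sum B (g (B 2))
  have hy : y = 0 := by
    have h := hg (B 0) (B 2)
    rw [e0, hxyz, h02, LinearMap.BilinForm.smul_left, LinearMap.BilinForm.add_right,
      LinearMap.BilinForm.add_right, LinearMap.BilinForm.smul_right,
      LinearMap.BilinForm.smul_right, LinearMap.BilinForm.smul_right, h00, h02, mul_zero,
      mul_zero, zero_add, add_zero] at h
    rcases mul_eq_zero.1 h with h | h
    · exact absurd h hl0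
    · exact (mul_eq_zero.1 h).resolve_right hab
  have hx : x = 0 := by
    have h := hg (B 1) (B 2)
    rw [e1, hxyz, h12, LinearMap.BilinForm.smul_left, LinearMap.BilinForm.add_right,
      LinearMap.BilinForm.add_right, LinearMap.BilinForm.smul_right,
      LinearMap.BilinForm.smul_right, LinearMap.BilinForm.smul_right, h11, h12, mul_zero,
      mul_zero, add_zero, add_zero] at h
    rcases mul_eq_zero.1 h with h | h
    · exact absurd h hm0
    · exact (mul_eq_zero.1 h).resolve_right hba
  rw [hx, hy, zero_smul, zero_smul, zero_add, zero_add] at hxyz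
  refine ⟨z, ?_, hxyz⟩
  have h := hg (B 2) (B 2)
  rw [hxyz, LinearMap.BilinForm.smul_left, LinearMap.BilinForm.smul_right, ← mul_assoc] at h
  rw [sq]
  exact mul_right_cancel₀ h22 (by rw [h, one_mul])

/-- The third vector of a frame whose first two lines are swapped. -/
theorem third_swap (hsymm : β.IsSymm) (B : Basis (Fin 3) k U) (h02 : β (B 0) (B 2) = 0)
    (h12 : β (B 1) (B 2) = 0) (h22 : β (B 2) (B 2) ≠ 0) (hab : β (B 0) (B 1) ≠ 0)
    (h00 : β (B 0) (B 0) = 0) (h11 : β (B 1) (B 1) = 0)
    (hg : ∀ u v, β (g u) (g v) = β u v) {l m : k}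
    (e0 : g (B 0) = l • B 1) (e1 : g (B 1) = m • B 0) :
    l * m = 1 ∧ ∃ z : k, z ^ 2 = 1 ∧ g (B 2) = z • B 2 := by
  have hba : β (B 1) (B 0) ≠ 0 := by rw [hsymm.eq]; exact hab
  have hlm : l * m = 1 := by
    have h := hg (B 0) (B 1)
    rw [e0, e1, LinearMap.BilinForm.smul_left, LinearMap.BilinForm.smul_right, ← mul_assoc,
      hsymm.eq (B 0) (B 1)] at h
    exact mul_right_cancel₀ hba (by rw [h, one_mul])
  have hl0 : l ≠ 0 := left_ne_zero_of_mul_eq_one hlm
  have hm0 : m ≠ 0 := right_ne_zero_of_mul_eq_one hlm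
  refine ⟨hlm, ?_⟩
  obtain ⟨x, y, z, hxyz⟩ := frame_sum B (g (B 2))
  have hy : y = 0 := by
    have h := hg (B 1) (B 2)
    rw [e1, hxyz, h12, LinearMap.BilinForm.smul_left, LinearMap.BilinForm.add_right,
      LinearMap.BilinForm.add_right, LinearMap.BilinForm.smul_right,
      LinearMap.BilinForm.smul_right, LinearMap.BilinForm.smul_right, h00, h02, mul_zero,
      mul_zero, zero_add, add_zero] at h
    rcases mul_eq_zero.1 h with h | h
    · exact absurd h hm0
    · exact (mul_eq_zero.1 h).resolve_right hab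
  have hx : x = 0 := by
    have h := hg (B 0) (B 2)
    rw [e0, hxyz, h02, LinearMap.BilinForm.smul_left, LinearMap.BilinForm.add_right,
      LinearMap.BilinForm.add_right, LinearMap.BilinForm.smul_right,
      LinearMap.BilinForm.smul_right, LinearMap.BilinForm.smul_right, h11, h12, mul_zero,
      mul_zero, add_zero, add_zero] at h
    rcases mul_eq_zero.1 h with h | h
    · exact absurd h hl0
    · exact (mul_eq_zero.1 h).resolve_right hba
  rw [hx, hy, zero_smul, zero_smul, zero_add, zero_add] at hxyz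
  refine ⟨z, ?_, hxyz⟩
  have h := hg (B 2) (B 2)
  rw [hxyz, LinearMap.BilinForm.smul_left, LinearMap.BilinForm.smul_right, ← mul_assoc] at h
  rw [sq]
  exact mul_right_cancel₀ h22 (by rw [h, one_mul])

/-- Every nonsingular vector lies in a frame (over an algebraically closed field): the orthogonal plane has
two singular lines. -/
theorem exists_frame_of_nonsingular [IsAlgClosed k] (h2 : (2 : k) ≠ 0) (hU : finrank k U = 3)
    (hsymm : β.IsSymm) (hnd : β.Nondegenerate) {n : U} (hn : β n n ≠ 0) :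
    ∃ a b : U, β a a = 0 ∧ β b b = 0 ∧ β a b ≠ 0 ∧ β a n = 0 ∧ β b n = 0 := by
  have : FiniteDimensional k U := FiniteDimensional.of_finrank_eq_succ hU
  have hn0 : n ≠ 0 := by
    rintro rfl
    exact hn (by simp)
  -- a nonsingular vector `u` orthogonal to `n`
  obtain ⟨u, hnu, huu⟩ : ∃ u, β n u = 0 ∧ β u u ≠ 0 := by
    by_contra hcon
    push Not at hcon
    obtain ⟨y, hy0, hny⟩ := exists_orth_ne_zero hU hnd n
    have hyy := hcon y hny
    -- every vector orthogonal to `n` is singular; `y` pairs with some vector orthogonal to `n`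
    obtain ⟨x, hx⟩ := exists_ne_zero_pairing hnd hy0
    set x' : U := x - (β n x / β n n) • n with hx'
    have h1 : β n x' = 0 := by
      rw [hx', LinearMap.BilinForm.sub_right, LinearMap.BilinForm.smul_right, div_mul_cancel₀ _ hn,
        sub_self]
    have h3 : β y x' = β y x := by
      rw [hx', LinearMap.BilinForm.sub_right, LinearMap.BilinForm.smul_right, hsymm.eq y n] 
      rw [hny, mul_zero, sub_zero]
    have h4 := hcon x' h1
    have h5 := hcon (y + x') (by rw [LinearMap.BilinForm.add_right, hny, h1, add_zero])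
    rw [LinearMap.BilinForm.add_left, LinearMap.BilinForm.add_right,
      LinearMap.BilinForm.add_right, hyy, h4, hsymm.eq x' y, h3] at h5
    have h6 : 2 * β y x = 0 := by linear_combination h5
    exact hx ((mul_eq_zero.1 h6).resolve_left h2)
  have hun : β u n = 0 := by rw [hsymm.eq]; exact hnu
  have hu0 : u ≠ 0 := by
    rintro rfl
    exact huu (by simp)
  have hus : ∀ c : k, u ≠ c • n := by
    rintro c rfl
    rw [LinearMap.BilinForm.smul_right] at hnu
    rcases mul_eq_zero.1 hnu with h | h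
    · exact hu0 (by rw [h, zero_smul])
    · exact hn h
  obtain ⟨w, hw0, hnw, huw, hw⟩ := exists_normal hU hnd hn0 hus
  have hww : β w w ≠ 0 := by
    intro hww
    apply hw0
    refine hnd.1 w fun x => ?_
    -- `w` is orthogonal to `n`, `u`, `w`
    set x' : U := x - (β n x / β n n) • n - (β u x / β u u) • u with hx'
    have h1 : β n x' = 0 := by
      rw [hx', LinearMap.BilinForm.sub_right, LinearMap.BilinForm.sub_right,
        LinearMap.BilinForm.smul_right, LinearMap.BilinForm.smul_right, hnu, div_mul_cancel₀ _ hn]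
      ring
    have h3 : β u x' = 0 := by
      rw [hx', LinearMap.BilinForm.sub_right, LinearMap.BilinForm.sub_right,
        LinearMap.BilinForm.smul_right, LinearMap.BilinForm.smul_right, hun, div_mul_cancel₀ _ huu]
      ring
    obtain ⟨c, hc⟩ := hw x' h1 h3
    have h4 : x = (β n x / β n n) • n + (β u x / β u u) • u + c • w := by
      rw [← hc, hx']; abel
    rw [h4, LinearMap.BilinForm.add_right, LinearMap.BilinForm.add_right,
      LinearMap.BilinForm.smul_right, LinearMap.BilinForm.smul_right,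
      LinearMap.BilinForm.smul_right, hww, hsymm.eq w n, hsymm.eq w u, hnw, huw]
    ring
  obtain ⟨t, ht⟩ := IsAlgClosed.exists_pow_nat_eq (-(β u u) / β w w) (n := 2) (by norm_num)
  have ht' : t ^ 2 * β w w = -(β u u) := by rw [ht, div_mul_cancel₀ _ hww]
  have hwu : β w u = 0 := by rw [hsymm.eq]; exact huw
  have hwn : β w n = 0 := by rw [hsymm.eq]; exact hnw
  refine ⟨u + t • w, u - t • w, ?_, ?_, ?_, ?_, ?_⟩
  · simp only [LinearMap.BilinForm.add_left, LinearMap.BilinForm.add_right,
      LinearMap.BilinForm.smul_left, LinearMap.BilinForm.smul_right, huw, hwu]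
    linear_combination ht'
  · simp only [LinearMap.BilinForm.sub_left, LinearMap.BilinForm.sub_right,
      LinearMap.BilinForm.smul_left, LinearMap.BilinForm.smul_right, huw, hwu]
    linear_combination ht'
  · simp only [LinearMap.BilinForm.add_left, LinearMap.BilinForm.sub_right,
      LinearMap.BilinForm.smul_left, LinearMap.BilinForm.smul_right, huw, hwu]
    intro h
    have h3 : 2 * β u u = 0 := by linear_combination h + ht'
    exact huu ((mul_eq_zero.1 h3).resolve_left h2)
  · simp only [LinearMap.BilinForm.add_left, LinearMap.BilinForm.smul_left, hun, hwn]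
    ring
  · simp only [LinearMap.BilinForm.sub_left, LinearMap.BilinForm.smul_left, hun, hwn]
    ring

end iso

section pts

variable {k U X : Type*} [Field k] [AddCommGroup U] [Module k U] [Group X]

/-- A group of isometries of determinant one of a three-dimensional space. -/
structure Dat (β : LinearMap.BilinForm k U) (ρ : Representation k X U) : Prop where
  two : (2 : k) ≠ 0
  fr : finrank k U = 3
  symm : β.IsSymm
  nd : β.Nondegenerate
  inv : ∀ g u v, β (ρ g u) (ρ g v) = β u v
  det : ∀ g, LinearMap.det (ρ g) = 1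
  inj : Function.Injective ρ

variable {β : LinearMap.BilinForm k U} {ρ : Representation k X U}

/-- The singular lines. -/
def Pt (_D : Dat β ρ) : Type _ :=
  {L : Submodule k U // ∃ w : U, w ≠ 0 ∧ β w w = 0 ∧ L = Submodule.span k {w}}

theorem rho_inv (ρ : Representation k X U) (g : X) (u : U) : ρ g⁻¹ (ρ g u) = u := by
  rw [← Module.End.mul_apply, ← map_mul, inv_mul_cancel, map_one, Module.End.one_apply]

theorem rho_ne_zero (ρ : Representation k X U) (g : X) {u : U} (hu : u ≠ 0) : ρ g u ≠ 0 := by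
  intro h
  apply hu
  rw [← rho_inv ρ g u, h, map_zero]

namespace Dat

/-- The singular line spanned by a singular vector. -/
def pt (D : Dat β ρ) (w : U) (h0 : w ≠ 0) (h1 : β w w = 0) : Pt D :=
  ⟨Submodule.span k {w}, w, h0, h1, rfl⟩

theorem exists_rep (D : Dat β ρ) (L : Pt D) :
    ∃ (w : U) (h0 : w ≠ 0) (h1 : β w w = 0), L = D.pt w h0 h1 := by
  obtain ⟨L, w, h0, h1, h2⟩ := L
  exact ⟨w, h0, h1, Subtype.ext h2⟩

theorem pt_eq_iff (D : Dat β ρ) {w v : U} (h0 : w ≠ 0) (h1 : β w w = 0) (h0' : v ≠ 0)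
    (h1' : β v v = 0) : D.pt w h0 h1 = D.pt v h0' h1' ↔ ∃ c : k, w = c • v := by
  constructor
  · intro h
    have h2 : Submodule.span k {w} = Submodule.span k {v} := congrArg Subtype.val h
    have h3 : w ∈ Submodule.span k {v} := by
      rw [← h2]; exact Submodule.mem_span_singleton_self w
    obtain ⟨c, hc⟩ := Submodule.mem_span_singleton.1 h3
    exact ⟨c, hc.symm⟩
  · rintro ⟨c, rfl⟩
    have hc : c ≠ 0 := by
      rintro rfl
      exact h0 (zero_smul _ _)
    exact Subtype.ext (Submodule.span_singleton_smul_eq (IsUnit.mk0 c hc) v)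

end Dat

instance instActPt (D : Dat β ρ) : MulAction X (Pt D) where
  smul g L := ⟨L.1.map (ρ g), by
    obtain ⟨w, h0, h1, h2⟩ := L.2
    refine ⟨ρ g w, rho_ne_zero ρ g h0, by rw [D.inv]; exact h1, ?_⟩
    rw [h2, Submodule.map_span, Set.image_singleton]⟩
  one_smul L := by
    apply Subtype.ext
    show L.1.map (ρ 1) = L.1
    rw [map_one]
    exact Submodule.map_id _
  mul_smul g h L := by
    apply Subtype.ext
    show L.1.map (ρ (g * h)) = (L.1.map (ρ h)).map (ρ g)
    rw [map_mul, ← Submodule.map_comp]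
    rfl

namespace Dat

theorem smul_pt (D : Dat β ρ) (g : X) {w : U} (h0 : w ≠ 0) (h1 : β w w = 0) :
    g • D.pt w h0 h1 = D.pt (ρ g w) (rho_ne_zero ρ g h0) (by rw [D.inv]; exact h1) := by
  apply Subtype.ext
  show (Submodule.span k {w}).map (ρ g) = _
  rw [Submodule.map_span, Set.image_singleton]
  rfl

theorem smul_eq_iff (D : Dat β ρ) (g : X) {w v : U} (h0 : w ≠ 0) (h1 : β w w = 0) (h0' : v ≠ 0)
    (h1' : β v v = 0) : g • D.pt w h0 h1 = D.pt v h0' h1' ↔ ∃ c : k, ρ g w = c • v := by
  rw [D.smul_pt, D.pt_eq_iff]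

theorem pairing (D : Dat β ρ) {a b : U} (ha0 : a ≠ 0) (ha : β a a = 0) (hb0 : b ≠ 0)
    (hb : β b b = 0) (hab : D.pt a ha0 ha ≠ D.pt b hb0 hb) : β a b ≠ 0 := by
  refine pairing_ne_zero D.fr D.symm D.nd ha0 ha hb0 hb fun h => hab (Subtype.ext h)

theorem exists_fixed_vector (D : Dat β ρ) (g : X) : ∃ n : U, n ≠ 0 ∧ ρ g n = n := by
  have : FiniteDimensional k U := FiniteDimensional.of_finrank_eq_succ D.fr
  obtain ⟨h1, -⟩ := det_sub_one D.fr D.nd (g := ρ g) (D.inv g)
  rw [D.det g] at h1
  have h2 : LinearMap.det (ρ g - 1 : U →ₗ[k] U) = 0 := by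
    rcases mul_eq_zero.1 h1 with h | h
    · exact absurd (by rw [← h]; norm_num) D.two
    · exact h
  have h7 := LinearMap.bot_lt_ker_of_det_eq_zero h2
  obtain ⟨v, hv, hv0⟩ := Submodule.exists_mem_ne_zero_of_ne_bot h7.ne'
  refine ⟨v, hv0, ?_⟩
  rw [LinearMap.mem_ker] at hv
  exact sub_eq_zero.1 hv

/-- A rotation fixing a nonsingular vector fixes two singular lines. -/
theorem two_fixed [IsAlgClosed k] (D : Dat β ρ) {g : X} {n : U} (hn : β n n ≠ 0)
    (hgn : ρ g n = n) :
    ∃ x y : Pt D, x ≠ y ∧ g • x = x ∧ g • y = y := by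
  obtain ⟨a, b, ha, hb, hab, han, hbn⟩ := exists_frame_of_nonsingular D.two D.fr D.symm D.nd hn
  obtain ⟨B, hB0, hB1, hB02, hB12, hB22⟩ := exists_frame D.fr D.symm D.nd ha hb hab
  have hba : β b a ≠ 0 := by rw [D.symm.eq]; exact hab
  have ha0 : a ≠ 0 := by rintro rfl; exact hab (by simp)
  have hb0 : b ≠ 0 := by rintro rfl; exact hab (by simp)
  rw [← hB0] at hB02
  rw [← hB1] at hB12
  have hBn : ∃ c : k, c ≠ 0 ∧ n = c • B 2 := by
    obtain ⟨x, y, z, hxyz⟩ := frame_sum B n
    have h0 : β (B 0) n = 0 := by rw [hB0]; exact han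
    have h1 : β (B 1) n = 0 := by rw [hB1]; exact hbn
    have e00 : β (B 0) (B 0) = 0 := by rw [hB0]; exact ha
    have e11 : β (B 1) (B 1) = 0 := by rw [hB1]; exact hb
    have e01 : β (B 0) (B 1) ≠ 0 := by rw [hB0, hB1]; exact hab
    have e10 : β (B 1) (B 0) ≠ 0 := by rw [hB0, hB1]; exact hba
    rw [hxyz] at h0 h1
    simp only [LinearMap.BilinForm.add_right, LinearMap.BilinForm.smul_right, e00, e11, hB02, hB12,
      mul_zero, add_zero, zero_add] at h0 h1
    have hy := (mul_eq_zero.1 h0).resolve_right e01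
    have hx := (mul_eq_zero.1 h1).resolve_right e10
    rw [hx, hy, zero_smul, zero_smul, zero_add, zero_add] at hxyz
    refine ⟨z, ?_, hxyz⟩
    rintro rfl
    apply hn
    rw [hxyz]
    simp
  obtain ⟨c, hc0, hcn⟩ := hBn
  -- image of a singular vector orthogonal to `n`
  have key : ∀ w, β w w = 0 → β w n = 0 → w ≠ 0 → (∃ r : k, w = r • a) ∨ ∃ r : k, w = r • b := by
    intro w hww hwn hw0
    obtain ⟨x, y, z, hxyz⟩ := frame_sum B w
    have hz : z = 0 := by
      rw [hcn, hxyz] at hwn
      simp only [LinearMap.BilinForm.add_left, LinearMap.BilinForm.smul_left,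
        LinearMap.BilinForm.smul_right, hB02, hB12, mul_zero, zero_add] at hwn
      have h1 := (mul_eq_zero.1 hwn).resolve_left hc0
      exact (mul_eq_zero.1 h1).resolve_right hB22
    rw [hz, zero_smul, add_zero, hB0, hB1] at hxyz
    rw [hxyz] at hww
    simp only [LinearMap.BilinForm.add_left, LinearMap.BilinForm.add_right,
      LinearMap.BilinForm.smul_left, LinearMap.BilinForm.smul_right, ha, hb, D.symm.eq b a] at hww
    have h3 : (2 * (x * y)) * β a b = 0 := by
      rw [D.symm.eq a b] at hww ⊢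
      linear_combination hww
    have h4 := (mul_eq_zero.1 h3).resolve_right hab
    rcases mul_eq_zero.1 ((mul_eq_zero.1 h4).resolve_left D.two) with h5 | h5
    · right
      exact ⟨y, by rw [hxyz, h5, zero_smul, zero_add]⟩
    · left
      exact ⟨x, by rw [hxyz, h5, zero_smul, add_zero]⟩
  have hga : β (ρ g a) n = 0 := by
    nth_rewrite 1 [← hgn]
    rw [D.inv]; exact han
  have hgb : β (ρ g b) n = 0 := by
    nth_rewrite 1 [← hgn]
    rw [D.inv]; exact hbn
  have hne : D.pt a ha0 ha ≠ D.pt b hb0 hb := by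
    intro h
    obtain ⟨r, hr⟩ := (D.pt_eq_iff ha0 ha hb0 hb).1 h
    apply hab
    rw [hr, LinearMap.BilinForm.smul_left, hb, mul_zero]
  rcases key (ρ g a) (by rw [D.inv]; exact ha) hga (rho_ne_zero ρ g ha0) with h1 | ⟨l, h1⟩
  · refine ⟨D.pt a ha0 ha, D.pt b hb0 hb, hne, (D.smul_eq_iff g ha0 ha ha0 ha).2 h1, ?_⟩
    rcases key (ρ g b) (by rw [D.inv]; exact hb) hgb (rho_ne_zero ρ g hb0) with ⟨r, h3⟩ | h3
    · exfalso
      obtain ⟨r', h1⟩ := h1
      apply hab
      rw [← D.inv g, h1, h3, LinearMap.BilinForm.smul_left, LinearMap.BilinForm.smul_right, ha]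
      ring
    · exact (D.smul_eq_iff g hb0 hb hb0 hb).2 h3
  · exfalso
    rcases key (ρ g b) (by rw [D.inv]; exact hb) hgb (rho_ne_zero ρ g hb0) with ⟨m, h3⟩ | ⟨r, h3⟩
    · obtain ⟨hlm, z, hz, hgz⟩ := third_swap (g := ρ g) D.symm B hB02 hB12 hB22
        (by rw [hB0, hB1]; exact hab) (by rw [hB0]; exact ha) (by rw [hB1]; exact hb) (D.inv g)
        (l := l) (m := m) (by rw [hB0, hB1]; exact h1) (by rw [hB0, hB1]; exact h3)
      have hz1 : z = 1 := by
        have h4 : ρ g n = z • n := by
          rw [hcn, map_smul, hgz, smul_comm]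
        rw [hgn] at h4
        have hn0 : n ≠ 0 := by rintro rfl; exact hn (by simp)
        have h5 : (1 - z) • n = 0 := by rw [sub_smul, one_smul, ← h4, sub_self]
        exact (sub_eq_zero.1 ((smul_eq_zero.1 h5).resolve_right hn0)).symm
      have h6 := det_of_frame B (ρ g) (x0 := 0) (x1 := l) (y0 := m) (y1 := 0) (z := z)
        (by rw [hB0, hB1, h1]; simp) (by rw [hB0, hB1, h3]; simp) hgz
      rw [D.det, hz1] at h6
      apply D.two
      linear_combination h6 - hlm
    · apply hab
      rw [← D.inv g, h1, h3, LinearMap.BilinForm.smul_left, LinearMap.BilinForm.smul_right, hb]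
      ring

theorem exists_fixed [IsAlgClosed k] (D : Dat β ρ) (g : X) : ∃ x : Pt D, g • x = x := by
  obtain ⟨n, hn0, hn⟩ := D.exists_fixed_vector g
  by_cases h : β n n = 0
  · exact ⟨D.pt n hn0 h, (D.smul_eq_iff g hn0 h hn0 h).2 ⟨1, by rw [hn, one_smul]⟩⟩
  · obtain ⟨x, -, -, hx, -⟩ := D.two_fixed h hn
    exact ⟨x, hx⟩

/-- The action in a frame of a rotation fixing two singular lines. -/
theorem frame_of_two (D : Dat β ρ) {g : X} {a b : U} (ha0 : a ≠ 0) (ha : β a a = 0)
    (hb0 : b ≠ 0) (hb : β b b = 0) (hab : β a b ≠ 0) (hga : g • D.pt a ha0 ha = D.pt a ha0 ha)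
    (hgb : g • D.pt b hb0 hb = D.pt b hb0 hb) :
    ∃ (B : Basis (Fin 3) k U) (l m : k), B 0 = a ∧ B 1 = b ∧ β a (B 2) = 0 ∧ β b (B 2) = 0 ∧
      β (B 2) (B 2) ≠ 0 ∧ l * m = 1 ∧ ρ g a = l • a ∧ ρ g b = m • b ∧ ρ g (B 2) = B 2 := by
  obtain ⟨l, hl⟩ := (D.smul_eq_iff g ha0 ha ha0 ha).1 hga
  obtain ⟨m, hm⟩ := (D.smul_eq_iff g hb0 hb hb0 hb).1 hgb
  obtain ⟨B, hB0, hB1, hB02, hB12, hB22⟩ := exists_frame D.fr D.symm D.nd ha hb hab
  obtain ⟨hlm, z, hz, hgz⟩ := third_diag (g := ρ g) D.symm B (by rw [hB0]; exact hB02)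
    (by rw [hB1]; exact hB12) hB22 (by rw [hB0, hB1]; exact hab) (by rw [hB0]; exact ha)
    (by rw [hB1]; exact hb) (D.inv g) (l := l) (m := m) (by rw [hB0]; exact hl)
    (by rw [hB1]; exact hm)
  have h6 := det_of_frame B (ρ g) (x0 := l) (x1 := 0) (y0 := 0) (y1 := m) (z := z)
    (by rw [hB0, hl]; simp) (by rw [hB1, hm]; simp) hgz
  have hz1 : z = 1 := by
    rw [D.det] at h6
    linear_combination -h6 - z * hlm
  · refine ⟨B, l, m, hB0, hB1, hB02, hB12, hB22, hlm, hl, hm, ?_⟩
    rw [hgz, hz1, one_smul]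

theorem eq_one_of_three (D : Dat β ρ) (g : X) (x y z : Pt D) (hxy : x ≠ y) (hxz : x ≠ z)
    (hyz : y ≠ z) (hx : g • x = x) (hy : g • y = y) (hz : g • z = z) : g = 1 := by
  obtain ⟨a, ha0, ha, rfl⟩ := D.exists_rep x
  obtain ⟨b, hb0, hb, rfl⟩ := D.exists_rep y
  obtain ⟨c, hc0, hc, rfl⟩ := D.exists_rep z
  have hab := D.pairing ha0 ha hb0 hb hxy
  have hba : β b a ≠ 0 := by rw [D.symm.eq]; exact hab
  obtain ⟨B, l, m, hB0, hB1, hB02, hB12, hB22, hlm, hl, hm, hg2⟩ :=
    D.frame_of_two ha0 ha hb0 hb hab hx hy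
  obtain ⟨r, hr⟩ := (D.smul_eq_iff g hc0 hc hc0 hc).1 hz
  obtain ⟨x, y, w, hxyw⟩ := frame_sum B c
  rw [hB0, hB1] at hxyw
  have hB20 : β (B 2) a = 0 := by rw [D.symm.eq]; exact hB02
  have hB21 : β (B 2) b = 0 := by rw [D.symm.eq]; exact hB12
  have hcc : 2 * (x * y) * β a b + w ^ 2 * β (B 2) (B 2) = 0 := by
    have h := hc
    rw [hxyw] at h
    simp only [LinearMap.BilinForm.add_left, LinearMap.BilinForm.add_right,
      LinearMap.BilinForm.smul_left, LinearMap.BilinForm.smul_right, ha, hb, hB02, hB12, hB20,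
      hB21] at h
    have h' : β b a = β a b := D.symm.eq b a
    rw [h'] at h
    linear_combination h
  have hw : w ≠ 0 := by
    rintro rfl
    rw [zero_smul, add_zero] at hxyw
    have h3 : 2 * (x * y) * β a b = 0 := by linear_combination hcc
    have h4 := (mul_eq_zero.1 h3).resolve_right hab
    rcases mul_eq_zero.1 ((mul_eq_zero.1 h4).resolve_left D.two) with h5 | h5
    · apply hyz
      symm
      rw [D.pt_eq_iff]
      exact ⟨y, by rw [hxyw, h5, zero_smul, zero_add]⟩
    · apply hxz
      symm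
      rw [D.pt_eq_iff]
      exact ⟨x, by rw [hxyw, h5, zero_smul, add_zero]⟩
  have hx0 : x ≠ 0 := by
    rintro rfl
    have h3 : w ^ 2 * β (B 2) (B 2) = 0 := by linear_combination hcc
    exact hw (pow_eq_zero_iff (two_ne_zero)|>.1 ((mul_eq_zero.1 h3).resolve_right hB22))
  -- compare coefficients
  have hgc : ρ g c = (x * l) • a + (y * m) • b + w • B 2 := by
    rw [hxyw, map_add, map_add, map_smul, map_smul, map_smul, hl, hm, hg2, smul_smul, smul_smul]
  have hli := B.linearIndependent
  rw [Fintype.linearIndependent_iff] at hli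
  have hzero : (x * l - r * x) • B 0 + (y * m - r * y) • B 1 + (w - r * w) • B 2 = 0 := by
    rw [hB0, hB1, sub_smul, sub_smul, sub_smul]
    have h5 : ρ g c = (r * x) • a + (r * y) • b + (r * w) • B 2 := by
      rw [hr, hxyw, smul_add, smul_add, smul_smul, smul_smul, smul_smul]
    have h6 := hgc.symm.trans h5
    have h7 : (x * l) • a - (r * x) • a + ((y * m) • b - (r * y) • b) + (w • B 2 - (r * w) • B 2) =
        ((x * l) • a + (y * m) • b + w • B 2) - ((r * x) • a + (r * y) • b + (r * w) • B 2) := by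
      abel
    rw [h7, h6, sub_self]
  have hcoef := hli ![x * l - r * x, y * m - r * y, w - r * w] (by
    rw [Fin.sum_univ_three]
    exact hzero)
  have hr1 : r = 1 := by
    have h := hcoef 2
    have h' : w - r * w = 0 := h
    have h3 : (1 - r) * w = 0 := by linear_combination h'
    exact (sub_eq_zero.1 ((mul_eq_zero.1 h3).resolve_right hw)).symm
  have hl1 : l = 1 := by
    have h := hcoef 0
    have h' : x * l - r * x = 0 := h
    rw [hr1] at h'
    have h3 : x * (l - 1) = 0 := by linear_combination h'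
    exact sub_eq_zero.1 ((mul_eq_zero.1 h3).resolve_left hx0)
  have hm1 : m = 1 := by rw [hl1, one_mul] at hlm; exact hlm
  apply D.inj
  rw [map_one]
  apply ext_frame B
  · rw [hB0, hl, hl1, one_smul]; rfl
  · rw [hB1, hm, hm1, one_smul]; rfl
  · rw [hg2]; rfl

theorem sq_eq_one (D : Dat β ρ) (g : X) (x y : Pt D) (hxy : x ≠ y) (hx : g • x = y)
    (hy : g • y = x) : g * g = 1 := by
  obtain ⟨a, ha0, ha, rfl⟩ := D.exists_rep x
  obtain ⟨b, hb0, hb, rfl⟩ := D.exists_rep y
  have hab := D.pairing ha0 ha hb0 hb hxy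
  obtain ⟨l, hl⟩ := (D.smul_eq_iff g ha0 ha hb0 hb).1 hx
  obtain ⟨m, hm⟩ := (D.smul_eq_iff g hb0 hb ha0 ha).1 hy
  obtain ⟨B, hB0, hB1, hB02, hB12, hB22⟩ := exists_frame D.fr D.symm D.nd ha hb hab
  obtain ⟨hlm, z, hz, hgz⟩ := third_swap (g := ρ g) D.symm B (by rw [hB0]; exact hB02)
    (by rw [hB1]; exact hB12) hB22 (by rw [hB0, hB1]; exact hab) (by rw [hB0]; exact ha)
    (by rw [hB1]; exact hb) (D.inv g) (l := l) (m := m) (by rw [hB0, hB1]; exact hl)
    (by rw [hB0, hB1]; exact hm)
  apply D.inj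
  rw [map_one, map_mul]
  apply ext_frame B
  · rw [Module.End.mul_apply, hB0, hl, map_smul, hm, smul_smul, hlm, one_smul]; rfl
  · rw [Module.End.mul_apply, hB1, hm, map_smul, hl, smul_smul, mul_comm, hlm, one_smul]; rfl
  · rw [Module.End.mul_apply, hgz, map_smul, hgz, smul_smul, ← sq, hz, one_smul]; rfl

/-- The scalar by which the stabiliser of a singular line acts on it. -/
theorem exists_char (D : Dat β ρ) {a : U} (ha0 : a ≠ 0) (ha : β a a = 0) :
    ∃ χ : stabilizer X (D.pt a ha0 ha) →* kˣ,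
      ∀ g : stabilizer X (D.pt a ha0 ha), ρ (g : X) a = (χ g : k) • a := by
  have h : ∀ g : stabilizer X (D.pt a ha0 ha), ∃ c : k, ρ (g : X) a = c • a := fun g =>
    (D.smul_eq_iff (g : X) ha0 ha ha0 ha).1 g.2
  choose c hc using h
  have hinj : ∀ {c d : k}, c • a = d • a → c = d := fun h => smul_left_injective k ha0 h
  have h1 : c 1 = 1 := by
    apply hinj
    rw [← hc, one_smul, Subgroup.coe_one, map_one]
    rfl
  have hmul : ∀ g h, c (g * h) = c g * c h := by
    intro g h
    apply hinj
    rw [← hc, Subgroup.coe_mul, map_mul, Module.End.mul_apply, hc h, map_smul, hc g, smul_smul,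
      mul_comm]
  let f : stabilizer X (D.pt a ha0 ha) →* k := { toFun := c, map_one' := h1, map_mul' := hmul }
  exact ⟨f.toHomUnits, hc⟩

theorem fixed_of_only [IsAlgClosed k] (D : Dat β ρ) {g : X} {a : U} (ha0 : a ≠ 0) (ha : β a a = 0)
    (h : ∀ y : Pt D, g • y = y → y = D.pt a ha0 ha) : ρ g a = a := by
  obtain ⟨n, hn0, hn⟩ := D.exists_fixed_vector g
  by_cases hnn : β n n = 0
  · have h1 := h (D.pt n hn0 hnn) ((D.smul_eq_iff g hn0 hnn hn0 hnn).2 ⟨1, by rw [hn, one_smul]⟩)
    obtain ⟨c, hc⟩ := (D.pt_eq_iff hn0 hnn ha0 ha).1 h1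
    have hc0 : c ≠ 0 := by
      rintro rfl
      exact hn0 (by rw [hc, zero_smul])
    rw [hc, map_smul] at hn
    exact smul_right_injective U hc0 hn
  · exfalso
    obtain ⟨x, y, hxy, hx, hy⟩ := D.two_fixed hnn hn
    exact hxy ((h x hx).trans (h y hy).symm)

theorem eq_one_of_fixed_vector (D : Dat β ρ) {g : X} {a : U} (ha0 : a ≠ 0) (ha : β a a = 0)
    (hga : ρ g a = a) {y : Pt D} (hy : y ≠ D.pt a ha0 ha) (hgy : g • y = y) : g = 1 := by
  obtain ⟨b, hb0, hb, rfl⟩ := D.exists_rep y
  have hab := D.pairing ha0 ha hb0 hb (Ne.symm hy)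
  obtain ⟨B, l, m, hB0, hB1, hB02, hB12, hB22, hlm, hl, hm, hg2⟩ :=
    D.frame_of_two ha0 ha hb0 hb hab
      ((D.smul_eq_iff g ha0 ha ha0 ha).2 ⟨1, by rw [hga, one_smul]⟩) hgy
  have hl1 : l = 1 := by
    have h1 : l • a = (1 : k) • a := by rw [← hl, hga, one_smul]
    exact smul_left_injective k ha0 h1
  have hm1 : m = 1 := by rw [hl1, one_mul] at hlm; exact hlm
  apply D.inj
  rw [map_one]
  apply ext_frame B
  · rw [hB0, hga]; rfl
  · rw [hB1, hm, hm1, one_smul]; rfl
  · rw [hg2]; rfl

theorem det_upper (B : Basis (Fin 3) k U) (g : U →ₗ[k] U) {x z x' y' z' : k}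
    (h0 : g (B 0) = B 0) (h2 : g (B 2) = x • B 0 + z • B 2)
    (h1 : g (B 1) = x' • B 0 + y' • B 1 + z' • B 2) : LinearMap.det g = y' * z := by
  rw [← LinearMap.det_toMatrix B g, Matrix.det_fin_three]
  simp only [LinearMap.toMatrix_apply, h0, h1, h2, map_add, map_smul, Basis.repr_self,
    Finsupp.add_apply, Finsupp.smul_apply, Finsupp.single_apply, smul_eq_mul]
  simp

theorem cube_eq_zero (D : Dat β ρ) {g : X} {a : U} (ha0 : a ≠ 0) (ha : β a a = 0)
    (hga : ρ g a = a) : (ρ g - 1 : Module.End k U) ^ 3 = 0 := by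
  obtain ⟨x, hx⟩ := exists_ne_zero_pairing D.nd ha0
  -- a singular vector not orthogonal to `a`
  set b : U := x - (β x x / (2 * β a x)) • a with hb
  have hax : β x a = β a x := D.symm.eq x a
  have hbb : β b b = 0 := by
    rw [hb]
    simp only [LinearMap.BilinForm.sub_left, LinearMap.BilinForm.sub_right,
      LinearMap.BilinForm.smul_left, LinearMap.BilinForm.smul_right, ha, hax]
    have h2 := D.two
    field_simp
    ring
  have hab : β a b ≠ 0 := by
    rw [hb, LinearMap.BilinForm.sub_right, LinearMap.BilinForm.smul_right, ha, mul_zero, sub_zero]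
    exact hx
  have hba : β b a ≠ 0 := by rw [D.symm.eq]; exact hab
  obtain ⟨B, hB0, hB1, hB02, hB12, hB22⟩ := exists_frame D.fr D.symm D.nd ha hbb hab
  obtain ⟨x2, y2, z2, e2⟩ := frame_sum B (ρ g (B 2))
  obtain ⟨x1, y1, z1, e1⟩ := frame_sum B (ρ g (B 1))
  have hB20 : β (B 2) a = 0 := by rw [D.symm.eq]; exact hB02
  have hB21 : β (B 2) b = 0 := by rw [D.symm.eq]; exact hB12
  have hy2 : y2 = 0 := by
    have h := D.inv g a (B 2)
    rw [hga, e2, hB0, hB1] at h
    simp only [LinearMap.BilinForm.add_right, LinearMap.BilinForm.smul_right, ha, hB02, mul_zero,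
      add_zero, zero_add] at h
    exact (mul_eq_zero.1 h).resolve_right hab
  have hy1 : y1 = 1 := by
    have h := D.inv g a (B 1)
    rw [hga, e1, hB0, hB1] at h
    simp only [LinearMap.BilinForm.add_right, LinearMap.BilinForm.smul_right, ha, hB02, mul_zero,
      add_zero, zero_add] at h
    exact mul_right_cancel₀ hab (by rw [h, one_mul])
  rw [hy2, zero_smul, add_zero] at e2
  have hdet := det_upper B (ρ g) (by rw [hB0]; exact hga) e2 e1
  rw [D.det, hy1, one_mul] at hdet
  rw [← hdet, one_smul] at e2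
  rw [hy1, one_smul] at e1
  have f0 : (ρ g - 1 : Module.End k U) (B 0) = 0 := by
    show ρ g (B 0) - B 0 = 0
    rw [hB0, hga, sub_self]
  have f2 : (ρ g - 1 : Module.End k U) (B 2) = x2 • B 0 := by
    show ρ g (B 2) - B 2 = _
    rw [e2, add_sub_cancel_right]
  have f1 : (ρ g - 1 : Module.End k U) (B 1) = x1 • B 0 + z1 • B 2 := by
    show ρ g (B 1) - B 1 = _
    rw [e1]; abel
  apply ext_frame B
  · rw [pow_succ, Module.End.mul_apply, f0, map_zero]; rfl
  · rw [pow_succ, pow_succ, pow_one, Module.End.mul_apply, Module.End.mul_apply, f1, map_add,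
      map_smul, map_smul, f0, f2, smul_zero, zero_add, map_smul, map_smul, f0, smul_zero, smul_zero]
    rfl
  · rw [pow_succ, pow_succ, pow_one, Module.End.mul_apply, Module.End.mul_apply, f2, map_smul, f0,
      smul_zero, map_zero]
    rfl

theorem mobius [IsAlgClosed k] {s : ℕ} [Fact s.Prime] [CharP k s] (D : Dat β ρ) :
    Cfsg.Agent.ClassicalGeometry.DicksonAbstract.MobiusLike k s X (Pt D) where
  exists_fixed := D.exists_fixed
  eq_one := D.eq_one_of_three
  sq_eq_one := D.sq_eq_one
  char x := by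
    obtain ⟨a, ha0, ha, rfl⟩ := D.exists_rep x
    obtain ⟨χ, hχ⟩ := D.exists_char ha0 ha
    refine ⟨χ, fun g => ?_⟩
    constructor
    · intro h1
      have hga : ρ (g : X) a = a := by
        rw [hχ g, h1, Units.val_one, one_smul]
      by_cases hall : ∀ y : Pt D, (g : X) • y = y → y = D.pt a ha0 ha
      · exact Or.inr hall
      · left
        push Not at hall
        obtain ⟨y, hy, hya⟩ := hall
        exact D.eq_one_of_fixed_vector ha0 ha hga hya hy
    · rintro (h1 | h1)
      · have : g = 1 := Subtype.ext h1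
        rw [this, map_one]
      · have hga := D.fixed_of_only ha0 ha h1
        apply Units.ext
        rw [Units.val_one]
        apply smul_left_injective k ha0
        show (χ g : k) • a = (1 : k) • a
        rw [← hχ g, hga, one_smul]
  pow_eq_one g x h := by
    have : FiniteDimensional k U := FiniteDimensional.of_finrank_eq_succ D.fr
    obtain ⟨a, ha0, ha, rfl⟩ := D.exists_rep x
    have hga := D.fixed_of_only ha0 ha h
    have h3 := D.cube_eq_zero ha0 ha hga
    have hs : 3 ≤ s := by
      have hp := (Fact.out : s.Prime)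
      have h2 := hp.two_le
      rcases Nat.lt_or_ge s 3 with h | h
      · exfalso
        have hs2 : s = 2 := by omega
        apply D.two
        have h4 : ((s : ℕ) : k) = 0 := CharP.cast_eq_zero k s
        rw [hs2] at h4
        exact_mod_cast h4
      · exact h
    have h4 : (ρ g - 1 : Module.End k U) ^ s = 0 := pow_eq_zero_of_le hs h3
    have : Nontrivial U := Module.nontrivial_of_finrank_pos (R := k) (by rw [D.fr]; norm_num)
    have : CharP (Module.End k U) s :=
      charP_of_injective_algebraMap (algebraMap k (Module.End k U)).injective s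
    have h5 : (ρ g - 1 : Module.End k U) ^ s = (ρ g : Module.End k U) ^ s - 1 ^ s :=
      sub_pow_char_of_commute _ (Commute.one_right _)
    rw [h4, one_pow] at h5
    apply D.inj
    rw [map_pow, map_one]
    exact (sub_eq_zero.1 h5.symm)

end Dat

end pts

end Cfsg.Agent.H697.Conic
end

-- part: H697/ConicCard
section
/-!
# Finite groups of Moebius type of order divisible exactly once by the characteristic
-/

set_option autoImplicit false

namespace Cfsg.Agent.H697.ConicCard

open MulAction
open Cfsg.Agent.ClassicalGeometry.DicksonAbstract Cfsg.Agent.ClassicalGeometry.DicksonCount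

variable {k : Type*} [Field k] {s : ℕ} {X Y : Type*} [Group X] [MulAction X Y] [Finite X]

theorem card_Q_eq [Fact s.Prime] [CharP k s] (h : MobiusLike k s X Y) (hs2 : ¬ s ^ 2 ∣ Nat.card X)
    {y : Y} (hy : Nat.card (h.Q y) ≠ 1) : Nat.card (h.Q y) = s := by
  have hs := (Fact.out : s.Prime)
  obtain ⟨n, hn⟩ := (IsPGroup.iff_card.1 (h.isPGroup_Q y))
  have h1 : Nat.card (h.Q y) ∣ Nat.card X := Subgroup.card_subgroup_dvd_card _
  rcases n with _ | _ | n
  · rw [pow_zero] at hn
    exact absurd hn hy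
  · rw [hn, zero_add, pow_one]
  · exfalso
    apply hs2
    rw [hn] at h1
    exact (pow_dvd_pow s (by omega)).trans h1

/-- A finite group of Moebius type in characteristic `s ≥ 7` with an element of order `s` and order not
divisible by `s ^ 2`: either `⟨x⟩` is normal, or the order is `s (s + 1) t` with `t = s - 1` or
`t = (s - 1) / 2`. -/
theorem main [Fact s.Prime] [CharP k s] (h : MobiusLike k s X Y) (hs7 : 7 ≤ s) {x : X}
    (hx : orderOf x = s) (hs2 : ¬ s ^ 2 ∣ Nat.card X) :
    (Subgroup.zpowers x).Normal ∨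
    ∃ (N : Subgroup X) (t : ℕ), (t = s - 1 ∨ 2 * t = s - 1) ∧ Nat.card N = s * t ∧
      N.index = s + 1 ∧ (∀ g ∈ N, g * x * g⁻¹ ∈ Subgroup.zpowers x) ∧
      ∀ g : X, g * x = x * g → g ∈ Subgroup.zpowers x := by
  classical
  have hs := (Fact.out : s.Prime)
  have hx1 : x ≠ 1 := by
    rintro rfl
    rw [orderOf_one] at hx
    omega
  have hsX : s ∣ Nat.card X := by rw [← hx]; exact orderOf_dvd_natCard x
  have : Nontrivial X := ⟨⟨x, 1, hx1⟩⟩
  obtain ⟨y₀, hy₀⟩ := h.exists_mem_Q hx1 (n := 1) (by rw [pow_one, ← hx]; exact pow_orderOf_eq_one x)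
  have hfix : ∀ y, x • y = y ↔ y = y₀ := h.fix_iff_of_mem_Q hy₀ hx1
  have hQcard : Nat.card (h.Q y₀) = s := by
    apply card_Q_eq h hs2
    intro hc
    have : h.Q y₀ = ⊥ := Subgroup.eq_bot_of_card_eq _ hc
    rw [this, Subgroup.mem_bot] at hy₀
    exact hx1 hy₀
  have hQ : h.Q y₀ = Subgroup.zpowers x := by
    symm
    apply Subgroup.eq_of_le_of_card_ge
    · rw [Subgroup.zpowers_le]; exact hy₀
    · rw [hQcard, Nat.card_zpowers, hx]
  obtain ⟨S, R, hSR⟩ := exists_Reps h
  rcases cases h hSR with ⟨w, hw⟩ | ⟨w, hw⟩ | ⟨_, _, _, -, -, -, -, -, -, -, -, -, hcard⟩ |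
    ⟨_, _, -, -, -, -, hcard, -⟩ | ⟨w, hw3, hworb, t, hwt, ht⟩
  · -- a global fixed point
    left
    have hwy : w = y₀ := (hfix w).1 (hw x)
    subst hwy
    refine ⟨fun n hn g => ?_⟩
    rw [← hQ] at hn ⊢
    have h1 := (h.mem_Q_smul g w n).1 hn
    rwa [hw g] at h1
  · -- an orbit of length two
    exfalso
    obtain ⟨a, b, hab, hab'⟩ := Nat.card_eq_two_iff.1 hw
    have hmem : ∀ c : orbit X w, c = a ∨ c = b := by
      intro c
      have : c ∈ ({a, b} : Set (orbit X w)) := by rw [hab']; trivial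
      simpa using this
    have hab1 : (a : Y) ≠ b := fun hc => hab (Subtype.ext hc)
    rcases hmem (x • a) with h1 | h1
    · have h1' : x • (a : Y) = a := congrArg Subtype.val h1
      have h2 : x • (b : Y) = b := by
        rcases hmem (x • b) with h2 | h2
        · exfalso
          apply hab
          have h3 : x • a = x • b := h1.trans h2.symm
          exact smul_left_cancel x h3
        · exact congrArg Subtype.val h2
      apply hx1
      exact h.eq_one_of_two hab1 h1' h2 (by rw [← hx]; exact pow_orderOf_eq_one x)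
    · have h1' : x • (a : Y) = b := congrArg Subtype.val h1
      have h2 : x • (b : Y) = a := by
        rcases hmem (x • b) with h2 | h2
        · exact congrArg Subtype.val h2
        · exfalso
          apply hab
          have h3 : x • a = x • b := h1.trans h2.symm
          exact smul_left_cancel x h3
      have h3 := h.sq_eq_one x a b hab1 h1' h2
      have h4 : orderOf x ∣ 2 := orderOf_dvd_of_pow_eq_one (by rw [sq]; exact h3)
      rw [hx] at h4
      have := Nat.le_of_dvd (by norm_num) h4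
      omega
  · exfalso
    have h12 : s ∣ 12 ∨ s ∣ 24 ∨ s ∣ 60 := by
      rcases hcard with ⟨h1, -⟩ | ⟨h1, -⟩ | ⟨h1, -⟩
      · left; rw [← h1]; exact hsX
      · right; left; rw [← h1]; exact hsX
      · right; right; rw [← h1]; exact hsX
    have key : s ∣ 2 ^ 3 * 3 * 5 := by
      rcases h12 with h1 | h1 | h1
      · exact h1.trans ⟨10, by norm_num⟩
      · exact h1.trans ⟨5, by norm_num⟩
      · exact h1.trans ⟨2, by norm_num⟩
    rcases (Nat.Prime.dvd_mul hs).1 key with h1 | h1
    · rcases (Nat.Prime.dvd_mul hs).1 h1 with h2 | h2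
      · have := Nat.le_of_dvd (by norm_num) (hs.dvd_of_dvd_pow h2)
        omega
      · have := Nat.le_of_dvd (by norm_num) h2
        omega
    · have := Nat.le_of_dvd (by norm_num) h1
      omega
  · exfalso
    rw [hcard] at hsX
    have key : s ∣ 2 ^ 2 * 3 * 5 := hsX
    rcases (Nat.Prime.dvd_mul hs).1 key with h1 | h1
    · rcases (Nat.Prime.dvd_mul hs).1 h1 with h2 | h2
      · have := Nat.le_of_dvd (by norm_num) (hs.dvd_of_dvd_pow h2)
        omega
      · have := Nat.le_of_dvd (by norm_num) h2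
        omega
    · have := Nat.le_of_dvd (by norm_num) h1
      omega
  · right
    have hQw : Nat.card (h.Q w) = s := card_Q_eq h hs2 (by omega)
    have hQw' : h.Q w ≠ ⊥ := by
      intro hc
      rw [hc, Subgroup.card_bot] at hQw
      omega
    have hQy' : h.Q y₀ ≠ ⊥ := by
      intro hc
      rw [hc, Subgroup.card_bot] at hQcard
      omega
    obtain ⟨g, hg⟩ := h.exists_smul_eq hQw' hQy'
    rw [hQw] at hworb hwt ht
    refine ⟨stabilizer X y₀, t, ht, ?_, ?_, ?_, ?_⟩
    · rw [← hg, card_stab_smul, hwt]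
    · rw [MulAction.index_stabilizer]
      have h1 : orbit X y₀ = orbit X w := by
        rw [← hg]; exact MulAction.orbit_smul g w
      rw [h1, ← hworb]
      exact Nat.card_coe_set_eq _
    · intro g hg
      have hg' : g • y₀ = y₀ := hg
      rw [← hQ]
      have h1 := (h.mem_Q_smul g y₀ x).1 hy₀
      rwa [hg'] at h1
    · intro g hgx
      have h1 : g • y₀ = y₀ := by
        rw [← hfix, ← mul_smul, ← hgx, mul_smul, (hfix y₀).2 rfl]
      by_cases hall : ∀ y, g • y = y → y = y₀
      · rw [← hQ, h.mem_Q]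
        exact Or.inr hall
      · push Not at hall
        obtain ⟨z, hz, hzy⟩ := hall
        have h2 : g = 1 := by
          refine h.eq_one g y₀ z (x • z) (Ne.symm hzy) ?_ ?_ h1 hz ?_
          · intro hc
            apply hzy
            have h3 : x • z = x • y₀ := by rw [← hc, (hfix y₀).2 rfl]
            exact smul_left_cancel x h3
          · intro hc
            exact hzy ((hfix z).1 hc.symm)
          · rw [← mul_smul, hgx, mul_smul, hz]
        rw [h2]
        exact one_mem _

end Cfsg.Agent.H697.ConicCard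
end

-- part: H697/FTDeg
section
/-!
# Groups with a Sylow subgroup of prime order `s` and a faithful representation of degree `< s / 2`
in characteristic `s`

The theorem of Feit and Thompson for arbitrary finite groups.
-/

set_option autoImplicit false

namespace Cfsg.Agent.H697.FTDeg

open Module
open Cfsg.Agent.LieRecognition.FT61

section dat

variable {k U D : Type*} [Field k] [AddCommGroup U] [Module k U] [Group D]

/-- The representation `det (σ g) • σ g`. -/
noncomputable def twist (σ : Representation k D U) (hfr : finrank k U = 3)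
    (hdet : ∀ g, LinearMap.det (σ g) ^ 2 = 1) : Representation k D U where
  toFun g := LinearMap.det (σ g) • σ g
  map_one' := by rw [map_one, map_one, one_smul]
  map_mul' g h := by
    rw [map_mul, map_mul, smul_mul_smul_comm]

theorem twist_apply (σ : Representation k D U) (hfr : finrank k U = 3)
    (hdet : ∀ g, LinearMap.det (σ g) ^ 2 = 1) (g : D) :
    twist σ hfr hdet g = LinearMap.det (σ g) • σ g := rfl

theorem det_twist (σ : Representation k D U) (hfr : finrank k U = 3)
    (hdet : ∀ g, LinearMap.det (σ g) ^ 2 = 1) (g : D) :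
    LinearMap.det (twist σ hfr hdet g) = 1 := by
  rw [twist_apply, LinearMap.det_smul, hfr]
  have h := hdet g
  have h1 : LinearMap.det (σ g) ^ 3 * LinearMap.det (σ g) = (LinearMap.det (σ g) ^ 2) ^ 2 := by ring
  rw [h1, h, one_pow]

/-- The factor group acting faithfully on the three-dimensional space by isometries of determinant one. -/
theorem exists_dat (s : ℕ) [Fact s.Prime] [CharP k s] (hs2 : s ≠ 2)
    (σ : Representation k D U) (hfr : finrank k U = 3) (β : LinearMap.BilinForm k U)
    (hsymm : β.IsSymm) (hnd : β.Nondegenerate)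
    (hβ : ∀ (g : D) (u w : U), β (σ g u) (σ g w) = β u w) {x : D} (hxs : x ^ s = 1)
    (hxσ : σ x ≠ 1) :
    ∃ (K : Subgroup D) (hK : K.Normal) (τ : Representation k (D ⧸ K) U),
      Conic.Dat β τ ∧ x ∉ K := by
  have hs := (Fact.out : s.Prime)
  have hdet : ∀ g, LinearMap.det (σ g) ^ 2 = 1 := fun g => (O3Lin.det_sub_one hfr hnd (hβ g)).2
  let σ' := twist σ hfr hdet
  let K : Subgroup D := MonoidHom.ker σ'
  let τ : Representation k (D ⧸ K) U := QuotientGroup.lift K σ' le_rfl
  have hτ : ∀ g : D, τ (g : D ⧸ K) = σ' g := fun g => rfl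
  have hτi : Function.Injective τ := by
    intro a b hab
    obtain ⟨a, rfl⟩ := QuotientGroup.mk_surjective a
    obtain ⟨b, rfl⟩ := QuotientGroup.mk_surjective b
    rw [hτ, hτ] at hab
    refine QuotientGroup.eq.2 ?_
    show σ' (a⁻¹ * b) = 1
    rw [map_mul, ← hab, ← map_mul, inv_mul_cancel, map_one]
  refine ⟨K, inferInstance, τ, ⟨?_, hfr, hsymm, hnd, ?_, ?_, hτi⟩, ?_⟩
  · intro h2
    have h1 : ((2 : ℕ) : k) = 0 := by exact_mod_cast h2
    rw [CharP.cast_eq_zero_iff k s] at h1
    exact hs2 ((Nat.prime_dvd_prime_iff_eq hs Nat.prime_two).1 h1)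
  · intro g u v
    obtain ⟨g, rfl⟩ := QuotientGroup.mk_surjective g
    rw [hτ]
    show β (LinearMap.det (σ g) • σ g u) (LinearMap.det (σ g) • σ g v) = β u v
    rw [LinearMap.BilinForm.smul_left, LinearMap.BilinForm.smul_right, hβ, ← mul_assoc, ← sq,
      hdet, one_mul]
  · intro g
    obtain ⟨g, rfl⟩ := QuotientGroup.mk_surjective g
    rw [hτ]
    exact det_twist σ hfr hdet g
  · intro hx
    apply hxσ
    have h1 : LinearMap.det (σ x) • σ x = 1 := hx
    have h2 : LinearMap.det (σ x) = 1 := by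
      have h3 : LinearMap.det (σ x) ^ s = 1 := by
        rw [← map_pow, ← map_pow, hxs, map_one, map_one]
      obtain ⟨m, hm⟩ := hs.odd_of_ne_two hs2
      rw [hm, pow_succ, pow_mul, hdet, one_pow, one_mul] at h3
      exact h3
    rwa [h2, one_smul] at h1

end dat

section

variable {D : Type*} [Group D] [Finite D]

theorem sq_not_dvd {s : ℕ} [Fact s.Prime] (P : Sylow s D) (hP : Nat.card P = s) :
    ¬ s ^ 2 ∣ Nat.card D := by
  intro h
  have h1 := P.card_eq_multiplicity
  rw [hP] at h1
  have hs := (Fact.out : s.Prime)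
  have h2 : 2 ≤ (Nat.card D).factorization s :=
    (hs.pow_dvd_iff_le_factorization Nat.card_pos.ne').1 h
  have h3 : s ^ 2 ≤ s ^ (Nat.card D).factorization s := Nat.pow_le_pow_right hs.pos h2
  rw [← h1] at h3
  have := hs.two_le
  nlinarith

end

section

variable {k V D : Type*} [Field k] [AddCommGroup V] [Module k V] [FiniteDimensional k V] [Group D]
  [Finite D]

/-- If `H` is normal and `N_H(P)` centralises `x`, then `H` centralises `x`. -/
theorem central_of_normal (s : ℕ) [Fact s.Prime] [CharP k s]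
    (ρ : Representation k D V) (hρ : Function.Injective ρ)
    (hdim : 2 * Module.finrank k V < s) (P : Sylow s D) (hP : Nat.card P = s) {x : D}
    (hx : x ∈ (P : Subgroup D)) (H : Subgroup D) (hHn : H.Normal) (hPH : (P : Subgroup D) ≤ H)
    (hcomm : ∀ g ∈ H, g ∈ Subgroup.normalizer ((P : Subgroup D) : Set D) → g * x = x * g) :
    ∀ g ∈ H, g * x = x * g := by
  let PH : Sylow s H := P.subtype hPH
  have hPHcard : Nat.card PH = s :=
    (Nat.card_congr (Subgroup.subgroupOfEquivOfLe hPH).toEquiv).trans hP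
  have hxH : x ∈ H := hPH hx
  intro g hg
  have h1 := ThmC1.central_of_le s (MonoidHom.comp ρ H.subtype) (hρ.comp H.subtype_injective) hdim PH
    hPHcard (x := ⟨x, hxH⟩) hx (by
      intro g hgN
      apply Subtype.ext
      refine hcomm g g.2 ?_
      rw [Subgroup.mem_normalizer_iff]
      intro y
      constructor
      · intro hy
        exact ((Subgroup.mem_normalizer_iff.1 hgN) ⟨y, hPH hy⟩).1 hy
      · intro hy
        have hyH : y ∈ H := by
          have h2 := hHn.conj_mem _ (hPH hy) (g : D)⁻¹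
          simpa [mul_assoc] using h2
        exact ((Subgroup.mem_normalizer_iff.1 hgN) ⟨y, hyH⟩).2 hy) ⟨g, hg⟩
  exact congrArg Subtype.val h1

/-- Commuting with `x` implies normalising `P`. -/
theorem mem_normalizer_of_commute {s : ℕ} [Fact s.Prime] (P : Sylow s D) (hP : Nat.card P = s) {x : D}
    (hx : x ∈ (P : Subgroup D)) (hx1 : x ≠ 1) {g : D} (h : g * x = x * g) :
    g ∈ Subgroup.normalizer ((P : Subgroup D) : Set D) := by
  have hPx := ThmC1.zpowers_eq P hP hx hx1
  have h3 : ∀ y ∈ (P : Subgroup D), g * y * g⁻¹ = y := by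
    intro y hy
    rw [← hPx] at hy
    obtain ⟨n, rfl⟩ := hy
    have h4 : Commute g (x ^ n) := (show Commute g x from h).zpow_right n
    show g * x ^ n * g⁻¹ = x ^ n
    rw [h4.eq, mul_inv_cancel_right]
  rw [Subgroup.mem_normalizer_iff]
  intro y
  constructor
  · intro hy
    rw [h3 y hy]
    exact hy
  · intro hy
    have h4 := h3 _ hy
    have h5 : g * y * g⁻¹ = y := by
      have h6 := mul_left_cancel (mul_right_cancel h4)
      exact h6
    rwa [h5] at hy

/-- If a normal subgroup containing `x` centralises `x`, then `P` is normal. -/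
theorem normal_of_central {s : ℕ} [Fact s.Prime] (P : Sylow s D) (hP : Nat.card P = s) {x : D}
    (hx : x ∈ (P : Subgroup D)) (hx1 : x ≠ 1) (H : Subgroup D) (hHn : H.Normal)
    (hxH : x ∈ H) (hH : ∀ g ∈ H, g * x = x * g) : (P : Subgroup D).Normal := by
  apply ThmC.normal_of_conj_mem s P hP hx hx1
  intro g
  exact mem_normalizer_of_commute P hP hx hx1 (hH _ (hHn.conj_mem x hxH g))

/-- **Feit and Thompson**, general form. -/
theorem main {k V D : Type*} [Field k] [IsAlgClosed k] [AddCommGroup V] [Module k V]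
    [FiniteDimensional k V] [Group D] [Finite D] (s : ℕ) [Fact s.Prime] [CharP k s] (hs7 : 7 ≤ s)
    (ρ : Representation k D V) (hρ : Function.Injective ρ)
    (hdim : 2 * Module.finrank k V < s) (P : Sylow s D) (hP : Nat.card P = s) {x : D}
    (hx : x ∈ (P : Subgroup D)) (hx1 : x ≠ 1) :
    (P : Subgroup D).Normal ∨ ∃ (K N : Subgroup D) (t : ℕ), K.Normal ∧ (t = s - 1 ∨ 2 * t = s - 1) ∧
      x ∉ K ∧ (∀ g ∈ K, g * x = x * g) ∧
      (∀ g, g * x = x * g → g ∈ K ⊔ Subgroup.zpowers x) ∧
      Nat.card (Subgroup.centralizer {x}) = Nat.card K * s ∧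
      N ≤ Subgroup.normalizer ((P : Subgroup D) : Set D) ∧ Nat.card N = Nat.card K * (s * t) ∧
      N.index = s + 1 := by
  classical
  have hs : s.Prime := Fact.out
  have hs2 : s ≠ 2 := by omega
  have hPx := ThmC1.zpowers_eq P hP hx hx1
  have hxp := ThmC1.pow_eq_one_of_mem P hP hx
  have hxo : orderOf x = s := orderOf_eq_prime hxp hx1
  by_cases hcent : ∀ g ∈ Subgroup.normalizer ((P : Subgroup D) : Set D), g * x = x * g
  · left
    have h1 := ThmC1.central_of_le s ρ hρ hdim P hP hx hcent
    exact normal_of_central P hP hx hx1 ⊤ inferInstance (Subgroup.mem_top x) fun g _ => h1 g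
  obtain ⟨N₁, hcard, hN₁, hN⟩ := ThmC2.exists_complement P hP hx hx1
  obtain ⟨α, hα⟩ := Triple.exists_alpha (k := k) s hxo N₁ hN₁
  obtain ⟨σ, v, hv3, hv2, hspan, hvα⟩ := ThmC2.exists_sub s ρ hρ hs2 hdim P hP hx hx1 hcard hα hN
  obtain ⟨hfr, β, hsymm, hnd, hβ⟩ := Form.exists_form s hs7 σ.toRepresentation hxo N₁ hα
    (Subgroup.normalizer ((P : Subgroup D) : Set D)) hN (by
      intro g hg y hy hyg
      rw [hPx] at hy
      exact EndRep.ti_of_card s P hP g hg y hy hyg) v hv3 hv2 hspan hvα
  have hxσ : σ.toRepresentation x ≠ 1 := by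
    intro h
    apply hv2
    have h1 : (σ.toRepresentation x - 1 : Module.End k σ.toSubmodule) = 0 := sub_eq_zero.2 h
    rw [h1, zero_pow two_ne_zero, LinearMap.zero_apply]
  obtain ⟨K, hK, τ, hD, hxK⟩ := exists_dat s hs2 σ.toRepresentation hfr β hsymm hnd hβ hxp hxσ
  have hmob := hD.mobius (s := s)
  have hxbar : orderOf (x : D ⧸ K) = s := by
    apply orderOf_eq_prime
    · rw [← QuotientGroup.mk_pow, hxp, QuotientGroup.mk_one]
    · intro h
      exact hxK ((QuotientGroup.eq_one_iff x).1 h)
  have hsq : ¬ s ^ 2 ∣ Nat.card (D ⧸ K) := fun h =>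
    sq_not_dvd P hP (h.trans (Subgroup.card_quotient_dvd_card K))
  have hPK : ∀ y ∈ (P : Subgroup D), y ∈ K → y = 1 := by
    intro y hy hyK
    by_contra hy1
    have h1 := ThmC1.zpowers_eq P hP hy hy1
    rw [← h1] at hx
    exact hxK ((Subgroup.zpowers_le.2 hyK) hx)
  -- the preimage of `⟨x⟩ K / K`
  set H : Subgroup D := (Subgroup.zpowers (x : D ⧸ K)).comap (QuotientGroup.mk' K) with hH
  have hxH : x ∈ H := Subgroup.mem_zpowers (x : D ⧸ K)
  have hPH : (P : Subgroup D) ≤ H := by
    rw [← hPx, Subgroup.zpowers_le]; exact hxH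
  have hKH : K ≤ H := by
    intro g hg
    have h1 : (g : D ⧸ K) = 1 := (QuotientGroup.eq_one_iff g).2 hg
    show (g : D ⧸ K) ∈ Subgroup.zpowers (x : D ⧸ K)
    rw [h1]
    exact one_mem _
  have hcommH : ∀ g ∈ H, g ∈ Subgroup.normalizer ((P : Subgroup D) : Set D) → g * x = x * g := by
    intro g hg hgN
    have hg' : (g : D ⧸ K) ∈ Subgroup.zpowers (x : D ⧸ K) := hg
    obtain ⟨n, hn⟩ := hg'
    have h1 : g * x * g⁻¹ ∈ (P : Subgroup D) := ((Subgroup.mem_normalizer_iff.1 hgN) x).1 hx
    have h2 : g * x * g⁻¹ * x⁻¹ ∈ K := by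
      rw [← QuotientGroup.eq_one_iff]
      rw [QuotientGroup.mk_mul, QuotientGroup.mk_mul, QuotientGroup.mk_mul, QuotientGroup.mk_inv,
        QuotientGroup.mk_inv]
      have h3 : (x : D ⧸ K) ^ n = (g : D ⧸ K) := hn
      rw [← h3]
      group
    have h4 := hPK _ ((P : Subgroup D).mul_mem h1 ((P : Subgroup D).inv_mem hx)) h2
    rw [mul_inv_eq_one, mul_inv_eq_iff_eq_mul] at h4
    exact h4
  have hsub : K ⊔ Subgroup.zpowers x = H := by
    apply le_antisymm
    · rw [sup_le_iff, Subgroup.zpowers_le]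
      exact ⟨hKH, hxH⟩
    · intro g hg
      have hg' : (g : D ⧸ K) ∈ Subgroup.zpowers (x : D ⧸ K) := hg
      obtain ⟨n, hn⟩ := hg'
      have h3 : ((x ^ n : D) : D ⧸ K) = (g : D ⧸ K) := by
        rw [QuotientGroup.mk_zpow]; exact hn
      have h4 : g * (x ^ n)⁻¹ ∈ K := by
        rw [← QuotientGroup.eq_one_iff, QuotientGroup.mk_mul, QuotientGroup.mk_inv, h3,
          mul_inv_cancel]
      have h5 : g = g * (x ^ n)⁻¹ * x ^ n := by group
      rw [h5]
      exact Subgroup.mul_mem_sup h4 (Subgroup.zpow_mem_zpowers x n)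
  rcases ConicCard.main hmob hs7 hxbar hsq with hn | ⟨N', t, ht, hN't, hN'i, hN'c, hcx⟩
  · left
    have hHn : H.Normal := hn.comap _
    have hHc := central_of_normal s ρ hρ hdim P hP hx H hHn hPH hcommH
    exact normal_of_central P hP hx hx1 H hHn hxH hHc
  · right
    -- `P` is normalised by the preimage of `N'`
    have hHc : ∀ g ∈ H, g * x = x * g := by
      -- apply the central theorem inside `H`
      let PH : Sylow s H := P.subtype hPH
      have hPHcard : Nat.card PH = s :=
        (Nat.card_congr (Subgroup.subgroupOfEquivOfLe hPH).toEquiv).trans hP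
      intro g hg
      have h1 := ThmC1.central_of_le s (MonoidHom.comp ρ H.subtype) (hρ.comp H.subtype_injective) hdim
        PH hPHcard (x := ⟨x, hxH⟩) hx (by
          intro g hgN
          apply Subtype.ext
          refine hcommH g g.2 ?_
          rw [Subgroup.mem_normalizer_iff]
          intro y
          constructor
          · intro hy
            exact ((Subgroup.mem_normalizer_iff.1 hgN) ⟨y, hPH hy⟩).1 hy
          · intro hy
            have hyH : y ∈ H := by
              have h2 := H.mul_mem (H.mul_mem (H.inv_mem g.2) (hPH hy)) g.2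
              simpa [mul_assoc] using h2
            exact ((Subgroup.mem_normalizer_iff.1 hgN) ⟨y, hyH⟩).2 hy) ⟨g, hg⟩
      exact congrArg Subtype.val h1
    set N : Subgroup D := N'.comap (QuotientGroup.mk' K) with hNdef
    have hCH : Subgroup.centralizer {x} = H := by
      apply le_antisymm
      · intro g hg
        rw [Subgroup.mem_centralizer_singleton_iff] at hg
        apply hcx
        show (g : D ⧸ K) * x = x * g
        rw [← QuotientGroup.mk_mul, ← QuotientGroup.mk_mul, hg]
      · intro g hg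
        rw [Subgroup.mem_centralizer_singleton_iff]
        exact hHc g hg
    have hcardcomap : ∀ L : Subgroup (D ⧸ K), Nat.card (L.comap (QuotientGroup.mk' K)) =
        Nat.card K * Nat.card L := by
      intro L
      have h1 := Subgroup.index_comap_of_surjective L (QuotientGroup.mk'_surjective K)
      have h2 := (L.comap (QuotientGroup.mk' K)).card_mul_index
      have h3 := L.card_mul_index
      have h4 := Subgroup.card_eq_card_quotient_mul_card_subgroup K
      rw [h1] at h2
      have h5 : 0 < L.index := Nat.pos_of_ne_zero (Subgroup.index_ne_zero_of_finite)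
      apply Nat.eq_of_mul_eq_mul_right h5
      rw [h2, h4, ← h3]
      ring
    refine ⟨K, N, t, hK, ht, hxK, fun g hg => hHc g (hKH hg), ?_, ?_, ?_, ?_, ?_⟩
    · intro g hg
      rw [hsub]
      rw [← hCH, Subgroup.mem_centralizer_singleton_iff]
      exact hg
    · rw [hCH, hH, hcardcomap, Nat.card_zpowers, hxbar]
    · intro g hg
      by_contra hgN
      apply hx1
      refine EndRep.ti_of_card s P hP g hgN x hx ?_
      apply mem_normalizer_of_commute P hP hx hx1
      apply hHc
      have h1 := hN'c (g⁻¹ : D ⧸ K) (N'.inv_mem hg)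
      rw [inv_inv] at h1
      exact h1
    · rw [hNdef, hcardcomap, hN't]
    · rw [hNdef, Subgroup.index_comap_of_surjective _ (QuotientGroup.mk'_surjective K), hN'i]

end

end Cfsg.Agent.H697.FTDeg
end

-- part: H697/HeringMat
section
/-!
# `q'`-groups of matrices over the prime field and primitive prime divisors

`D ≤ GL_n(q)` of order prime to `q`, `s` a primitive prime divisor of `q ^ n - 1`, large in the sense that
`s > 2 n` or `s ^ 2` divides the order of `D`. Then the Sylow `s`-subgroups of `D` are normal, or `s = 2 n + 1`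
and `D` is a central type extension of a group of order `n (2 n + 1) (2 n + 2)`.
-/

set_option autoImplicit false

namespace Cfsg.Agent.H697.HeringMat

open Matrix Module
open Cfsg.Agent.LieRecognition.FT61

/-- A primitive prime divisor of `q ^ n - 1` is congruent to `1` modulo `n`. -/
theorem dvd_sub_one {q n s : ℕ} (hs : s.Prime) (hq : 0 < q) (hn : 0 < n) (hsn : s ∣ q ^ n - 1)
    (hsd : ∀ d, 0 < d → d < n → ¬ s ∣ q ^ d - 1) : n ∣ s - 1 := by
  have : Fact s.Prime := ⟨hs⟩
  have hpow : ∀ m, ((q : ℕ) : ZMod s) ^ m = 1 ↔ s ∣ q ^ m - 1 := by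
    intro m
    rw [← ZMod.natCast_eq_zero_iff, Nat.cast_sub (Nat.one_le_pow _ _ hq), Nat.cast_pow, Nat.cast_one,
      sub_eq_zero]
  have h1 : ((q : ℕ) : ZMod s) ^ n = 1 := (hpow n).2 hsn
  have h0 : ((q : ℕ) : ZMod s) ≠ 0 := by
    intro h
    rw [h, zero_pow hn.ne'] at h1
    exact zero_ne_one h1
  have h2 : orderOf ((q : ℕ) : ZMod s) = n := by
    rw [orderOf_eq_iff hn]
    refine ⟨h1, fun m hm hm0 h => ?_⟩
    exact hsd m hm0 hm ((hpow m).1 h)
  rw [← h2]
  exact ZMod.orderOf_dvd_card_sub_one h0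

section

variable {D : Type*} [Group D] {q n : ℕ} [Fact q.Prime]

/-- The action on column vectors. -/
def toEnd (σ : D →* GL (Fin n) (ZMod q)) : D →* Module.End (ZMod q) (Fin n → ZMod q) :=
  ((Matrix.toLinAlgEquiv' (R := ZMod q) (n := Fin n) : _ ≃ₐ[ZMod q] _).toMulEquiv.toMonoidHom).comp
    ((Units.coeHom _).comp σ)

theorem toEnd_injective {σ : D →* GL (Fin n) (ZMod q)} (hσ : Function.Injective σ) :
    Function.Injective (toEnd σ) := by
  intro a b hab
  apply hσ
  apply Units.ext
  exact (Matrix.toLinAlgEquiv' (R := ZMod q) (n := Fin n)).injective hab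

theorem isCyclic_centralizer (σ : D →* GL (Fin n) (ZMod q))
    (hσ : Function.Injective σ) {s : ℕ} (hs : s.Prime) (hsn : s ∣ q ^ n - 1)
    (hsd : ∀ d, 0 < d → d < n → ¬ s ∣ q ^ d - 1) {z : D} (hz : orderOf z = s) :
    IsCyclic (Subgroup.centralizer ({z} : Set D)) := by
  have hcard : Nat.card (ZMod q) = q := Nat.card_zmod q
  have hrank : Module.finrank (ZMod q) (Fin n → ZMod q) = n := by simp
  exact Cfsg.Agent.LieExceptional.SingerCentralizer.isCyclic_centralizer (toEnd σ)
    (toEnd_injective hσ) hs hz (by rw [hcard, hrank]; exact hsn) (by rw [hcard, hrank]; exact hsd)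

theorem card_normalizer_le (σ : D →* GL (Fin n) (ZMod q))
    (hσ : Function.Injective σ) {s : ℕ} (hs : s.Prime) (hsn : s ∣ q ^ n - 1)
    (hsd : ∀ d, 0 < d → d < n → ¬ s ∣ q ^ d - 1) {z : D} (hz : orderOf z = s) :
    Nat.card (Subgroup.normalizer ((Subgroup.centralizer ({z} : Set D) : Subgroup D) : Set D)) ≤
      n * Nat.card (Subgroup.centralizer ({z} : Set D)) := by
  have hcard : Nat.card (ZMod q) = q := Nat.card_zmod q
  have hrank : Module.finrank (ZMod q) (Fin n → ZMod q) = n := by simp
  have h := Cfsg.Agent.LieExceptional.SingerCentralizer.card_normalizer_centralizer_le (toEnd σ)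
    (toEnd_injective hσ) hs hz (by rw [hcard, hrank]; exact hsn) (by rw [hcard, hrank]; exact hsd)
  rwa [hrank] at h

/-- The normaliser of `⟨z⟩` normalises the centraliser of `z`. -/
theorem normalizer_zpowers_le (z : D) :
    Subgroup.normalizer ((Subgroup.zpowers z : Subgroup D) : Set D) ≤
      Subgroup.normalizer ((Subgroup.centralizer ({z} : Set D) : Subgroup D) : Set D) := by
  have key : ∀ g ∈ Subgroup.normalizer ((Subgroup.zpowers z : Subgroup D) : Set D), ∀ h : D,
      h ∈ Subgroup.centralizer ({z} : Set D) → g * h * g⁻¹ ∈ Subgroup.centralizer ({z} : Set D) := by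
    intro g hg h hh
    rw [Subgroup.mem_centralizer_singleton_iff] at hh ⊢
    have hg' : g⁻¹ ∈ Subgroup.normalizer ((Subgroup.zpowers z : Subgroup D) : Set D) :=
      Subgroup.inv_mem _ hg
    have h1 : g⁻¹ * z * (g⁻¹)⁻¹ ∈ Subgroup.zpowers z :=
      ((Subgroup.mem_normalizer_iff.1 hg') z).1 (Subgroup.mem_zpowers z)
    rw [inv_inv] at h1
    obtain ⟨m, hm⟩ := h1
    have hm' : z ^ m = g⁻¹ * z * g := hm
    have h2 : Commute h (z ^ m) := (show Commute h z from hh).zpow_right m
    rw [hm'] at h2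
    have h3 : h * (g⁻¹ * z * g) = (g⁻¹ * z * g) * h := h2
    calc g * h * g⁻¹ * z = g * (h * (g⁻¹ * z * g)) * g⁻¹ := by group
      _ = g * ((g⁻¹ * z * g) * h) * g⁻¹ := by rw [h3]
      _ = z * (g * h * g⁻¹) := by group
  intro g hg
  rw [Subgroup.mem_normalizer_iff]
  intro h
  constructor
  · exact key g hg h
  · intro hh
    have := key g⁻¹ (Subgroup.inv_mem _ hg) _ hh
    simpa [mul_assoc] using this

variable [Finite D]

/-- Matrix groups to representations. -/
theorem exists_rep {k : Type*} [Field k] {m : ℕ} (τ : D →* GL (Fin m) k)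
    (hτ : Function.Injective τ) :
    ∃ r : Representation (AlgebraicClosure k) D (Fin m → AlgebraicClosure k),
      Function.Injective r := by
  let f : GL (Fin m) k →* GL (Fin m) (AlgebraicClosure k) :=
    Matrix.GeneralLinearGroup.map (algebraMap k (AlgebraicClosure k))
  have hf : Function.Injective f := by
    intro a b hab
    apply Units.ext
    ext i j
    have h1 := congrArg (fun c : GL (Fin m) (AlgebraicClosure k) =>
      (c : Matrix (Fin m) (Fin m) (AlgebraicClosure k)) i j) hab
    exact (algebraMap k (AlgebraicClosure k)).injective h1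
  let r : Representation (AlgebraicClosure k) D (Fin m → AlgebraicClosure k) :=
    ((Matrix.toLinAlgEquiv' (R := AlgebraicClosure k) (n := Fin m) :
      _ ≃ₐ[AlgebraicClosure k] _).toMulEquiv.toMonoidHom).comp
      ((Units.coeHom _).comp (f.comp τ))
  refine ⟨r, ?_⟩
  intro a b hab
  apply hτ
  apply hf
  apply Units.ext
  exact (Matrix.toLinAlgEquiv' (R := AlgebraicClosure k) (n := Fin m)).injective hab

/-- **Sylow `s`-subgroups are normal**, or `s = 2 n + 1`. -/
theorem sylow_normal_or (σ : D →* GL (Fin n) (ZMod q)) (hσ : Function.Injective σ)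
    (hqD : (Nat.card D).Coprime q) {s : ℕ} [Fact s.Prime] (hn : 0 < n) (hsn : s ∣ q ^ n - 1)
    (hsd : ∀ d, 0 < d → d < n → ¬ s ∣ q ^ d - 1)
    (hsize : (2 * n < s ∧ 7 ≤ s) ∨ s ^ 2 ∣ Nat.card D) (hsD : s ∣ Nat.card D) (P : Sylow s D) :
    (P : Subgroup D).Normal ∨ (s = 2 * n + 1 ∧ ∃ (K : Subgroup D) (x : D), K.Normal ∧
      (P : Subgroup D) = Subgroup.zpowers x ∧ orderOf x = s ∧ x ∉ K ∧ (∀ g ∈ K, g * x = x * g) ∧
      Nat.card D = Nat.card K * (s * n) * (s + 1)) := by
  have hs : s.Prime := Fact.out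
  have hq : q.Prime := Fact.out
  have hPne : (P : Subgroup D) ≠ ⊥ := by
    intro h
    have h1 := P.dvd_card_of_dvd_card hsD
    rw [h, Subgroup.card_bot] at h1
    exact hs.one_lt.ne' (Nat.dvd_one.1 h1)
  have hcyc : ∀ z : D, orderOf z = s → IsCyclic (Subgroup.centralizer ({z} : Set D)) := fun z hz =>
    isCyclic_centralizer σ hσ hs hsn hsd hz
  have hns : n ∣ s - 1 := dvd_sub_one hs hq.pos hn hsn hsd
  have hnle : n ≤ s := by
    have h1 := Nat.le_of_dvd (by have := hs.two_le; omega) hns
    omega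
  obtain ⟨K₀, _, _, ρ, hρ⟩ := Lift.exists_rep_charZero hqD σ hσ
  obtain ⟨k, _, _, τ, hτ⟩ := Red.exists_reduction s ρ
  by_cases hker : τ.ker = ⊥
  swap
  · left
    exact Grp.normal_of_normal_pSubgroup hcyc P τ.ker inferInstance (ThmA.isPGroup_ker ρ hρ τ hτ) hker
  have hτi : Function.Injective τ := (MonoidHom.ker_eq_bot_iff τ).1 hker
  have hPcyc := Grp.isCyclic_sylow hcyc P hPne
  have hcard : Nat.card P = s := by
    obtain ⟨g, hg⟩ := IsCyclic.exists_ofOrder_eq_natCard (α := (P : Subgroup D))
    have h1 : (g : D) ^ s = 1 := by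
      obtain ⟨a, ha⟩ := P.isPGroup' g
      refine ThmA.pow_eq_one (a := a) hnle τ hτi ?_
      exact congrArg Subtype.val ha
    have h2 : orderOf g ∣ s := by
      rw [← Subgroup.orderOf_coe]
      exact orderOf_dvd_of_pow_eq_one h1
    rcases (Nat.dvd_prime hs).1 h2 with h3 | h3
    · exfalso
      apply hPne
      rw [h3] at hg
      exact Subgroup.eq_bot_of_card_eq _ hg.symm
    · rw [← hg]; exact h3
  rcases hsize with ⟨h2n, hs7⟩ | hsq
  swap
  · exact absurd hsq (FTDeg.sq_not_dvd P hcard)
  obtain ⟨x, hxP, hxs, -⟩ := Grp.exists_central_orderOf P hPne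
  have hx1 : x ≠ 1 := by
    rintro rfl
    rw [orderOf_one] at hxs
    exact hs.one_lt.ne hxs
  have hPx := ThmC1.zpowers_eq P hcard hxP hx1
  obtain ⟨r, hr⟩ := exists_rep τ hτi
  have : CharP (AlgebraicClosure k) s := charP_of_injective_algebraMap
    (algebraMap k (AlgebraicClosure k)).injective s
  rcases FTDeg.main s hs7 r hr (by rw [Module.finrank_fin_fun]; exact h2n) P hcard hxP hx1 with
    hnorm | ⟨K, N, t, hK, ht, hxK, hKx, -, hcC, hNle, hNc, hNi⟩
  · exact Or.inl hnorm
  · right
    have h1 : Nat.card N ≤ n * Nat.card (Subgroup.centralizer ({x} : Set D)) := by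
      refine le_trans ?_ (card_normalizer_le σ hσ hs hsn hsd hxs)
      apply Nat.le_of_dvd Nat.card_pos
      apply Subgroup.card_dvd_of_le
      refine hNle.trans ?_
      rw [← hPx]
      exact normalizer_zpowers_le x
    rw [hNc, hcC] at h1
    have hKpos : 0 < Nat.card K := Nat.card_pos
    have h2 : t ≤ n := by
      have h3 : Nat.card K * s * t ≤ Nat.card K * s * n := by
        calc Nat.card K * s * t = Nat.card K * (s * t) := by ring
          _ ≤ n * (Nat.card K * s) := h1
          _ = Nat.card K * s * n := by ring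
      exact Nat.le_of_mul_le_mul_left h3 (Nat.mul_pos hKpos hs.pos)
    have h3 : s = 2 * n + 1 ∧ t = n := by
      rcases ht with ht | ht
      · omega
      · omega
    refine ⟨h3.1, K, x, hK, hPx.symm, hxs, hxK, hKx, ?_⟩
    rw [← N.card_mul_index, hNc, hNi, h3.2]

end

end Cfsg.Agent.H697.HeringMat
end

-- part: H697/Arith
section
/-!
# Arithmetic for the exceptional case of the Hering theorem
-/

set_option autoImplicit false

namespace Cfsg.Agent.H697.Arith

theorem pow_six_lt {n : ℕ} (hn : 12 ≤ n) : n ^ 6 < 5 ^ (n - 2) := by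
  obtain ⟨m, rfl⟩ : ∃ m, n = m + 12 := ⟨n - 12, by omega⟩
  clear hn
  induction m with
  | zero => norm_num
  | succ m ih =>
    have h1 : (m + 1 + 12) ^ 6 ≤ 5 * (m + 12) ^ 6 := by
      have e1 : (m + 1 + 12) ^ 6 + (4 * m ^ 6 + 282 * m ^ 5 + 8265 * m ^ 4 + 128860 * m ^ 3 +
        1126785 * m ^ 2 + 5237202 * m + 10103111) = 5 * (m + 12) ^ 6 := by ring
      omega
    have e2 : m + 1 + 12 - 2 = (m + 12 - 2) + 1 := by omega
    rw [e2, pow_succ]
    calc (m + 1 + 12) ^ 6 ≤ 5 * (m + 12) ^ 6 := h1
      _ < 5 * 5 ^ (m + 12 - 2) := by omega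
      _ = 5 ^ (m + 12 - 2) * 5 := by ring

theorem bound {p n e f : ℕ} (hp5 : 5 ≤ p) (he : 0 < e) (hf : 2 ≤ f) (hnef : n = e * f) {M : ℕ}
    (hM : 0 < M) (h : (p ^ n - 1) ∣ (p ^ e - 1) * M) : p ^ (n - e) ≤ M ∧ n ≤ 2 * (n - e) := by
  have hen : 2 * e ≤ n := by rw [hnef]; nlinarith
  have h1 : 5 ≤ p ^ e := by
    calc 5 ≤ p := hp5
      _ = p ^ 1 := (pow_one p).symm
      _ ≤ p ^ e := Nat.pow_le_pow_right (by omega) he
  have h2 : p ^ n - 1 ≤ (p ^ e - 1) * M := Nat.le_of_dvd (Nat.mul_pos (by omega) hM) h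
  have h3 : p ^ n = p ^ e * p ^ (n - e) := by rw [← pow_add]; congr 1; omega
  refine ⟨?_, by omega⟩
  by_contra hlt
  push Not at hlt
  have h4 : p ^ e * (M + 1) ≤ p ^ n := by
    rw [h3]; exact Nat.mul_le_mul le_rfl hlt
  have h5 : (p ^ e - 1) * M + M = p ^ e * M := by
    rw [Nat.sub_mul, one_mul]
    exact Nat.sub_add_cancel (by nlinarith)
  have h6 : p ^ e * (M + 1) = p ^ e * M + p ^ e := by ring
  omega

/-- The exceptional case does not occur for `p ≥ 5`. -/
theorem false_of_dvd {p n e f : ℕ} (hp : p.Prime) (hp5 : 5 ≤ p) (hn3 : 3 ≤ n) (he : 0 < e)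
    (hf : 2 ≤ f) (hnef : n = e * f) (hs : (2 * n + 1).Prime)
    (h : (p ^ n - 1) ∣ (p ^ e - 1) * (n * (2 * n + 1) * (2 * n + 2))) : False := by
  have hM : 0 < n * (2 * n + 1) * (2 * n + 2) := by positivity
  obtain ⟨hb, hen⟩ := bound hp5 he hf hnef hM h
  have hn11 : n ≤ 11 := by
    by_contra hcon
    push Not at hcon
    have h1 : 5 ^ (n - e) ≤ n * (2 * n + 1) * (2 * n + 2) :=
      (Nat.pow_le_pow_left hp5 _).trans hb
    have h2 : n * (2 * n + 1) * (2 * n + 2) ≤ 5 * n ^ 3 := by
      have : 6 * n ^ 2 + 2 * n ≤ n ^ 3 := by nlinarith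
      calc n * (2 * n + 1) * (2 * n + 2) = 4 * n ^ 3 + (6 * n ^ 2 + 2 * n) := by ring
        _ ≤ 4 * n ^ 3 + n ^ 3 := by omega
        _ = 5 * n ^ 3 := by ring
    have h3 : 5 ^ n ≤ (5 ^ (n - e)) ^ 2 := by
      rw [← pow_mul]
      exact Nat.pow_le_pow_right (by norm_num) (by omega)
    have h4 : (5 ^ (n - e)) ^ 2 ≤ (5 * n ^ 3) ^ 2 := Nat.pow_le_pow_left (h1.trans h2) 2
    have h5 := pow_six_lt hcon
    have h6 : 5 ^ n = 25 * 5 ^ (n - 2) := by
      obtain ⟨m, rfl⟩ : ∃ m, n = m + 2 := ⟨n - 2, by omega⟩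
      rw [Nat.add_sub_cancel, pow_add]; ring
    have h7 : (5 * n ^ 3) ^ 2 = 25 * n ^ 6 := by ring
    omega
  have key : ∀ b : ℕ, 2 ≤ n - e → n * (2 * n + 1) * (2 * n + 2) < b ^ 2 → p < b := by
    intro b h2 hlt
    by_contra hcon
    push Not at hcon
    have h3 : b ^ 2 ≤ p ^ 2 := Nat.pow_le_pow_left hcon 2
    have h4 : p ^ 2 ≤ p ^ (n - e) := Nat.pow_le_pow_right hp.pos h2
    omega
  have hen2 : 2 ≤ n - e := by omega
  -- the remaining values
  have hncases : n = 3 ∨ n = 5 ∨ n = 6 ∨ n = 8 ∨ n = 9 ∨ n = 11 := by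
    clear h hb hM key
    interval_cases n <;> revert hs <;> decide
  have hediv : e ∣ n := ⟨f, hnef⟩
  have hb5 : 5 ^ (n - e) ≤ n * (2 * n + 1) * (2 * n + 2) := (Nat.pow_le_pow_left hp5 _).trans hb
  rcases hncases with rfl | rfl | rfl | rfl | rfl | rfl
  · have he1 : e = 1 := by omega
    subst he1
    have hp13 : p < 13 := key 13 (by norm_num) (by norm_num)
    interval_cases p <;> revert h <;> decide
  · have he1 : e ≤ 2 := by omega
    interval_cases e
    · have hp6 : p < 6 := by
        by_contra hcon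
        push Not at hcon
        have h3 : 6 ^ (5 - 1) ≤ p ^ (5 - 1) := Nat.pow_le_pow_left hcon _
        norm_num at h3 hb
        omega
      interval_cases p
      revert h; decide
    · omega
  · have he1 : e ≤ 3 := by omega
    interval_cases e
    · norm_num at hb5
    · have hp6 : p < 6 := by
        by_contra hcon
        push Not at hcon
        have h3 : 6 ^ (6 - 2) ≤ p ^ (6 - 2) := Nat.pow_le_pow_left hcon _
        norm_num at h3 hb
        omega
      interval_cases p
      revert h; decide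
    · have hp6 : p < 11 := by
        by_contra hcon
        push Not at hcon
        have h3 : 11 ^ (6 - 3) ≤ p ^ (6 - 3) := Nat.pow_le_pow_left hcon _
        norm_num at h3 hb
        omega
      interval_cases p <;> revert h <;> decide
  · have he1 : e ≤ 4 := by omega
    interval_cases e
    · norm_num at hb5
    · norm_num at hb5
    · norm_num at hb5
    · have hp6 : p < 8 := by
        by_contra hcon
        push Not at hcon
        have h3 : 8 ^ (8 - 4) ≤ p ^ (8 - 4) := Nat.pow_le_pow_left hcon _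
        norm_num at h3 hb
        omega
      interval_cases p <;> revert h <;> decide
  · have he1 : e ≤ 4 := by omega
    interval_cases e
    · norm_num at hb5
    · norm_num at hb5
    · norm_num at hb5
    · norm_num at hb5
      omega
  · have he1 : e ≤ 5 := by omega
    interval_cases e <;> norm_num at hb5

end Cfsg.Agent.H697.Arith
end

-- part: H697/Hering
section
/-!
# `p'`-groups transitive on the nonzero vectors of a space of dimension at least three

They have a cyclic normal subgroup of index at most the dimension.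
-/

set_option autoImplicit false

namespace Cfsg.Agent.H697.Hering

open Module
open Cfsg.Agent.PermutationGroups.RegularLinear
open Cfsg.Agent.LieRecognition.FT61

variable {p : ℕ} [Fact p.Prime] {V : Type*} [AddCommGroup V] [Module (ZMod p) V]

/-- Matrices of a linear group. -/
theorem exists_toGL [Finite V] (H : Subgroup (V ≃ₗ[ZMod p] V)) :
    ∃ σ : H →* GL (Fin (finrank (ZMod p) V)) (ZMod p), Function.Injective σ := by
  have : Module.Finite (ZMod p) V := Module.Finite.of_finite
  let b : Basis (Fin (finrank (ZMod p) V)) (ZMod p) V := Module.finBasis (ZMod p) V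
  let φ : H →* Module.End (ZMod p) V :=
    { toFun := fun h => ((h : V ≃ₗ[ZMod p] V) : Module.End (ZMod p) V)
      map_one' := rfl
      map_mul' := fun _ _ => rfl }
  let ψ : H →* Matrix (Fin (finrank (ZMod p) V)) (Fin (finrank (ZMod p) V)) (ZMod p) :=
    ((LinearMap.toMatrixAlgEquiv b).toRingEquiv.toMonoidHom : Module.End (ZMod p) V →* _).comp φ
  refine ⟨ψ.toHomUnits, ?_⟩
  intro c d hcd
  have h1 : ψ c = ψ d := congrArg Units.val hcd
  have h2 : φ c = φ d := (LinearMap.toMatrixAlgEquiv b).injective h1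
  apply Subtype.ext
  ext v
  exact DFunLike.congr_fun h2 v

theorem card_eq [Finite V] : Nat.card V = p ^ finrank (ZMod p) V := by
  have : Module.Finite (ZMod p) V := Module.Finite.of_finite
  rw [Module.natCard_eq_pow_finrank (K := ZMod p), Nat.card_zmod]

/-- Transitivity on nonzero vectors and the order. -/
theorem dvd_card [Finite V] [Nontrivial V] (H : Subgroup (V ≃ₗ[ZMod p] V))
    (htr : ∀ v w : V, v ≠ 0 → w ≠ 0 → ∃ h ∈ H, h v = w) : Nat.card V - 1 ∣ Nat.card H := by
  obtain ⟨e, he⟩ := exists_ne (0 : V)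
  have : Finite (V ≃ₗ[ZMod p] V) := finite_gl
  have h1 : (MulAction.stabilizer H e).index ∣ Nat.card H := Subgroup.index_dvd_card _
  rw [MulAction.index_stabilizer] at h1
  have h2 : MulAction.orbit H e = {x : V | x ≠ 0} := by
    ext x
    constructor
    · rintro ⟨d, rfl⟩
      intro h
      apply he
      have h3 : (d : V ≃ₗ[ZMod p] V) e = 0 := h
      exact (LinearEquiv.map_eq_zero_iff _).1 h3
    · intro hx
      obtain ⟨d, hd, hdx⟩ := htr e x he hx
      exact ⟨⟨d, hd⟩, hdx⟩
  have h3 : {x : V | x ≠ 0} = ({0} : Set V)ᶜ := by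
    ext x
    simp
  rw [h2, h3, Set.ncard_compl, Set.ncard_singleton] at h1
  exact h1

/-- The field generated by a reducible commutative normal subgroup of a transitive linear group. -/
theorem card_reducible [Finite V] [Nontrivial V] (H : Subgroup (V ≃ₗ[ZMod p] V))
    (htr : ∀ v w : V, v ≠ 0 → w ≠ 0 → ∃ h ∈ H, h v = w) (K : Subgroup H) (hK : K.Normal)
    (hKc : IsMulCommutative K) (W : Submodule (ZMod p) V) (hW0 : W ≠ ⊥) (hW1 : W ≠ ⊤)
    (hW : ∀ a ∈ K, ∀ v ∈ W, ((a : H) : V ≃ₗ[ZMod p] V) v ∈ W) :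
    ∃ e f : ℕ, 0 < e ∧ 2 ≤ f ∧ finrank (ZMod p) V = e * f ∧ Nat.card K ∣ p ^ e - 1 := by
  classical
  have hp : p.Prime := Fact.out
  have hfinE : Finite (End (ZMod p) V) := finite_end
  have hinj := groupAlg_injective_of_comm H htr K hK hKc
  set L := groupAlg K with hL
  have hdom : IsDomain L := isDomain_of_injective L hinj
  have hF : IsField L := Finite.isDomain_to_isField L
  have hcyc := (isCyclic_and_card_dvd L hinj (H.subtype.comp K.subtype)
    (H.subtype_injective.comp K.subtype_injective) (fun g => coe_mem_groupAlg K g.2)).2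
  have hLW : ∀ k ∈ L, ∀ v ∈ W, k v ∈ W := groupAlg_apply_mem K W hW
  -- `L` as a vector space over the prime field
  have hLcard : Nat.card L = p ^ finrank (ZMod p) L := by
    have : Module.Finite (ZMod p) L := Module.Finite.of_finite
    rw [Module.natCard_eq_pow_finrank (K := ZMod p), Nat.card_zmod]
  -- `V` as a vector space over `L`
  obtain ⟨f, hf⟩ : ∃ f, Nat.card V = Nat.card L ^ f := by
    let _ : Field L := hF.toField
    let _ : Module L V := Subalgebra.moduleLeft L
    have : Module.Finite L V := Module.Finite.of_finite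
    exact ⟨finrank L V, Module.natCard_eq_pow_finrank (K := L)⟩
  have hV := card_eq (p := p) (V := V)
  set e := finrank (ZMod p) L with he
  set n := finrank (ZMod p) V with hn
  have hnef : n = e * f := by
    rw [hV, hLcard, ← pow_mul] at hf
    exact Nat.pow_right_injective hp.two_le hf
  have hepos : 0 < e := by
    apply Nat.pos_of_ne_zero
    intro h0
    have h1 : Nontrivial L := hdom.toNontrivial
    have h2 : Finite L := inferInstance
    have h3 := Finite.one_lt_card (α := L)
    rw [hLcard, h0, pow_zero] at h3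
    exact lt_irrefl _ h3
  have hVpos : 1 < Nat.card V := Finite.one_lt_card
  refine ⟨e, f, hepos, ?_, hnef, ?_⟩
  · by_contra hf2
    have hf1 : f = 0 ∨ f = 1 := by omega
    rcases hf1 with rfl | rfl
    · rw [pow_zero] at hf
      omega
    · -- `|L| = |V|`, but `L` embeds in `W`
      rw [pow_one] at hf
      obtain ⟨w, hwW, hw0⟩ := W.exists_mem_ne_zero_of_ne_bot hW0
      let g : L → W := fun k => ⟨(k : End (ZMod p) V) w, hLW k k.2 w hwW⟩
      have hg : Function.Injective g := by
        intro a b hab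
        have h1 : (a : End (ZMod p) V) w = (b : End (ZMod p) V) w := congrArg Subtype.val hab
        have h2 := hinj _ (L.sub_mem a.2 b.2) w hw0 (by
          rw [LinearMap.sub_apply, h1, sub_self])
        exact Subtype.ext (sub_eq_zero.1 h2)
      have h1 : Nat.card L ≤ Nat.card W := Nat.card_le_card_of_injective g hg
      have h2 : Nat.card W < Nat.card V := by
        have h3 : (W : Set V).ncard < (Set.univ : Set V).ncard := by
          apply Set.ncard_lt_ncard
          · rw [Set.ssubset_univ_iff]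
            intro h
            apply hW1
            exact SetLike.coe_injective (by rw [h]; rfl)
          · exact Set.toFinite _
        rw [Set.ncard_univ] at h3
        exact h3
      omega
  · rw [← hLcard]
    exact hcyc

/-- **Hering's theorem for `p'`-groups**, dimension at least three. -/
theorem main [Finite V] [Nontrivial V] (hp5 : 5 ≤ p) (hn3 : 3 ≤ finrank (ZMod p) V)
    (hexc : ¬ (p = 5 ∧ finrank (ZMod p) V = 6)) (H : Subgroup (V ≃ₗ[ZMod p] V))
    (htr : ∀ v w : V, v ≠ 0 → w ≠ 0 → ∃ h ∈ H, h v = w) (hpH : ¬ p ∣ Nat.card H) :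
    ∃ A : Subgroup H, A.Normal ∧ IsCyclic A ∧ Nat.card H ≤ finrank (ZMod p) V * Nat.card A := by
  classical
  have hp : p.Prime := Fact.out
  have hfinG : Finite (V ≃ₗ[ZMod p] V) := finite_gl
  have hV := card_eq (p := p) (V := V)
  have hdvd := dvd_card H htr
  rw [hV] at hdvd
  set n := finrank (ZMod p) V with hn
  obtain ⟨σ, hσ⟩ : ∃ σ : H →* GL (Fin n) (ZMod p), Function.Injective σ := exists_toGL H
  obtain ⟨s, hs, hsn, hsd', hslarge⟩ := Cfsg.Agent.H365.Zsig.large_zsigmondy p n hp.two_le (by omega)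
    (fun h => by omega) (fun h => by omega) (fun h => by omega) hexc
  have hsd : ∀ d, 0 < d → d < n → ¬ s ∣ p ^ d - 1 := fun d h1 h2 => hsd' d h1 h2
  have : Fact s.Prime := ⟨hs⟩
  have hcop : (Nat.card H).Coprime p := by
    rw [Nat.coprime_comm]
    exact (Nat.Prime.coprime_iff_not_dvd hp).2 hpH
  have hns := HeringMat.dvd_sub_one hs hp.pos (by omega) hsn hsd
  have hsD : s ∣ Nat.card H := hsn.trans hdvd
  obtain ⟨P⟩ : Nonempty (Sylow s H) := inferInstance
  have hsize : (2 * n < s ∧ 7 ≤ s) ∨ s ^ 2 ∣ Nat.card H := by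
    rcases hslarge with h1 | h1
    · left
      obtain ⟨c, hc⟩ := hns
      have h2 : 2 ≤ c := by
        by_contra h3
        have h4 : c = 0 ∨ c = 1 := by omega
        rcases h4 with rfl | rfl
        · omega
        · omega
      have h3 : n * 2 ≤ n * c := Nat.mul_le_mul le_rfl h2
      omega
    · exact Or.inr (h1.trans hdvd)
  have hPne : (P : Subgroup H) ≠ ⊥ := by
    intro h
    have h1 := P.dvd_card_of_dvd_card hsD
    rw [h, Subgroup.card_bot] at h1
    exact hs.one_lt.ne' (Nat.dvd_one.1 h1)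
  have hcyc : ∀ z : H, orderOf z = s → IsCyclic (Subgroup.centralizer ({z} : Set H)) := fun z hz =>
    HeringMat.isCyclic_centralizer σ hσ hs hsn hsd hz
  have hPn : (P : Subgroup H).Normal := by
    rcases HeringMat.sylow_normal_or σ hσ hcop (by omega) hsn hsd hsize hsD P with h1 |
      ⟨hs2n, K, x, hK, hPx, hxs, hxK, hKx, hcard⟩
    · exact h1
    · have hKc : IsMulCommutative K := by
        have h1 := Grp.comm_of_isCyclic (hcyc x hxs)
        refine ⟨⟨fun a b => Subtype.ext ?_⟩⟩
        exact h1 a (Subgroup.mem_centralizer_singleton_iff.2 (hKx a a.2)) b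
          (Subgroup.mem_centralizer_singleton_iff.2 (hKx b b.2))
      by_cases hirr : ∀ W : Submodule (ZMod p) V,
          (∀ a ∈ K, ∀ v ∈ W, ((a : H) : V ≃ₗ[ZMod p] V) v ∈ W) → W = ⊥ ∨ W = ⊤
      · have h1 := centralizer_comm_of_irreducible H K hirr
        apply Grp.normal_of_le_comm P (Subgroup.centralizer (K : Set H)) inferInstance
        · intro a ha b hb
          exact congrArg Subtype.val (h1.is_comm.comm ⟨a, ha⟩ ⟨b, hb⟩)
        · rw [hPx, Subgroup.zpowers_le, Subgroup.mem_centralizer_iff]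
          intro g hg
          exact hKx g hg
      · exfalso
        push Not at hirr
        obtain ⟨W, hW, hW0, hW1⟩ := hirr
        obtain ⟨e, f, he, hf, hnef, hKe⟩ := card_reducible H htr K hK hKc W hW0 hW1 hW
        refine Arith.false_of_dvd hp hp5 hn3 he hf hnef (by rw [← hs2n]; exact hs) ?_
        refine hdvd.trans ?_
        rw [hcard, hs2n]
        obtain ⟨c, hc⟩ := hKe
        refine ⟨c, ?_⟩
        rw [hc]
        ring
  obtain ⟨x, hxP, hxs, hxc⟩ := Grp.exists_central_orderOf P hPne
  have hPcyc := Grp.isCyclic_sylow hcyc P hPne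
  have hnorm : ∀ g : H, g ∈ Subgroup.normalizer ((Subgroup.zpowers x : Subgroup H) : Set H) := by
    have h1 : ∀ g : H, g * x * g⁻¹ ∈ Subgroup.zpowers x := by
      intro g
      have h2 : g * x * g⁻¹ ∈ (P : Subgroup H) := hPn.conj_mem x hxP g
      have h3 : orderOf (g * x * g⁻¹) = orderOf x := by
        have h4 : g * x * g⁻¹ = MulAut.conj g x := rfl
        rw [h4]
        exact MulEquiv.orderOf_eq (MulAut.conj g) x
      rw [← Grp.zpowers_eq_of_orderOf hPcyc h2 hxP h3]
      exact Subgroup.mem_zpowers _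
    have h2 : ∀ g : H, ∀ y ∈ Subgroup.zpowers x, g * y * g⁻¹ ∈ Subgroup.zpowers x := by
      rintro g _ ⟨m, rfl⟩
      show g * x ^ m * g⁻¹ ∈ Subgroup.zpowers x
      rw [← conj_zpow]
      exact Subgroup.zpow_mem _ (h1 g) m
    intro g
    rw [Subgroup.mem_normalizer_iff]
    intro y
    refine ⟨h2 g y, fun hy => ?_⟩
    have := h2 g⁻¹ _ hy
    simpa [mul_assoc] using this
  have hnorm2 : Subgroup.normalizer
      ((Subgroup.centralizer ({x} : Set H) : Subgroup H) : Set H) = ⊤ := by
    rw [eq_top_iff]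
    intro g _
    exact HeringMat.normalizer_zpowers_le x (hnorm g)
  refine ⟨Subgroup.centralizer ({x} : Set H), Subgroup.normalizer_eq_top_iff.1 hnorm2,
    hcyc x hxs, ?_⟩
  have h1 := HeringMat.card_normalizer_le σ hσ hs hsn hsd hxs
  rw [hnorm2, Subgroup.card_top] at h1
  exact h1

end Cfsg.Agent.H697.Hering
end
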