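import Cfsg.Agent.H275.GLTwoFix
import Cfsg.Agent.H697.ClassCount
import Cfsg.Agent.S0003
set_option linter.all false

-- part: H697/Tricho
section
/-!
# Groups all of whose nonidentity elements have exactly two fixed points: the classical list
-/

set_option autoImplicit false

namespace Cfsg.Agent.H697.Tricho

open MulAction Cfsg.Agent.ClassicalGeometry.DicksonCount Cfsg.Agent.H275.TwoFix

/-- The arithmetic of three orbits. -/
theorem arith {N a b c x y z : ℕ} (ha : a * x = N) (hb : b * y = N) (hc : c * z = N)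
    (hx : 2 ≤ x) (hxy : x ≤ y) (hyz : y ≤ z) (hN : 0 < N) (h : N + 2 = a + b + c) :
    c = 2 ∨ N = 12 ∨ (N = 24 ∧ z = 4) ∨ (N = 60 ∧ z = 5) := by
  have hmul : ∀ (n e k : ℕ), n * e = N → k ≤ e → n * k ≤ N := by
    intro n e k h1 h2
    rw [← h1]; exact Nat.mul_le_mul le_rfl h2
  have hx2 : x = 2 := by
    by_contra hne
    have h1 := hmul _ _ 3 ha (by omega)
    have h2 := hmul _ _ 3 hb (by omega)
    have h3 := hmul _ _ 3 hc (by omega)
    omega
  subst hx2
  have hy3 : y = 2 ∨ y = 3 := by
    by_contra hne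
    push Not at hne
    have h2 := hmul _ _ 4 hb (by omega)
    have h3 := hmul _ _ 4 hc (by omega)
    omega
  rcases hy3 with rfl | rfl
  · left; omega
  · right
    have h4 : 6 * c = N + 12 := by omega
    have hz5 : z ≤ 5 := by
      by_contra hcon
      have := hmul _ _ 6 hc (by omega)
      omega
    have hz3 : z = 3 ∨ z = 4 ∨ z = 5 := by omega
    rcases hz3 with rfl | rfl | rfl
    · left; omega
    · right; left; omega
    · right; right; omega

variable {G X : Type*} [Group G] [MulAction G X] [Finite G]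

theorem tricho (h : TwoFixed G X) (hX : ∃ a b : X, a ≠ b) :
    (∃ a b : X, a ≠ b ∧ ∀ g : G, (g • a = a ∧ g • b = b) ∨ (g • a = b ∧ g • b = a)) ∨
    Nat.card G = 12 ∨ (Nat.card G = 24 ∧ ∃ x : X, Nat.card (stabilizer G x) = 4) ∨
    (Nat.card G = 60 ∧ ∃ x : X, Nat.card (stabilizer G x) = 5) := by
  classical
  obtain ⟨S, R, hSR⟩ := exists_reps' h
  have hsum := sum_R h hSR
  set N := Nat.card G with hN
  have hne : ∀ r : X, Nat.card (orbit G r) * Nat.card (stabilizer G r) = N := fun r : X => card_orbit_mul r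
  have he : ∀ r ∈ R, 2 ≤ Nat.card (stabilizer G r) := by
    intro r hr
    obtain ⟨g, hg, hgr⟩ := (hSR.mem r).1 (hSR.sub hr)
    have : Nontrivial (stabilizer G r) :=
      ⟨⟨⟨g, hgr⟩, 1, fun hc => hg (congrArg Subtype.val hc)⟩⟩
    exact Finite.one_lt_card
  have hNpos : 0 < N := Nat.card_pos
  have hR3 : R.card ≤ 3 := by
    by_contra hcon
    push Not at hcon
    have h1 : ∑ r ∈ R, Nat.card (orbit G r) * 2 ≤ ∑ r ∈ R, N := by
      apply Finset.sum_le_sum
      intro r hr
      rw [← hne r]
      exact Nat.mul_le_mul le_rfl (he r hr)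
    rw [← Finset.sum_mul, Finset.sum_const, smul_eq_mul] at h1
    have h5 : 4 * N ≤ R.card * N := Nat.mul_le_mul (by omega) le_rfl
    omega
  have hpos : ∀ s : X, 0 < Nat.card (orbit G s) := by
    intro s
    apply Nat.pos_of_ne_zero
    intro h0
    have := hne s
    rw [h0] at this
    omega
  have hfix : ∀ x : X, Nat.card (orbit G x) = 1 → ∀ g : G, g • x = x := by
    intro x hx g
    rw [Nat.card_eq_one_iff_unique] at hx
    have := hx.1
    have h1 : (⟨g • x, mem_orbit _ _⟩ : orbit G x) = ⟨x, mem_orbit_self x⟩ := Subsingleton.elim _ _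
    exact congrArg Subtype.val h1
  have htwo : ∀ x : X, Nat.card (orbit G x) = 2 →
      ∃ a b : X, a ≠ b ∧ ∀ g : G, (g • a = a ∧ g • b = b) ∨ (g • a = b ∧ g • b = a) := by
    intro x hx
    rw [Nat.card_coe_set_eq, Set.ncard_eq_two] at hx
    obtain ⟨a, b, hab, hEq⟩ := hx
    refine ⟨a, b, hab, fun g => ?_⟩
    have hmem : ∀ y : X, y ∈ orbit G x → g • y ∈ orbit G x := by
      rintro _ ⟨c, rfl⟩
      exact ⟨g * c, mul_smul _ _ _⟩
    have h1 : g • a = a ∨ g • a = b := by
      have := hmem a (by rw [hEq]; simp)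
      rw [hEq] at this
      simpa using this
    have h2 : g • b = a ∨ g • b = b := by
      have := hmem b (by rw [hEq]; simp)
      rw [hEq] at this
      simpa using this
    rcases h1 with h1 | h1 <;> rcases h2 with h2 | h2
    · exact absurd (smul_left_cancel g (h1.trans h2.symm)) hab
    · exact Or.inl ⟨h1, h2⟩
    · exact Or.inr ⟨h1, h2⟩
    · exact absurd (smul_left_cancel g (h1.trans h2.symm)) hab
  obtain ⟨a₀, b₀, hab₀⟩ := hX
  interval_cases hRc : R.card
  · left
    have hR : R = ∅ := Finset.card_eq_zero.1 hRc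
    rw [hR, Finset.sum_empty] at hsum
    have hN1 : N = 1 := by omega
    have : Subsingleton G := (Nat.card_eq_one_iff_unique.1 hN1).1
    refine ⟨a₀, b₀, hab₀, fun g => Or.inl ?_⟩
    rw [Subsingleton.elim g 1, one_smul, one_smul]
    exact ⟨rfl, rfl⟩
  · exfalso
    obtain ⟨s, rfl⟩ := Finset.card_eq_one.1 hRc
    rw [Finset.sum_singleton] at hsum
    have h1 := hpos s
    have h2 := he s (by simp)
    have h3 := hne s
    have h4 : Nat.card (orbit G s) * 2 ≤ N := by rw [← h3]; exact Nat.mul_le_mul le_rfl h2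
    omega
  · left
    obtain ⟨s, t, hst, rfl⟩ := Finset.card_eq_two.1 hRc
    rw [Finset.sum_pair hst] at hsum
    have h1 := hpos s
    have h2 := hpos t
    have h3 : Nat.card (orbit G s) = 1 := by omega
    have h4 : Nat.card (orbit G t) = 1 := by omega
    exact ⟨s, t, hst, fun g => Or.inl ⟨hfix s h3 g, hfix t h4 g⟩⟩
  · -- three orbits
    obtain ⟨r, s, t, hrs, hrt, hst, hRR⟩ := Finset.card_eq_three.1 hRc
    have hr2 := he r (by rw [hRR]; simp)
    have hs2 := he s (by rw [hRR]; simp)
    have ht2 := he t (by rw [hRR]; simp)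
    rw [hRR, Finset.sum_insert (by simp [hrs, hrt]), Finset.sum_pair hst] at hsum
    have key : ∀ u v w : X, 2 ≤ Nat.card (stabilizer G u) →
        Nat.card (stabilizer G u) ≤ Nat.card (stabilizer G v) →
        Nat.card (stabilizer G v) ≤ Nat.card (stabilizer G w) →
        N + 2 = Nat.card (orbit G u) + Nat.card (orbit G v) + Nat.card (orbit G w) →
        (∃ a b : X, a ≠ b ∧ ∀ g : G, (g • a = a ∧ g • b = b) ∨ (g • a = b ∧ g • b = a)) ∨
        N = 12 ∨ (N = 24 ∧ ∃ x : X, Nat.card (stabilizer G x) = 4) ∨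
        (N = 60 ∧ ∃ x : X, Nat.card (stabilizer G x) = 5) := by
      intro u v w h1 h2 h3 h4
      rcases arith (hne u) (hne v) (hne w) h1 h2 h3 hNpos h4 with h5 | h5 | ⟨h5, h6⟩ | ⟨h5, h6⟩
      · exact Or.inl (htwo w h5)
      · exact Or.inr (Or.inl h5)
      · exact Or.inr (Or.inr (Or.inl ⟨h5, w, h6⟩))
      · exact Or.inr (Or.inr (Or.inr ⟨h5, w, h6⟩))
    rcases le_total (Nat.card (stabilizer G r)) (Nat.card (stabilizer G s)) with h1 | h1 <;>
    rcases le_total (Nat.card (stabilizer G r)) (Nat.card (stabilizer G t)) with h2 | h2 <;>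
    rcases le_total (Nat.card (stabilizer G s)) (Nat.card (stabilizer G t)) with h3 | h3
    · exact key r s t hr2 h1 h3 (by omega)
    · exact key r t s hr2 h2 h3 (by omega)
    · exact key r s t hr2 h1 h3 (by omega)
    · exact key t r s ht2 h2 h1 (by omega)
    · exact key s r t hs2 h1 h2 (by omega)
    · exact key s r t hs2 h1 h2 (by omega)
    · exact key s t r hs2 h3 h2 (by omega)
    · exact key t s r ht2 h3 h1 (by omega)

end Cfsg.Agent.H697.Tricho
end

-- part: H697/TwoDim
section
/-!
# `p'`-subgroups of `GL₂(p)`: projection to the permutations of the projective line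
-/

set_option autoImplicit false

namespace Cfsg.Agent.H697.TwoDim

open Matrix MulAction Cfsg.Agent.H275.TwoFix Cfsg.Agent.H275.GLTwoFix
open scoped OnePoint

section Vec

variable {K : Type*} [Field K] [DecidableEq K]

/-- A vector over a point of the projective line. -/
def vec (x : OnePoint K) : Fin 2 → K :=
  match x with
  | ∞ => ![1, 0]
  | (k : K) => ![k, 1]

theorem vec_infty : vec (∞ : OnePoint K) = ![1, 0] := rfl
theorem vec_coe (k : K) : vec (k : OnePoint K) = ![k, 1] := rfl

theorem vec_ne_zero (x : OnePoint K) : vec x ≠ 0 := by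
  intro h
  cases x with
  | infty =>
    have := congrFun h 0
    rw [vec_infty] at this
    simp at this
  | coe k =>
    have := congrFun h 1
    rw [vec_coe] at this
    simp at this

theorem eig (g : GL (Fin 2) K) (x : OnePoint K) (h : g • x = x) :
    ∃ c : K, (g : Matrix (Fin 2) (Fin 2) K) *ᵥ vec x = c • vec x := by
  cases x with
  | infty =>
    rw [OnePoint.smul_infty_eq_self_iff] at h
    refine ⟨g 0 0, ?_⟩
    rw [vec_infty]
    ext i
    fin_cases i
    · simp [Matrix.mulVec_fin_two]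
    · simp [Matrix.mulVec_fin_two, h]
  | coe k =>
    rw [← Matrix.GeneralLinearGroup.fixpointPolynomial_aeval_eq_zero_iff] at h
    simp [Matrix.GeneralLinearGroup.fixpointPolynomial] at h
    refine ⟨g 1 0 * k + g 1 1, ?_⟩
    rw [vec_coe]
    ext i
    fin_cases i
    · simp [Matrix.mulVec_fin_two]
      linear_combination -h
    · simp [Matrix.mulVec_fin_two]

theorem det_vec_ne {x y : OnePoint K} (hxy : x ≠ y) : vec x 0 * vec y 1 - vec y 0 * vec x 1 ≠ 0 := by
  cases x with
  | infty =>
    cases y with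
    | infty => exact absurd rfl hxy
    | coe l => rw [vec_infty, vec_coe]; simp
  | coe k =>
    cases y with
    | infty => rw [vec_infty, vec_coe]; simp
    | coe l =>
      rw [vec_coe, vec_coe]
      simp
      intro h
      apply hxy
      rw [sub_eq_zero] at h
      rw [h]

/-- Elements with two common fixed points commute. -/
theorem commute_of_two (g h : GL (Fin 2) K) {x y : OnePoint K} (hxy : x ≠ y) (hgx : g • x = x)
    (hgy : g • y = y) (hhx : h • x = x) (hhy : h • y = y) : g * h = h * g := by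
  obtain ⟨a, ha⟩ := eig g x hgx
  obtain ⟨b, hb⟩ := eig g y hgy
  obtain ⟨c, hc⟩ := eig h x hhx
  obtain ⟨d, hd⟩ := eig h y hhy
  apply Units.ext
  rw [Units.val_mul, Units.val_mul]
  set A := (g : Matrix (Fin 2) (Fin 2) K)
  set B := (h : Matrix (Fin 2) (Fin 2) K)
  have h1 : (A * B) *ᵥ vec x = (B * A) *ᵥ vec x := by
    rw [← Matrix.mulVec_mulVec, ← Matrix.mulVec_mulVec, hc, ha, Matrix.mulVec_smul,
      Matrix.mulVec_smul, ha, hc, smul_smul, smul_smul, mul_comm]
  have h2 : (A * B) *ᵥ vec y = (B * A) *ᵥ vec y := by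
    rw [← Matrix.mulVec_mulVec, ← Matrix.mulVec_mulVec, hd, hb, Matrix.mulVec_smul,
      Matrix.mulVec_smul, hb, hd, smul_smul, smul_smul, mul_comm]
  have hdet := det_vec_ne hxy
  have key : ∀ (C D : Matrix (Fin 2) (Fin 2) K), C *ᵥ vec x = D *ᵥ vec x → C *ᵥ vec y = D *ᵥ vec y →
      C = D := by
    intro C D h1 h2
    have e0 : ∀ i, (C i 0 - D i 0) * vec x 0 + (C i 1 - D i 1) * vec x 1 = 0 := by
      intro i
      have := congrFun h1 i
      simp only [Matrix.mulVec, dotProduct, Fin.sum_univ_two] at this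
      linear_combination this
    have e1 : ∀ i, (C i 0 - D i 0) * vec y 0 + (C i 1 - D i 1) * vec y 1 = 0 := by
      intro i
      have := congrFun h2 i
      simp only [Matrix.mulVec, dotProduct, Fin.sum_univ_two] at this
      linear_combination this
    have f0 : ∀ i, C i 0 - D i 0 = 0 := by
      intro i
      have : (C i 0 - D i 0) * (vec x 0 * vec y 1 - vec y 0 * vec x 1) = 0 := by
        linear_combination vec y 1 * e0 i - vec x 1 * e1 i
      exact (mul_eq_zero.1 this).resolve_right hdet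
    have f1 : ∀ i, C i 1 - D i 1 = 0 := by
      intro i
      have : (C i 1 - D i 1) * (vec x 0 * vec y 1 - vec y 0 * vec x 1) = 0 := by
        linear_combination vec x 0 * e1 i - vec y 0 * e0 i
      exact (mul_eq_zero.1 this).resolve_right hdet
    ext i j
    fin_cases j
    · exact sub_eq_zero.1 (f0 i)
    · exact sub_eq_zero.1 (f1 i)
  exact key _ _ h1 h2

end Vec

section Main

variable {p : ℕ} [hp : Fact p.Prime]

/-- The action on the projective line. -/
noncomputable def pr (L : Subgroup (GL (Fin 2) (ZMod p))) : L →* Equiv.Perm (OnePoint (KK p)) :=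
  (MulAction.toPermHom (GL (Fin 2) (KK p)) (OnePoint (KK p))).comp ((bc p).comp L.subtype)

theorem pr_apply (L : Subgroup (GL (Fin 2) (ZMod p))) (g : L) (x : OnePoint (KK p)) :
    pr L g x = bc p (g : GL (Fin 2) (ZMod p)) • x := rfl

theorem bc_injective : Function.Injective (bc p) := by
  intro a b hab
  apply Units.ext
  ext i j
  have h1 := congrArg (fun c : GL (Fin 2) (KK p) => (c : Matrix (Fin 2) (Fin 2) (KK p)) i j) hab
  exact (algebraMap (ZMod p) (KK p)).injective h1

theorem mem_ker (L : Subgroup (GL (Fin 2) (ZMod p))) (g : L) : g ∈ (pr L).ker ↔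
    ((g : GL (Fin 2) (ZMod p)) 1 0 = 0 ∧ (g : GL (Fin 2) (ZMod p)) 0 1 = 0 ∧
      (g : GL (Fin 2) (ZMod p)) 0 0 = (g : GL (Fin 2) (ZMod p)) 1 1) := by
  constructor
  · intro h
    apply scalar_of_bc_pow
    intro x
    have h1 : pr L g = 1 := h
    have h2 := congrArg (fun f : Equiv.Perm (OnePoint (KK p)) => f x) h1
    exact h2
  · rintro ⟨h1, h2, h3⟩
    show pr L g = 1
    ext x
    rw [pr_apply]
    apply smul_eq_self_of_scalar
    · rw [bc_apply, h1, map_zero]
    · rw [bc_apply, h2, map_zero]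
    · rw [bc_apply, bc_apply, h3]

theorem mul_apply' (g h : GL (Fin 2) (ZMod p)) (i j : Fin 2) :
    (g * h) i j = g i 0 * h 0 j + g i 1 * h 1 j := by
  have h1 : ((g * h : GL (Fin 2) (ZMod p)) : Matrix (Fin 2) (Fin 2) (ZMod p)) i j =
      ((g : Matrix (Fin 2) (Fin 2) (ZMod p)) * (h : Matrix (Fin 2) (Fin 2) (ZMod p))) i j := by
    rw [Units.val_mul]
  rw [Matrix.mul_apply, Fin.sum_univ_two] at h1
  exact h1

/-- The scalar of an element of the kernel. -/
noncomputable def sc (L : Subgroup (GL (Fin 2) (ZMod p))) : (pr L).ker →* ZMod p where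
  toFun g := ((g : L) : GL (Fin 2) (ZMod p)) 0 0
  map_one' := by simp
  map_mul' g h := by
    have h1 := (mem_ker L g).1 g.2
    show (((g : L) * (h : L) : L) : GL (Fin 2) (ZMod p)) 0 0 = _
    rw [Subgroup.coe_mul, mul_apply', h1.2.1, zero_mul, add_zero]

theorem coe_ker (L : Subgroup (GL (Fin 2) (ZMod p))) (g : (pr L).ker) :
    (((g : L) : GL (Fin 2) (ZMod p)) : Matrix (Fin 2) (Fin 2) (ZMod p)) = sc L g • 1 := by
  obtain ⟨h1, h2, h3⟩ := (mem_ker L g).1 g.2
  ext i j
  fin_cases i <;> fin_cases j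
  · simp [sc]
  · simpa using h2
  · simpa using h1
  · simp [sc]
    exact h3.symm

theorem sc_injective (L : Subgroup (GL (Fin 2) (ZMod p))) : Function.Injective (sc L) := by
  intro a b hab
  apply Subtype.ext
  apply Subtype.ext
  apply Units.ext
  rw [coe_ker, coe_ker, hab]

theorem card_ker_dvd (L : Subgroup (GL (Fin 2) (ZMod p))) : Nat.card (pr L).ker ∣ p - 1 := by
  have h1 : Function.Injective (sc L).toHomUnits := by
    intro a b hab
    apply sc_injective L
    have := congrArg Units.val hab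
    simpa using this
  have h2 := Subgroup.card_dvd_of_injective _ h1
  rwa [Nat.card_eq_fintype_card (α := (ZMod p)ˣ), ZMod.card_units] at h2

theorem card_mul (L : Subgroup (GL (Fin 2) (ZMod p))) :
    Nat.card L = Nat.card (pr L).range * Nat.card (pr L).ker := by
  rw [Subgroup.card_eq_card_quotient_mul_card_subgroup (pr L).ker]
  congr 1
  exact Nat.card_congr (QuotientGroup.quotientKerEquivRange (pr L)).toEquiv

theorem twoFixed (hp2 : p ≠ 2) (L : Subgroup (GL (Fin 2) (ZMod p))) (hL : ¬ p ∣ Nat.card L) :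
    TwoFixed (pr L).range (OnePoint (KK p)) := by
  rintro ⟨_, g, rfl⟩ hne
  have h1 : (bc p g) ^ Nat.card L = 1 := by
    have : g ^ Nat.card L = 1 := pow_card_eq_one'
    rw [← map_pow, ← Subgroup.coe_pow, this, Subgroup.coe_one, map_one]
  have h2 : ∃ x : OnePoint (KK p), bc p g • x ≠ x := by
    by_contra hcon
    push Not at hcon
    apply hne
    apply Subtype.ext
    ext x
    exact hcon x
  obtain ⟨x, y, hxy, h3⟩ := exists_two_fixed hp2 (bc p g) _ hL h1 h2
  exact ⟨x, y, hxy, h3⟩

/-- Conjugacy of `g c` and `g c'`, `c`, `c'` scalars. -/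
theorem conj_scalar (L : Subgroup (GL (Fin 2) (ZMod p))) (g : L) (c c' : (pr L).ker)
    (h : IsConj (g * (c : L)) (g * c')) : c = c' ∨ (sc L c' = - sc L c ∧
      Matrix.trace ((g : GL (Fin 2) (ZMod p)) : Matrix (Fin 2) (Fin 2) (ZMod p)) = 0) := by
  obtain ⟨t, ht⟩ := isConj_iff.1 h
  set G := ((g : GL (Fin 2) (ZMod p)) : Matrix (Fin 2) (Fin 2) (ZMod p)) with hG
  have e1 : ∀ d : (pr L).ker, (((g * (d : L) : L) : GL (Fin 2) (ZMod p)) :
      Matrix (Fin 2) (Fin 2) (ZMod p)) = sc L d • G := by
    intro d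
    rw [Subgroup.coe_mul, Units.val_mul, coe_ker, mul_smul_comm, mul_one]
  have htr : Matrix.trace (sc L c' • G) = Matrix.trace (sc L c • G) := by
    rw [← e1, ← e1, ← ht, Subgroup.coe_mul, Subgroup.coe_mul, Units.val_mul, Units.val_mul,
      Matrix.trace_mul_cycle, ← Units.val_mul, Subgroup.coe_inv, inv_mul_cancel, Units.val_one,
      one_mul]
  have hdet : Matrix.det (sc L c' • G) = Matrix.det (sc L c • G) := by
    rw [← e1, ← e1, ← ht, Subgroup.coe_mul, Subgroup.coe_mul, Units.val_mul, Units.val_mul,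
      Matrix.det_mul, Matrix.det_mul, mul_right_comm, ← Matrix.det_mul, ← Units.val_mul,
      Subgroup.coe_inv, mul_inv_cancel, Units.val_one, Matrix.det_one, one_mul]
  rw [Matrix.det_smul, Matrix.det_smul, Fintype.card_fin] at hdet
  have hG0 : Matrix.det G ≠ 0 := (g : GL (Fin 2) (ZMod p)).det_ne_zero
  have h2 : sc L c' ^ 2 = sc L c ^ 2 := mul_right_cancel₀ hG0 hdet
  rcases sq_eq_sq_iff_eq_or_eq_neg.1 h2 with h3 | h3
  · exact Or.inl (sc_injective L h3.symm)
  · by_cases h4 : sc L c' = sc L c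
    · exact Or.inl (sc_injective L h4.symm)
    · right
      refine ⟨h3, ?_⟩
      rw [Matrix.trace_smul, Matrix.trace_smul, smul_eq_mul, smul_eq_mul] at htr
      have h5 : (sc L c' - sc L c) * Matrix.trace G = 0 := by linear_combination htr
      exact (mul_eq_zero.1 h5).resolve_left (sub_ne_zero.2 h4)

/-- Trace zero: the image is an involution. -/
theorem orderOf_of_trace (hp2 : p ≠ 2) (L : Subgroup (GL (Fin 2) (ZMod p))) (g : L)
    (h : Matrix.trace ((g : GL (Fin 2) (ZMod p)) : Matrix (Fin 2) (Fin 2) (ZMod p)) = 0) :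
    orderOf (pr L g) = 2 := by
  have h2 : (2 : ZMod p) ≠ 0 := by
    have : ((2 : ℕ) : ZMod p) ≠ 0 := by
      rw [ne_eq, ZMod.natCast_eq_zero_iff]
      intro hc
      exact hp2 ((Nat.prime_dvd_prime_iff_eq hp.out Nat.prime_two).1 hc)
    exact_mod_cast this
  set G := ((g : GL (Fin 2) (ZMod p)) : Matrix (Fin 2) (Fin 2) (ZMod p)) with hG
  rw [Matrix.trace_fin_two] at h
  have hd : G 0 0 * G 1 1 - G 0 1 * G 1 0 ≠ 0 := by
    have := (g : GL (Fin 2) (ZMod p)).det_ne_zero
    rwa [Matrix.det_fin_two] at this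
  have hG11 : G 1 1 = - G 0 0 := by linear_combination h
  apply orderOf_eq_prime
  · rw [← map_pow]
    show g ^ 2 ∈ (pr L).ker
    rw [mem_ker, Subgroup.coe_pow]
    have e : ∀ i j, ((g : GL (Fin 2) (ZMod p)) ^ 2) i j = G i 0 * G 0 j + G i 1 * G 1 j := by
      intro i j
      rw [sq, mul_apply']
    rw [e, e, e, e, hG11]
    refine ⟨by ring, by ring, by ring⟩
  · intro h1
    have h3 : g ∈ (pr L).ker := h1
    rw [mem_ker] at h3
    obtain ⟨h4, h5, h6⟩ := h3
    change G 1 0 = 0 at h4
    change G 0 1 = 0 at h5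
    change G 0 0 = G 1 1 at h6
    apply hd
    rw [hG11] at h6
    have h7 : G 0 0 = 0 := by
      have : 2 * G 0 0 = 0 := by linear_combination h6
      exact (mul_eq_zero.1 this).resolve_left h2
    rw [h7, h4]; ring

/-- The classes whose image has order `d`. -/
def Cl (L : Subgroup (GL (Fin 2) (ZMod p))) (d : ℕ) : Type :=
  {c : ConjClasses L // ∃ g : L, ConjClasses.mk g = c ∧ orderOf (pr L g) = d}

theorem orderOf_conj (L : Subgroup (GL (Fin 2) (ZMod p))) {g h : L} (hgh : IsConj g h) :
    orderOf (pr L g) = orderOf (pr L h) := by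
  obtain ⟨c, hc⟩ := isConj_iff.1 hgh
  rw [← hc, map_mul, map_mul, map_inv]
  exact (MulEquiv.orderOf_eq (MulAut.conj (pr L c)) (pr L g)).symm

theorem finite_Cl (L : Subgroup (GL (Fin 2) (ZMod p))) (d : ℕ) : Finite (Cl L d) :=
  inferInstanceAs (Finite {c : ConjClasses L // ∃ g : L, ConjClasses.mk g = c ∧ orderOf (pr L g) = d})

theorem pr_mul_ker (L : Subgroup (GL (Fin 2) (ZMod p))) (g : L) (c : (pr L).ker) :
    pr L (g * (c : L)) = pr L g := by
  rw [map_mul, show pr L (c : L) = 1 from c.2, mul_one]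

theorem card_ker_le_of_ne_two (hp2 : p ≠ 2) (L : Subgroup (GL (Fin 2) (ZMod p))) {d : ℕ} (hd : d ≠ 2)
    (g : L) (hg : orderOf (pr L g) = d) : Nat.card (pr L).ker ≤ Nat.card (Cl L d) := by
  have := finite_Cl L d
  refine Nat.card_le_card_of_injective (fun c : (pr L).ker =>
    (⟨ConjClasses.mk (g * (c : L)), g * (c : L), rfl, by rw [pr_mul_ker, hg]⟩ : Cl L d)) ?_
  intro c c' hcc
  have h1 : ConjClasses.mk (g * (c : L)) = ConjClasses.mk (g * (c' : L)) := congrArg Subtype.val hcc
  rcases conj_scalar L g c c' (ConjClasses.mk_eq_mk_iff_isConj.1 h1) with h2 | ⟨-, h2⟩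
  · exact h2
  · exfalso
    apply hd
    rw [← hg]
    exact orderOf_of_trace hp2 L g h2

theorem card_ker_le_two_mul (L : Subgroup (GL (Fin 2) (ZMod p)))
    (g : L) (hg : orderOf (pr L g) = 2) : Nat.card (pr L).ker ≤ 2 * Nat.card (Cl L 2) := by
  classical
  have := finite_Cl L 2
  have := Fintype.ofFinite (Cl L 2)
  have := Fintype.ofFinite (pr L).ker
  let f : (pr L).ker → Cl L 2 := fun c =>
    ⟨ConjClasses.mk (g * (c : L)), g * (c : L), rfl, by rw [pr_mul_ker, hg]⟩
  have h1 := Finset.card_le_mul_card_image_of_maps_to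
    (s := (Finset.univ : Finset (pr L).ker)) (t := (Finset.univ : Finset (Cl L 2)))
    (f := f) (fun a _ => Finset.mem_univ _) 2 (by
      intro b _
      rcases (Finset.univ.filter fun a : (pr L).ker => f a = b).eq_empty_or_nonempty with h0 | ⟨a, ha⟩
      · rw [h0, Finset.card_empty]; exact Nat.zero_le _
      · have hfa : f a = b := (Finset.mem_filter.1 ha).2
        have h2 : (Finset.univ.filter fun c : (pr L).ker => f c = b).image (sc L) ⊆
            {sc L a, - sc L a} := by
          intro x hx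
          obtain ⟨c, hc, rfl⟩ := Finset.mem_image.1 hx
          have hfc : f c = b := (Finset.mem_filter.1 hc).2
          have h3 : ConjClasses.mk (g * (a : L)) = ConjClasses.mk (g * (c : L)) :=
            congrArg Subtype.val (hfa.trans hfc.symm)
          rcases conj_scalar L g a c (ConjClasses.mk_eq_mk_iff_isConj.1 h3) with h4 | ⟨h4, -⟩
          · rw [h4]; simp
          · rw [h4]; simp
        have h3 := Finset.card_le_card h2
        rw [Finset.card_image_of_injective _ (sc_injective L)] at h3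
        exact h3.trans Finset.card_le_two)
  rw [Finset.card_univ, Finset.card_univ, ← Nat.card_eq_fintype_card, ← Nat.card_eq_fintype_card] at h1
  exact h1

theorem sum_Cl_le (L : Subgroup (GL (Fin 2) (ZMod p))) (S : Finset ℕ) :
    ∑ d ∈ S, Nat.card (Cl L d) ≤ Nat.card (ConjClasses L) := by
  classical
  have := fun d => finite_Cl L d
  rw [← Finset.sum_coe_sort, ← Nat.card_sigma]
  refine Nat.card_le_card_of_injective (fun x : Σ d : S, Cl L d => (x.2.1 : ConjClasses L)) ?_
  rintro ⟨⟨d, hd⟩, ⟨c, g, hg, hgd⟩⟩ ⟨⟨d', hd'⟩, ⟨c', g', hg', hgd'⟩⟩ hcc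
  have hcc' : c = c' := hcc
  have h1 : IsConj g g' := ConjClasses.mk_eq_mk_iff_isConj.1 (by rw [hg, hg', hcc'])
  have h2 : d = d' := by
    have := orderOf_conj L h1
    change orderOf (pr L g) = d at hgd
    change orderOf (pr L g') = d' at hgd'
    rw [← hgd, ← hgd', this]
  subst h2
  subst hcc'
  rfl

end Main

end Cfsg.Agent.H697.TwoDim
end

-- part: H697/TwoDimOrd
section
/-!
# `p'`-subgroups of `GL₂(p)`: elements of order four, groups of order 60
-/

set_option autoImplicit false

namespace Cfsg.Agent.H697.TwoDim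

open Matrix MulAction Cfsg.Agent.H275.TwoFix Cfsg.Agent.H275.GLTwoFix
open scoped OnePoint

section Four

variable {p : ℕ} [hp : Fact p.Prime]

/-- A point stabiliser of the image is cyclic. -/
theorem exists_orderOf (hp2 : p ≠ 2) (L : Subgroup (GL (Fin 2) (ZMod p))) (hL : ¬ p ∣ Nat.card L)
    (x : OnePoint (KK p)) : ∃ g : L,
      orderOf (pr L g) = Nat.card (stabilizer (pr L).range x) := by
  classical
  have hfin : Finite L := inferInstance
  let T' : Subgroup L := (stabilizer (Equiv.Perm (OnePoint (KK p))) x).comap (pr L)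
  have hT' : ∀ g : T', bc p ((g : L) : GL (Fin 2) (ZMod p)) • x = x := fun g => g.2
  have hv := vec_ne_zero x
  choose lam hlam using fun g : T' => eig (bc p ((g : L) : GL (Fin 2) (ZMod p))) x (hT' g)
  have huniq : ∀ c d : KK p, c • vec x = d • vec x → c = d := fun c d h => smul_left_injective _ hv h
  have hcoe : ∀ g h : T', ((bc p (((g * h : T') : L) : GL (Fin 2) (ZMod p)) : GL (Fin 2) (KK p)) :
      Matrix (Fin 2) (Fin 2) (KK p)) = (bc p ((g : L) : GL (Fin 2) (ZMod p)) :
      Matrix (Fin 2) (Fin 2) (KK p)) * (bc p ((h : L) : GL (Fin 2) (ZMod p)) :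
      Matrix (Fin 2) (Fin 2) (KK p)) := by
    intro g h
    rw [Subgroup.coe_mul, Subgroup.coe_mul, map_mul, Units.val_mul]
  have hlam1 : lam 1 = 1 := by
    apply huniq
    rw [← hlam, Subgroup.coe_one, Subgroup.coe_one, map_one, Units.val_one, Matrix.one_mulVec, one_smul]
  have hlamm : ∀ g h, lam (g * h) = lam g * lam h := by
    intro g h
    apply huniq
    rw [← hlam, hcoe, ← Matrix.mulVec_mulVec, hlam, Matrix.mulVec_smul, hlam, smul_smul, mul_comm]
  let μ : T' →* KK p :=
    { toFun := fun g => lam g * lam g * (Matrix.det (bc p ((g : L) : GL (Fin 2) (ZMod p)) :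
        Matrix (Fin 2) (Fin 2) (KK p)))⁻¹
      map_one' := by
        rw [hlam1, Subgroup.coe_one, Subgroup.coe_one, map_one, Units.val_one, Matrix.det_one]
        simp
      map_mul' := fun g h => by
        rw [hlamm, hcoe, Matrix.det_mul, mul_inv]
        ring }
  have hμ : ∀ g : T', μ g = 1 ↔ pr L (g : L) = 1 := by
    intro g
    set M : Matrix (Fin 2) (Fin 2) (KK p) := (bc p ((g : L) : GL (Fin 2) (ZMod p)) :
        Matrix (Fin 2) (Fin 2) (KK p)) with hM
    have hd : Matrix.det M ≠ 0 := (bc p ((g : L) : GL (Fin 2) (ZMod p))).det_ne_zero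
    have e0 : M 0 0 * vec x 0 + M 0 1 * vec x 1 = lam g * vec x 0 := by
      have := congrFun (hlam g) 0
      simp only [Matrix.mulVec, dotProduct, Fin.sum_univ_two, Pi.smul_apply, smul_eq_mul] at this
      exact this
    have e1 : M 1 0 * vec x 0 + M 1 1 * vec x 1 = lam g * vec x 1 := by
      have := congrFun (hlam g) 1
      simp only [Matrix.mulVec, dotProduct, Fin.sum_univ_two, Pi.smul_apply, smul_eq_mul] at this
      exact this
    have hdet0 : (M 0 0 - lam g) * (M 1 1 - lam g) - M 0 1 * M 1 0 = 0 := by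
      by_contra hne
      apply hv
      have h0 : ((M 0 0 - lam g) * (M 1 1 - lam g) - M 0 1 * M 1 0) * vec x 0 = 0 := by
        linear_combination (M 1 1 - lam g) * e0 - M 0 1 * e1
      have h1 : ((M 0 0 - lam g) * (M 1 1 - lam g) - M 0 1 * M 1 0) * vec x 1 = 0 := by
        linear_combination (M 0 0 - lam g) * e1 - M 1 0 * e0
      ext i
      fin_cases i
      · exact (mul_eq_zero.1 h0).resolve_left hne
      · exact (mul_eq_zero.1 h1).resolve_left hne
    constructor
    · intro h
      have h1 : lam g * lam g * (Matrix.det M)⁻¹ = 1 := h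
      have h2 : lam g * lam g = Matrix.det M := by
        rw [← div_eq_mul_inv, div_eq_one_iff_eq hd] at h1
        exact h1
      have hl0 : lam g ≠ 0 := by
        intro h0
        rw [h0, mul_zero] at h2
        exact hd h2.symm
      rw [Matrix.det_fin_two] at h2
      have h3 : M 0 0 + M 1 1 = 2 * lam g := by
        apply mul_left_cancel₀ hl0
        linear_combination -hdet0 - h2
      have hsq : (M - lam g • (1 : Matrix (Fin 2) (Fin 2) (KK p))) *
          (M - lam g • (1 : Matrix (Fin 2) (Fin 2) (KK p))) = 0 := by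
        ext i j
        rw [Matrix.mul_apply, Fin.sum_univ_two]
        fin_cases i <;> fin_cases j <;>
          simp [Matrix.sub_apply, Matrix.smul_apply]
        · linear_combination (M 0 0 - lam g) * h3 - hdet0
        · linear_combination (M 0 1) * h3
        · linear_combination (M 1 0) * h3
        · linear_combination (M 1 1 - lam g) * h3 - hdet0
      have hpow : M ^ Nat.card L = 1 := by
        have : (g : L) ^ Nat.card L = 1 := pow_card_eq_one'
        rw [hM, ← Units.val_pow_eq_pow_val, ← map_pow, ← Subgroup.coe_pow, this, Subgroup.coe_one,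
          map_one, Units.val_one]
      have hs := scalar_of_discr_eq_zero M (Nat.card L) hL hpow (lam g) hsq hl0
      ext y
      rw [pr_apply]
      apply smul_eq_self_of_scalar
      · have := congrFun (congrFun hs 1) 0
        simpa using this
      · have := congrFun (congrFun hs 0) 1
        simpa using this
      · have e1 := congrFun (congrFun hs 0) 0
        have e2 := congrFun (congrFun hs 1) 1
        simp at e1 e2
        exact e1.trans e2.symm
    · intro h
      have h1 := (mem_ker L (g : L)).1 h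
      obtain ⟨h2, h3, h4⟩ := h1
      have h2' : M 1 0 = 0 := by rw [hM, bc_apply, h2, map_zero]
      have h3' : M 0 1 = 0 := by rw [hM, bc_apply, h3, map_zero]
      have h4' : M 0 0 = M 1 1 := by rw [hM, bc_apply, bc_apply, h4]
      have h5 : lam g = M 0 0 := by
        by_contra hne
        rw [h3', zero_mul, sub_zero, ← h4'] at hdet0
        have := mul_self_eq_zero.1 hdet0
        exact hne (sub_eq_zero.1 this).symm
      show lam g * lam g * (Matrix.det M)⁻¹ = 1
      rw [Matrix.det_fin_two, h2', h3', ← h4', h5, mul_zero, sub_zero]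
      apply mul_inv_cancel₀
      rw [Matrix.det_fin_two, h2', h3', ← h4', mul_zero, sub_zero] at hd
      exact hd
  -- the kernels
  let ν : T' →* Equiv.Perm (OnePoint (KK p)) := (pr L).comp T'.subtype
  let μ' := μ.toHomUnits
  have hμ' : ∀ g : T', μ' g = 1 ↔ ν g = 1 := by
    intro g
    refine Iff.trans ?_ (hμ g)
    have hval : ((μ' g : (KK p)ˣ) : KK p) = μ g := MonoidHom.coe_toHomUnits μ g
    constructor
    · intro h
      rw [← hval, h, Units.val_one]
    · intro h
      apply Units.ext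
      rw [hval, h, Units.val_one]
  have hker : μ'.ker = ν.ker := by
    ext g
    exact hμ' g
  have hcard : Nat.card μ'.range = Nat.card ν.range := by
    rw [← Nat.card_congr (QuotientGroup.quotientKerEquivRange μ').toEquiv,
      ← Nat.card_congr (QuotientGroup.quotientKerEquivRange ν).toEquiv, hker]
  have hν : Nat.card ν.range = Nat.card (stabilizer (pr L).range x) := by
    refine Nat.card_congr ⟨fun y => ⟨⟨y, ?_⟩, ?_⟩, fun y => ⟨y, ?_⟩, fun _ => rfl, fun _ => rfl⟩
    · obtain ⟨_, g, rfl⟩ := y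
      exact ⟨(g : L), rfl⟩
    · obtain ⟨_, g, rfl⟩ := y
      exact hT' g
    · obtain ⟨⟨_, g, rfl⟩, hy⟩ := y
      exact ⟨⟨g, hy⟩, rfl⟩
  have : Finite μ'.range := inferInstance
  obtain ⟨u, hu⟩ := IsCyclic.exists_ofOrder_eq_natCard (α := μ'.range)
  obtain ⟨_, g, rfl⟩ := u
  refine ⟨(g : L), ?_⟩
  rw [← hν, ← hcard, ← hu, ← Subgroup.orderOf_coe]
  show orderOf (ν g) = orderOf (μ' g)
  apply Nat.dvd_antisymm
  · apply orderOf_dvd_of_pow_eq_one
    rw [← map_pow, ← hμ', map_pow, pow_orderOf_eq_one]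
  · apply orderOf_dvd_of_pow_eq_one
    rw [← map_pow, hμ', map_pow, pow_orderOf_eq_one]

end Four

section Sixty

variable {G : Type*} [Group G] [Finite G]

theorem normal_sylow_five {A : Type*} [Group A] [Finite A] {m : ℕ} (hm : m = 3 ∨ m = 4)
    (hA : Nat.card A = 5 * m) (Q : Sylow 5 A) : Nat.card Q = 5 ∧ (Q : Subgroup A).Normal := by
  have : Fact (Nat.Prime 5) := ⟨Nat.prime_five⟩
  have hQ : Nat.card Q = 5 := by
    rw [Q.card_eq_multiplicity, hA]
    rcases hm with rfl | rfl
    · rw [show 5 * 3 = 5 ^ 1 * 3 by norm_num, Nat.factorization_mul (by norm_num) (by norm_num)]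
      simp [Nat.factorization_eq_zero_of_not_dvd, Nat.prime_five]
    · rw [show 5 * 4 = 5 ^ 1 * 4 by norm_num, Nat.factorization_mul (by norm_num) (by norm_num)]
      simp [Nat.factorization_eq_zero_of_not_dvd, Nat.prime_five]
  refine ⟨hQ, ?_⟩
  have h1 := card_sylow_modEq_one 5 A
  have h2 : Nat.card (Sylow 5 A) ∣ (Q : Subgroup A).index := Q.card_dvd_index
  have h3 : (Q : Subgroup A).index = m := by
    have := (Q : Subgroup A).card_mul_index
    rw [hA] at this
    have h4 : Nat.card (Q : Subgroup A) = 5 := hQ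
    rw [h4] at this
    omega
  rw [h3] at h2
  have h4 : Nat.card (Sylow 5 A) = 1 := by
    have h5 : Nat.card (Sylow 5 A) ≤ m := Nat.le_of_dvd (by omega) h2
    have h6 : Nat.card (Sylow 5 A) % 5 = 1 := h1
    omega
  have : Subsingleton (Sylow 5 A) := (Nat.card_eq_one_iff_unique.1 h4).1
  exact Sylow.normal_of_subsingleton Q

theorem dvd_normalizer (hG : Nat.card G = 60) (A : Subgroup G) {m : ℕ} (hm : m = 3 ∨ m = 4)
    (hA : Nat.card A = 5 * m) (P : Sylow 5 G) :
    5 * m ∣ Nat.card (Subgroup.normalizer ((P : Subgroup G) : Set G)) := by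
  have : Fact (Nat.Prime 5) := ⟨Nat.prime_five⟩
  obtain ⟨Q⟩ : Nonempty (Sylow 5 A) := inferInstance
  obtain ⟨hQ, hQn⟩ := normal_sylow_five hm hA Q
  let Q' : Subgroup G := (Q : Subgroup A).map A.subtype
  have hQ'c : Nat.card Q' = 5 := by
    rw [Subgroup.card_map_of_injective A.subtype_injective]; exact hQ
  have hfac : (Nat.card G).factorization 5 = 1 := by
    rw [hG, show 60 = 5 ^ 1 * 12 by norm_num, Nat.factorization_mul (by norm_num) (by norm_num)]
    simp [Nat.factorization_eq_zero_of_not_dvd, Nat.prime_five]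
  let S : Sylow 5 G := Sylow.ofCard Q' (by rw [hQ'c, hfac, pow_one])
  have hS : (S : Subgroup G) = Q' := rfl
  have hAN : A ≤ Subgroup.normalizer ((S : Subgroup G) : Set G) := by
    rw [hS]
    have key : ∀ a : A, ∀ y ∈ Q', (a : G) * y * (a : G)⁻¹ ∈ Q' := by
      rintro a _ ⟨q, hq, rfl⟩
      exact ⟨a * q * a⁻¹, hQn.conj_mem q hq a, rfl⟩
    intro a ha
    rw [Subgroup.mem_normalizer_iff]
    intro y
    refine ⟨key ⟨a, ha⟩ y, fun hy => ?_⟩
    have := key ⟨a, ha⟩⁻¹ _ hy
    simpa [mul_assoc] using this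
  obtain ⟨g, rfl⟩ := MulAction.exists_smul_eq G S P
  have h1 : Nat.card (Subgroup.normalizer (((g • S : Sylow 5 G) : Subgroup G) : Set G)) =
      Nat.card (Subgroup.normalizer ((S : Subgroup G) : Set G)) := by
    have h2 : Nat.card (Sylow 5 G) =
      (Subgroup.normalizer (((g • S : Sylow 5 G) : Subgroup G) : Set G)).index :=
      Sylow.card_eq_index_normalizer (g • S)
    have h3 : Nat.card (Sylow 5 G) = (Subgroup.normalizer ((S : Subgroup G) : Set G)).index :=
      Sylow.card_eq_index_normalizer S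
    have h4 := (Subgroup.normalizer (((g • S : Sylow 5 G) : Subgroup G) : Set G)).card_mul_index
    have h5 := (Subgroup.normalizer ((S : Subgroup G) : Set G)).card_mul_index
    rw [← h2] at h4
    rw [← h3] at h5
    exact Nat.eq_of_mul_eq_mul_right Nat.card_pos (h4.trans h5.symm)
  rw [h1, ← hA]
  exact Subgroup.card_dvd_of_le hAN

/-- A solvable group of order 60 has a normal Sylow 5-subgroup. -/
theorem normal_of_solvable_sixty (hG : Nat.card G = 60) (hs : Group.IsSolvable G) (P : Sylow 5 G) :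
    (P : Subgroup G).Normal := by
  obtain ⟨A, hA⟩ := Cfsg.Agent.S0003.result (G := G) 15 4 (by rw [hG]) (by norm_num)
  obtain ⟨B, hB⟩ := Cfsg.Agent.S0003.result (G := G) 20 3 (by rw [hG]) (by norm_num)
  have h1 := dvd_normalizer hG A (m := 3) (Or.inl rfl) hA P
  have h2 := dvd_normalizer hG B (m := 4) (Or.inr rfl) hB P
  rw [← Subgroup.normalizer_eq_top_iff]
  apply Subgroup.eq_top_of_card_eq
  rw [hG]
  have h3 : 60 ∣ Nat.card (Subgroup.normalizer ((P : Subgroup G) : Set G)) := by
    have : Nat.lcm (5 * 3) (5 * 4) ∣ Nat.card (Subgroup.normalizer ((P : Subgroup G) : Set G)) :=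
      Nat.lcm_dvd h1 h2
    exact this
  have h4 : Nat.card (Subgroup.normalizer ((P : Subgroup G) : Set G)) ∣ 60 := by
    rw [← hG]; exact Subgroup.card_subgroup_dvd_card _
  exact Nat.dvd_antisymm h4 h3

/-- The icosahedral case is not solvable. -/
theorem not_solvable_of_twoFixed {X : Type*} [MulAction G X] (h : TwoFixed G X)
    (hG : Nat.card G = 60) (x : X) (hx : Nat.card (stabilizer G x) = 5) : ¬ Group.IsSolvable G := by
  classical
  intro hs
  have : Fact (Nat.Prime 5) := ⟨Nat.prime_five⟩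
  have hfac : (Nat.card G).factorization 5 = 1 := by
    rw [hG, show 60 = 5 ^ 1 * 12 by norm_num, Nat.factorization_mul (by norm_num) (by norm_num)]
    simp [Nat.factorization_eq_zero_of_not_dvd, Nat.prime_five]
  let S : Sylow 5 G := Sylow.ofCard (stabilizer G x) (by rw [hx, hfac, pow_one])
  have hn : (stabilizer G x).Normal := normal_of_solvable_sixty hG hs S
  have hnt : Nontrivial (stabilizer G x) := Finite.one_lt_card_iff_nontrivial.1 (by omega)
  obtain ⟨g, hg⟩ := exists_ne (1 : stabilizer G x)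
  have hg1 : (g : G) ≠ 1 := fun hc => hg (Subtype.ext hc)
  obtain ⟨a, b, -, hab⟩ := h g hg1
  have hsub : orbit G x ⊆ {a, b} := by
    rintro _ ⟨c, rfl⟩
    have h1 : c⁻¹ * g * c⁻¹⁻¹ ∈ stabilizer G x := hn.conj_mem g g.2 c⁻¹
    have h2 : (c⁻¹ * (g : G) * c) • x = x := by simpa using h1
    have h3 : (g : G) • (c • x) = c • x := by
      rw [mul_smul, mul_smul, inv_smul_eq_iff] at h2
      exact h2
    have h4 := (hab (c • x)).1 h3
    simpa using h4
  have h1 := Cfsg.Agent.ClassicalGeometry.DicksonCount.card_orbit_mul (G := G) x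
  rw [hx, hG] at h1
  have h2 : Nat.card (orbit G x) ≤ 2 := by
    rw [Nat.card_coe_set_eq]
    refine (Set.ncard_le_ncard hsub (Set.toFinite _)).trans ?_
    refine (Set.ncard_insert_le a {b}).trans ?_
    rw [Set.ncard_singleton]
  omega

end Sixty

end Cfsg.Agent.H697.TwoDim
end
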