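import Mathlib
import Cfsg.Prelude
import Cfsg.Agent.H697.ClassCount
import Cfsg.Agent.H697.TwoDimOrd
import Cfsg.Agent.H697.Hering
import Cfsg.Agent.S0689
import Cfsg.Agent.Solvable.SchurZassenhausConj
import Cfsg.Agent.PLocal.SL2Perfect
import Cfsg.Agent.Lib.Cores
import Cfsg.Agent.Lib.PSolvable
import Cfsg.Agent.PermutationGroups.RegularLinear
set_option linter.all false

-- part: H697/Affine
section
/-!
# The one-dimensional affine group over the prime field
-/

set_option autoImplicit false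

namespace Cfsg.Agent.H697.Affine

open scoped Pointwise

variable {p : ℕ} [hp : Fact p.Prime] {Q : Type*} [Group Q] [Finite Q]

/-- The order of the affine group is at most `p (p - 1)`. -/
theorem card_affine_le : Nat.card (Cfsg.affineGroup (ZMod p)) ≤ p * (p - 1) := by
  classical
  let f : (ZMod p)ˣ × ZMod p → Cfsg.affineGroup (ZMod p) := fun x =>
    ⟨(Units.mulLeft x.1).trans (Equiv.addRight x.2), ⟨x.1, x.2, fun _ => rfl⟩⟩
  have hf : Function.Surjective f := by
    rintro ⟨σ, a, b, hσ⟩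
    refine ⟨(a, b), Subtype.ext (Equiv.ext fun x => ?_)⟩
    rw [hσ]
    rfl
  have h := Nat.card_le_card_of_surjective f hf
  rw [Nat.card_prod, Nat.card_zmod, Nat.card_eq_fintype_card (α := (ZMod p)ˣ), ZMod.card_units,
    mul_comm] at h
  exact h

section

variable (V H : Subgroup Q) (hVn : V.Normal) (hcardV : Nat.card V = p)
  (hH : Subgroup.IsComplement' V H) (hcent : ∀ g : Q, (∀ v ∈ V, g * v = v * g) → g ∈ V)
  (htr : ∀ v ∈ V, ∀ w ∈ V, v ≠ 1 → w ≠ 1 → ∃ h ∈ H, h * v * h⁻¹ = w)

include hVn hcardV hH hcent htr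

/-- The complement has order `p - 1` and is commutative. -/
theorem card_complement : Nat.card H = p - 1 ∧ ∀ a ∈ H, ∀ b ∈ H, a * b = b * a := by
  classical
  have hp' : p.Prime := hp.out
  have : Nontrivial V := Finite.one_lt_card_iff_nontrivial.1 (by rw [hcardV]; exact hp'.one_lt)
  obtain ⟨⟨x, hx⟩, hx1⟩ := exists_ne (1 : V)
  have hx1' : x ≠ 1 := fun h => hx1 (Subtype.ext h)
  have hxp : x ^ p = 1 := by
    have : (⟨x, hx⟩ : V) ^ Nat.card V = 1 := pow_card_eq_one'
    rw [hcardV] at this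
    exact congrArg Subtype.val this
  have hVx : Subgroup.zpowers x = V := by
    apply Subgroup.eq_of_le_of_card_ge (by rw [Subgroup.zpowers_le]; exact hx)
    rw [hcardV, Nat.card_zpowers, orderOf_eq_prime hxp hx1']
  have hdisj := hH.disjoint
  have hcx : ∀ g : Q, g * x = x * g → g ∈ V := by
    intro g hg
    apply hcent
    intro v hv
    rw [← hVx] at hv
    obtain ⟨i, rfl⟩ := hv
    exact ((show Commute g x from hg).zpow_right i).eq
  let f : H → {v : V // v ≠ 1} := fun h => ⟨⟨h * x * (h : Q)⁻¹, hVn.conj_mem x hx h⟩, fun h0 => by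
    have h1 : (h : Q) * x * (h : Q)⁻¹ = 1 := congrArg Subtype.val h0
    rw [mul_inv_eq_one] at h1
    exact hx1' (mul_left_cancel (h1.trans (mul_one _).symm))⟩
  have hf : Function.Bijective f := by
    constructor
    · intro a b hab
      have h1 : (a : Q) * x * (a : Q)⁻¹ = (b : Q) * x * (b : Q)⁻¹ :=
        congrArg (fun z : {v : V // v ≠ 1} => ((z : V) : Q)) hab
      have h2 : ((b : Q)⁻¹ * a) * x = x * ((b : Q)⁻¹ * a) := by
        have h4 : (a : Q) * x = (b : Q) * x * (b : Q)⁻¹ * a := by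
          rw [← h1]; group
        rw [mul_assoc, h4]
        group
      have h3 : (b : Q)⁻¹ * a = 1 :=
        Subgroup.disjoint_def.1 hdisj (hcx _ h2) (H.mul_mem (H.inv_mem b.2) a.2)
      exact Subtype.ext (inv_mul_eq_one.1 h3).symm
    · rintro ⟨⟨w, hw⟩, hw1⟩
      obtain ⟨h, hh, hhw⟩ := htr x hx w hw hx1' (fun h0 => hw1 (Subtype.ext h0))
      exact ⟨⟨h, hh⟩, Subtype.ext (Subtype.ext hhw)⟩
  constructor
  · rw [Nat.card_congr (Equiv.ofBijective f hf)]
    have h1 : Nat.card {v : V // v ≠ 1} = ({1} : Set V)ᶜ.ncard := by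
      rw [← Nat.card_coe_set_eq]
      rfl
    rw [h1, Set.ncard_compl, Set.ncard_singleton, hcardV]
  · intro a ha b hb
    have hcomm : a⁻¹ * b⁻¹ * a * b = 1 := by
      have key : ∀ g : Q, ∃ i : ℤ, g * x * g⁻¹ = x ^ i := by
        intro g
        have := hVn.conj_mem x hx g
        rw [← hVx] at this
        obtain ⟨i, hi⟩ := this
        exact ⟨i, hi.symm⟩
      obtain ⟨i, hi⟩ := key a
      obtain ⟨j, hj⟩ := key b
      have h3 : a * b * x * b⁻¹ * a⁻¹ = b * a * x * a⁻¹ * b⁻¹ := by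
        calc a * b * x * b⁻¹ * a⁻¹ = a * (b * x * b⁻¹) * a⁻¹ := by group
          _ = (a * x * a⁻¹) ^ j := by rw [hj, conj_zpow]
          _ = x ^ (i * j) := by rw [hi, zpow_mul]
          _ = (b * x * b⁻¹) ^ i := by rw [hj, ← zpow_mul, mul_comm]
          _ = b * (a * x * a⁻¹) * b⁻¹ := by rw [hi, conj_zpow]
          _ = b * a * x * a⁻¹ * b⁻¹ := by group
      have h4 : (a⁻¹ * b⁻¹ * a * b) * x = x * (a⁻¹ * b⁻¹ * a * b) := by
        have h5 : (a⁻¹ * b⁻¹ * a * b) * x = a⁻¹ * b⁻¹ * (a * b * x * b⁻¹ * a⁻¹) * (a * b) := by group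
        rw [h5, h3]
        group
      exact Subgroup.disjoint_def.1 hdisj (hcx _ h4)
        (H.mul_mem (H.mul_mem (H.mul_mem (H.inv_mem ha) (H.inv_mem hb)) ha) hb)
    have h5 : a * b = b * a * (a⁻¹ * b⁻¹ * a * b) := by group
    rw [h5, hcomm, mul_one]

/-- Recognition of the affine group. -/
theorem affine_iso : Nonempty (Q ≃* Cfsg.affineGroup (ZMod p)) := by
  classical
  have hp' : p.Prime := hp.out
  have hcardH := (card_complement V H hVn hcardV hH hcent htr).1
  have : Nontrivial V := Finite.one_lt_card_iff_nontrivial.1 (by rw [hcardV]; exact hp'.one_lt)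
  obtain ⟨⟨x, hx⟩, hx1⟩ := exists_ne (1 : V)
  have hx1' : x ≠ 1 := fun h => hx1 (Subtype.ext h)
  have hxp : x ^ p = 1 := by
    have : (⟨x, hx⟩ : V) ^ Nat.card V = 1 := pow_card_eq_one'
    rw [hcardV] at this
    exact congrArg Subtype.val this
  have hxo : orderOf x = p := orderOf_eq_prime hxp hx1'
  have hVx : Subgroup.zpowers x = V := by
    apply Subgroup.eq_of_le_of_card_ge (by rw [Subgroup.zpowers_le]; exact hx)
    rw [hcardV, Nat.card_zpowers, hxo]
  have hdisj := hH.disjoint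
  have hcx : ∀ g : Q, g * x = x * g → g ∈ V := by
    intro g hg
    apply hcent
    intro v hv
    rw [← hVx] at hv
    obtain ⟨i, rfl⟩ := hv
    exact ((show Commute g x from hg).zpow_right i).eq
  -- the cosets
  let e₀ : ZMod p → Q ⧸ H := fun i => ((x ^ i.val : Q) : Q ⧸ H)
  have he₀ : Function.Injective e₀ := by
    intro i j hij
    have h1 : (x ^ i.val)⁻¹ * x ^ j.val ∈ H := QuotientGroup.eq.1 hij
    have h2 : (x ^ i.val)⁻¹ * x ^ j.val ∈ V := V.mul_mem (V.inv_mem (V.pow_mem hx _)) (V.pow_mem hx _)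
    have h3 := Subgroup.disjoint_def.1 hdisj h2 h1
    have h4 : x ^ i.val = x ^ j.val := inv_mul_eq_one.1 h3
    have h5 := pow_injOn_Iio_orderOf (x := x) (by rw [hxo]; exact ZMod.val_lt i)
      (by rw [hxo]; exact ZMod.val_lt j) h4
    exact ZMod.val_injective p h5
  have hcardQH : Nat.card (Q ⧸ H) = p := by
    rw [← hcardV]
    exact hH.index_eq_card
  have he₀b : Function.Bijective e₀ := by
    have := Fintype.ofFinite (Q ⧸ H)
    rw [Fintype.bijective_iff_injective_and_card]
    refine ⟨he₀, ?_⟩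
    rw [ZMod.card, ← Nat.card_eq_fintype_card, hcardQH]
  let e : ZMod p ≃ Q ⧸ H := Equiv.ofBijective e₀ he₀b
  have hepow : ∀ n : ℤ, e (n : ZMod p) = ((x ^ n : Q) : Q ⧸ H) := by
    intro n
    show ((x ^ (n : ZMod p).val : Q) : Q ⧸ H) = _
    congr 1
    rw [← zpow_natCast, ZMod.val_intCast, ← hxo, zpow_mod_orderOf]
  let φ : Q →* Equiv.Perm (ZMod p) :=
    (e.symm.permCongrHom.toMonoidHom).comp (MulAction.toPermHom Q (Q ⧸ H))
  have hφ : ∀ g i, e (φ g i) = g • e i := by
    intro g i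
    show e (e.symm (g • e.symm.symm i)) = _
    rw [Equiv.apply_symm_apply, Equiv.symm_symm]
  have haff : ∀ g, φ g ∈ Cfsg.affineGroup (ZMod p) := by
    intro g
    have hg' : g ∈ (V : Set Q) * (H : Set Q) := by
      rw [Subgroup.IsComplement.mul_eq hH]; trivial
    obtain ⟨y, hy, h, hh, rfl⟩ := hg'
    have hy' : y ∈ V := hy
    rw [← hVx] at hy'
    obtain ⟨b, rfl⟩ := hy'
    have hk := hVn.conj_mem x hx h
    rw [← hVx] at hk
    obtain ⟨a, ha⟩ := hk
    have ha' : x ^ a = h * x * h⁻¹ := ha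
    have ha0 : ((a : ℤ) : ZMod p) ≠ 0 := by
      intro h0
      rw [ZMod.intCast_zmod_eq_zero_iff_dvd] at h0
      obtain ⟨c, rfl⟩ := h0
      rw [zpow_mul, zpow_natCast, hxp, one_zpow] at ha'
      have := mul_inv_eq_one.1 ha'.symm
      exact hx1' (mul_left_cancel (this.trans (mul_one _).symm))
    refine ⟨Units.mk0 _ ha0, (b : ZMod p), fun i => ?_⟩
    apply e.injective
    rw [hφ]
    obtain ⟨n, rfl⟩ := ZMod.intCast_surjective i
    rw [Units.val_mk0, ← Int.cast_mul, ← Int.cast_add, hepow, hepow]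
    show ((x ^ b * h * x ^ n : Q) : Q ⧸ H) = _
    rw [QuotientGroup.eq]
    have h1 : h * x ^ n * h⁻¹ = x ^ (a * n) := by
      rw [← conj_zpow, ← ha', ← zpow_mul]
    have h2 : x ^ b * h * x ^ n = x ^ (a * n + b) * h := by
      have h3 : x ^ b * h * x ^ n = x ^ b * (h * x ^ n * h⁻¹) * h := by group
      rw [h3, h1, ← zpow_add, add_comm]
    have hh' : h ∈ H := hh
    have h3 : (x ^ b * h * x ^ n)⁻¹ * x ^ (a * n + b) = h⁻¹ := by
      rw [h2]; group
    rw [h3]
    exact H.inv_mem hh'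
  let ψ : Q →* Cfsg.affineGroup (ZMod p) := φ.codRestrict _ haff
  have hψ : Function.Injective ψ := by
    rw [injective_iff_map_eq_one]
    intro g hg
    have hg1 : φ g = 1 := congrArg Subtype.val hg
    have h1 : ∀ n : ℤ, g • ((x ^ n : Q) : Q ⧸ H) = ((x ^ n : Q) : Q ⧸ H) := by
      intro n
      rw [← hepow, ← hφ, hg1]
      rfl
    have h2 : g ∈ H := by
      have h3 := h1 0
      rw [zpow_zero] at h3
      have h4 : ((g * 1 : Q) : Q ⧸ H) = ((1 : Q) : Q ⧸ H) := h3
      rw [mul_one, QuotientGroup.eq, mul_one] at h4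
      have := H.inv_mem h4
      rwa [inv_inv] at this
    have h3 : g⁻¹ * (x⁻¹ * g * x) ∈ H := by
      have h3 := h1 1
      rw [zpow_one] at h3
      have h4 : ((g * x : Q) : Q ⧸ H) = ((x : Q) : Q ⧸ H) := h3
      rw [QuotientGroup.eq] at h4
      have h5 := H.inv_mem h4
      refine H.mul_mem (H.inv_mem h2) ?_
      have h6 : ((g * x)⁻¹ * x)⁻¹ = x⁻¹ * g * x := by group
      rwa [h6] at h5
    have h4 : g⁻¹ * (x⁻¹ * g * x) ∈ V := by
      have h5 : g⁻¹ * (x⁻¹ * g * x) = (g⁻¹ * x⁻¹ * g⁻¹⁻¹) * x := by group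
      rw [h5]
      exact V.mul_mem (hVn.conj_mem _ (V.inv_mem hx) g⁻¹) hx
    have h5 := Subgroup.disjoint_def.1 hdisj h4 h3
    have h6 : g * x = x * g := by
      have h7 : g = x⁻¹ * g * x := inv_mul_eq_one.1 h5
      nth_rewrite 2 [h7]
      group
    exact Subgroup.disjoint_def.1 hdisj (hcx g h6) h2
  have hcardQ : Nat.card Q = p * (p - 1) := by
    rw [← Subgroup.IsComplement'.card_mul_card hH, hcardV, hcardH]
  have hfin : Finite (Cfsg.affineGroup (ZMod p)) := inferInstance
  have hbij : Function.Bijective ψ := by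
    have := Fintype.ofFinite Q
    have := Fintype.ofFinite (Cfsg.affineGroup (ZMod p))
    rw [Fintype.bijective_iff_injective_and_card]
    refine ⟨hψ, ?_⟩
    rw [← Nat.card_eq_fintype_card, ← Nat.card_eq_fintype_card]
    apply le_antisymm
    · exact Nat.card_le_card_of_injective ψ hψ
    · rw [hcardQ]; exact card_affine_le
  exact ⟨MulEquiv.ofBijective ψ hbij⟩

end

end Cfsg.Agent.H697.Affine
end

-- part: H697/TwoDimMain
section
/-!
# Transitive `p'`-subgroups of `GL₂(p)` have at least `p` classes, or `p = 11` and the order is 120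
-/

set_option autoImplicit false
set_option linter.unreachableTactic false
set_option linter.unusedTactic false
set_option linter.unusedVariables false

namespace Cfsg.Agent.H697.TwoDim

open Matrix MulAction Cfsg.Agent.H275.TwoFix Cfsg.Agent.H275.GLTwoFix
open scoped OnePoint

variable {p : ℕ} [hp : Fact p.Prime]

theorem finite_range (L : Subgroup (GL (Fin 2) (ZMod p))) : Finite (pr L).range :=
  Set.finite_range (pr L)

theorem exists_of_dvd (L : Subgroup (GL (Fin 2) (ZMod p))) {q : ℕ} (hq : q.Prime)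
    (h : q ∣ Nat.card (pr L).range) : ∃ g : L, orderOf (pr L g) = q := by
  have : Fact q.Prime := ⟨hq⟩
  have := finite_range L
  obtain ⟨⟨_, g, rfl⟩, hy⟩ := exists_prime_orderOf_dvd_card' q h
  refine ⟨g, ?_⟩
  rw [← hy, ← Subgroup.orderOf_coe]

theorem two_points (hp5 : 5 ≤ p) (L : Subgroup (GL (Fin 2) (ZMod p)))
    (hdvd : p ^ 2 - 1 ∣ Nat.card L) {a b : OnePoint (KK p)} (hab : a ≠ b)
    (h : ∀ g : (pr L).range, (g • a = a ∧ g • b = b) ∨ (g • a = b ∧ g • b = a)) :
    p ≤ Nat.card (ConjClasses L) := by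
  classical
  let A : Subgroup L := (stabilizer (pr L).range a).comap (pr L).rangeRestrict
  have hA : ∀ g ∈ A, bc p (g : GL (Fin 2) (ZMod p)) • a = a ∧
      bc p (g : GL (Fin 2) (ZMod p)) • b = b := by
    intro g hg
    have h1 : (pr L).rangeRestrict g • a = a := hg
    rcases h ((pr L).rangeRestrict g) with h2 | h2
    · exact h2
    · exact absurd (h1.symm.trans h2.1) hab
  have hcomm : ∀ g ∈ A, ∀ g' ∈ A, g * g' = g' * g := by
    intro g hg g' hg'
    obtain ⟨h1, h2⟩ := hA g hg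
    obtain ⟨h3, h4⟩ := hA g' hg'
    have h5 := commute_of_two _ _ hab h1 h2 h3 h4
    rw [← map_mul, ← map_mul] at h5
    exact Subtype.ext (bc_injective h5)
  have hidx : A.index ≤ 2 := by
    rw [Subgroup.index_comap_of_surjective _ (pr L).rangeRestrict_surjective,
      MulAction.index_stabilizer]
    have hsub : orbit (pr L).range a ⊆ {a, b} := by
      rintro _ ⟨g, rfl⟩
      rcases h g with h2 | h2
      · left; exact h2.1
      · right; exact h2.1
    refine (Set.ncard_le_ncard hsub (Set.toFinite _)).trans ?_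
    refine (Set.ncard_insert_le a {b}).trans ?_
    rw [Set.ncard_singleton]
  have h1 := ClassCount.card_le_mul_index A hcomm
  have h2 := A.card_mul_index
  have h3 : p ^ 2 - 1 ≤ Nat.card L := Nat.le_of_dvd Nat.card_pos hdvd
  have h4 : Nat.card A * A.index ≤ (A.index * Nat.card (ConjClasses L)) * A.index :=
    Nat.mul_le_mul h1 le_rfl
  have h5 : (A.index * Nat.card (ConjClasses L)) * A.index ≤ 4 * Nat.card (ConjClasses L) := by
    have h6 : A.index * A.index ≤ 4 := Nat.mul_le_mul hidx hidx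
    calc (A.index * Nat.card (ConjClasses L)) * A.index
        = (A.index * A.index) * Nat.card (ConjClasses L) := by ring
      _ ≤ 4 * Nat.card (ConjClasses L) := Nat.mul_le_mul h6 le_rfl
  by_contra hcon
  push Not at hcon
  have h6 : p ^ 2 ≤ 4 * Nat.card (ConjClasses L) + 1 := by omega
  have h7 : p ^ 2 = p * p := sq p
  have h8 : 5 * p ≤ p * p := Nat.mul_le_mul hp5 le_rfl
  omega

/-- In a regular linear group `-1` is a scalar of the group. -/
theorem two_le_ker (hp5 : 5 ≤ p) (L : Subgroup (GL (Fin 2) (ZMod p)))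
    (htr : ∀ v w : Fin 2 → ZMod p, v ≠ 0 → w ≠ 0 →
      ∃ g ∈ L, (g : Matrix (Fin 2) (Fin 2) (ZMod p)) *ᵥ v = w)
    (hcard : Nat.card L = p ^ 2 - 1) : 2 ≤ Nat.card (pr L).ker := by
  classical
  have hinj : ∀ v : Fin 2 → ZMod p, v ≠ 0 → ∀ g : L,
      ((g : GL (Fin 2) (ZMod p)) : Matrix (Fin 2) (Fin 2) (ZMod p)) *ᵥ v = v → g = 1 := by
    intro v hv
    have hne : ∀ g : L, ((g : GL (Fin 2) (ZMod p)) : Matrix (Fin 2) (Fin 2) (ZMod p)) *ᵥ v ≠ 0 := by
      intro g h0
      apply hv
      have h1 : (((g⁻¹ : L) : GL (Fin 2) (ZMod p)) : Matrix (Fin 2) (Fin 2) (ZMod p)) *ᵥ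
          (((g : GL (Fin 2) (ZMod p)) : Matrix (Fin 2) (Fin 2) (ZMod p)) *ᵥ v) = v := by
        rw [Matrix.mulVec_mulVec, ← Units.val_mul, ← Subgroup.coe_mul, inv_mul_cancel,
          Subgroup.coe_one, Units.val_one, Matrix.one_mulVec]
      rw [← h1, h0, Matrix.mulVec_zero]
    let f : L → {w : Fin 2 → ZMod p // w ≠ 0} := fun g =>
      ⟨((g : GL (Fin 2) (ZMod p)) : Matrix (Fin 2) (Fin 2) (ZMod p)) *ᵥ v, hne g⟩
    have hsurj : Function.Surjective f := by
      rintro ⟨w, hw⟩
      obtain ⟨g, hg, hgw⟩ := htr v w hv hw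
      exact ⟨⟨g, hg⟩, Subtype.ext hgw⟩
    have hc : Nat.card L = Nat.card {w : Fin 2 → ZMod p // w ≠ 0} := by
      rw [hcard]
      have h1 : Nat.card {w : Fin 2 → ZMod p // w ≠ 0} = ({0} : Set (Fin 2 → ZMod p))ᶜ.ncard := by
        rw [← Nat.card_coe_set_eq]
        rfl
      rw [h1, Set.ncard_compl, Set.ncard_singleton, Nat.card_fun, Nat.card_zmod, Nat.card_fin]
    have hbij : Function.Bijective f := by
      have := Fintype.ofFinite L
      have := Fintype.ofFinite {w : Fin 2 → ZMod p // w ≠ 0}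
      rw [Fintype.bijective_iff_surjective_and_card]
      refine ⟨hsurj, ?_⟩
      rw [← Nat.card_eq_fintype_card, ← Nat.card_eq_fintype_card]
      exact hc
    intro g hg
    apply hbij.1
    apply Subtype.ext
    show ((g : GL (Fin 2) (ZMod p)) : Matrix (Fin 2) (Fin 2) (ZMod p)) *ᵥ v =
      (((1 : L) : GL (Fin 2) (ZMod p)) : Matrix (Fin 2) (Fin 2) (ZMod p)) *ᵥ v
    rw [hg, Subgroup.coe_one, Units.val_one, Matrix.one_mulVec]
  have h2 : (2 : ZMod p) ≠ 0 := by
    have : ((2 : ℕ) : ZMod p) ≠ 0 := by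
      rw [ne_eq, ZMod.natCast_eq_zero_iff]
      intro hc
      have := Nat.le_of_dvd (by norm_num) hc
      omega
    exact_mod_cast this
  let e : Fin 2 → ZMod p := ![1, 0]
  have he : e ≠ 0 := by
    intro h
    have := congrFun h 0
    simp [e] at this
  obtain ⟨g, hg, hge⟩ := htr e (-e) he (neg_ne_zero.2 he)
  have hg1 : (⟨g, hg⟩ : L) ≠ 1 := by
    intro h1
    have h3 : g = 1 := congrArg Subtype.val h1
    rw [h3, Units.val_one, Matrix.one_mulVec] at hge
    have := congrFun hge 0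
    simp [e] at this
    apply h2
    linear_combination this
  have hsq : (⟨g, hg⟩ : L) * ⟨g, hg⟩ = 1 := by
    apply hinj e he
    show ((g * g : GL (Fin 2) (ZMod p)) : Matrix (Fin 2) (Fin 2) (ZMod p)) *ᵥ e = e
    rw [Units.val_mul, ← Matrix.mulVec_mulVec, hge, Matrix.mulVec_neg, hge, neg_neg]
  have hneg : ∀ w : Fin 2 → ZMod p, (g : Matrix (Fin 2) (Fin 2) (ZMod p)) *ᵥ w = - w := by
    intro w
    by_contra hne
    apply hg1
    apply hinj ((g : Matrix (Fin 2) (Fin 2) (ZMod p)) *ᵥ w + w)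
    · intro h0
      exact hne (eq_neg_of_add_eq_zero_left h0)
    · show (g : Matrix (Fin 2) (Fin 2) (ZMod p)) *ᵥ _ = _
      rw [Matrix.mulVec_add, Matrix.mulVec_mulVec, ← Units.val_mul]
      have h3 : g * g = 1 := congrArg Subtype.val hsq
      rw [h3, Units.val_one, Matrix.one_mulVec, add_comm]
  have hker : (⟨g, hg⟩ : L) ∈ (pr L).ker := by
    rw [mem_ker]
    have h3 := hneg ![1, 0]
    have h4 := hneg ![0, 1]
    have e1 := congrFun h3 0
    have e2 := congrFun h3 1
    have e3 := congrFun h4 0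
    have e4 := congrFun h4 1
    simp [Matrix.mulVec_fin_two] at e1 e2 e3 e4
    exact ⟨e2, e3, e1.trans e4.symm⟩
  have : Nontrivial (pr L).ker := ⟨⟨⟨⟨g, hg⟩, hker⟩, 1, fun h => hg1 (congrArg Subtype.val h)⟩⟩
  exact Finite.one_lt_card

theorem arith_aux {z N : ℕ} (hp5 : 5 ≤ p) (hz : z ∣ p - 1) (hz0 : 0 < z)
    (h : p ^ 2 - 1 ∣ N * z) : ∃ m, z * m = p - 1 ∧ m * (p + 1) ∣ N := by
  obtain ⟨m, hm⟩ := hz
  refine ⟨m, hm.symm, ?_⟩
  have h1 : p ^ 2 - 1 = m * (p + 1) * z := by
    have h2 : p ^ 2 - 1 = (p + 1) * (p - 1) := by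
      have := Nat.sq_sub_sq p 1
      simpa using this
    rw [h2, hm]; ring
  rw [h1] at h
  exact Nat.dvd_of_mul_dvd_mul_right hz0 h

omit hp in
theorem case12 {z m c1 c2 c3 k : ℕ} (hp : p.Prime) (hp5 : 5 ≤ p) (hm : z * m = p - 1)
    (h : m * (p + 1) ∣ 12) (h1 : z ≤ c1) (h2 : z ≤ 2 * c2) (h3 : z ≤ c3)
    (hk : c1 + c2 + c3 ≤ k) : p ≤ k := by
  have hm0 : 0 < m := Nat.pos_of_ne_zero (by rintro rfl; omega)
  have hle := Nat.le_of_dvd (by norm_num) h
  have hm2 : m < 3 := by
    by_contra hc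
    push Not at hc
    have : 3 * 6 ≤ m * (p + 1) := Nat.mul_le_mul hc (by omega)
    omega
  have hp12 : p ≤ 11 := by
    have : 1 * (p + 1) ≤ m * (p + 1) := Nat.mul_le_mul hm0 le_rfl
    omega
  interval_cases m
  · interval_cases p <;> first | omega | (exfalso; revert h; decide) | (exfalso; revert hp; decide)
  · interval_cases p <;> first | omega | (exfalso; revert h; decide) | (exfalso; revert hp; decide)

omit hp in
theorem case24 {z m c1 c2 c3 c4 k : ℕ} (hp : p.Prime) (hp5 : 5 ≤ p) (hm : z * m = p - 1)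
    (h : m * (p + 1) ∣ 24) (h1 : z ≤ c1) (h2 : z ≤ 2 * c2) (h3 : z ≤ c3) (h4 : z ≤ c4)
    (hz : 24 * z = p ^ 2 - 1 → 2 ≤ z)
    (hk : c1 + c2 + c3 + c4 ≤ k) : p ≤ k := by
  have hm0 : 0 < m := Nat.pos_of_ne_zero (by rintro rfl; omega)
  have hle := Nat.le_of_dvd (by norm_num) h
  have hm2 : m < 5 := by
    by_contra hc
    push Not at hc
    have : 5 * 6 ≤ m * (p + 1) := Nat.mul_le_mul hc (by omega)
    omega
  have hp12 : p ≤ 23 := by
    have : 1 * (p + 1) ≤ m * (p + 1) := Nat.mul_le_mul hm0 le_rfl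
    omega
  interval_cases m
  · interval_cases p <;> first | omega | (exfalso; revert h; decide) | (exfalso; revert hp; decide)
  · interval_cases p <;> first | omega | (exfalso; revert h; decide) | (exfalso; revert hp; decide)
  · interval_cases p <;> first | omega | (exfalso; revert h; decide) | (exfalso; revert hp; decide)
  · interval_cases p <;> first | omega | (exfalso; revert h; decide) | (exfalso; revert hp; decide) |
      (have := hz (by omega); omega)

omit hp in
theorem case60 {z m c1 c2 c3 c4 k : ℕ} (hp : p.Prime) (hp5 : 5 ≤ p) (hm : z * m = p - 1)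
    (h : m * (p + 1) ∣ 60) (h1 : z ≤ c1) (h2 : z ≤ 2 * c2) (h3 : z ≤ c3) (h4 : z ≤ c4)
    (hpz : ¬ p ∣ 60)
    (hk : c1 + c2 + c3 + c4 ≤ k) : p ≤ k ∨ (p = 11 ∧ z = 2) := by
  have hm0 : 0 < m := Nat.pos_of_ne_zero (by rintro rfl; omega)
  have hle := Nat.le_of_dvd (by norm_num) h
  have hp7 : 7 ≤ p := by
    by_contra hc
    push Not at hc
    interval_cases p <;> first | (exfalso; revert hpz; decide) | (exfalso; revert hp; decide)
  have hm2 : m < 8 := by
    by_contra hc
    push Not at hc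
    have : 8 * 8 ≤ m * (p + 1) := Nat.mul_le_mul hc (by omega)
    omega
  have hp12 : p ≤ 59 := by
    have : 1 * (p + 1) ≤ m * (p + 1) := Nat.mul_le_mul hm0 le_rfl
    omega
  have hcases : p + 1 ∣ 60 := (Dvd.intro_left m rfl).trans h
  have hpc : p = 11 ∨ p = 19 ∨ p = 29 ∨ p = 59 := by
    clear hm h hle hm2 hk
    interval_cases p <;> first | omega | (exfalso; revert hcases; decide) | (exfalso; revert hp; decide)
  rcases hpc with rfl | rfl | rfl | rfl
  · interval_cases m <;> first | omega | (exfalso; revert h; decide)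
  · interval_cases m <;> first | omega | (exfalso; revert h; decide)
  · interval_cases m <;> first | omega | (exfalso; revert h; decide)
  · interval_cases m <;> first | omega | (exfalso; revert h; decide)

/-- **The two-dimensional case.** -/
theorem main (hp5 : 5 ≤ p) (L : Subgroup (GL (Fin 2) (ZMod p))) (hL : ¬ p ∣ Nat.card L)
    (htr : ∀ v w : Fin 2 → ZMod p, v ≠ 0 → w ≠ 0 →
      ∃ g ∈ L, (g : Matrix (Fin 2) (Fin 2) (ZMod p)) *ᵥ v = w)
    (hdvd : p ^ 2 - 1 ∣ Nat.card L) :
    p ≤ Nat.card (ConjClasses L) ∨ (p = 11 ∧ Nat.card L = 120 ∧ ¬ Group.IsSolvable L) := by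
  classical
  have hp2 : p ≠ 2 := by omega
  have htf := twoFixed hp2 L hL
  have hker := card_ker_dvd L
  have hmul := card_mul L
  have hz0 : 0 < Nat.card (pr L).ker := Nat.card_pos
  set z := Nat.card (pr L).ker with hz
  have hone : orderOf (pr L 1) = 1 := by rw [map_one, orderOf_one]
  have c1 : z ≤ Nat.card (Cl L 1) := card_ker_le_of_ne_two hp2 L (by norm_num) 1 hone
  rcases Tricho.tricho htf ⟨∞, ((0 : KK p) : OnePoint (KK p)), OnePoint.infty_ne_coe _⟩ with
    ⟨a, b, hab, h⟩ | hN | ⟨hN, x, hx⟩ | ⟨hN, x, hx⟩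
  · exact Or.inl (two_points hp5 L hdvd hab h)
  · left
    obtain ⟨g2, hg2⟩ := exists_of_dvd L Nat.prime_two (by rw [hN]; norm_num)
    obtain ⟨g3, hg3⟩ := exists_of_dvd L Nat.prime_three (by rw [hN]; norm_num)
    have c2 := card_ker_le_two_mul L g2 hg2
    have c3 := card_ker_le_of_ne_two hp2 L (by norm_num) g3 hg3
    rw [hN] at hmul
    rw [hmul] at hdvd
    obtain ⟨m, hm, hmd⟩ := arith_aux hp5 hker hz0 hdvd
    have hs := sum_Cl_le L {1, 2, 3}
    rw [Finset.sum_insert (by simp), Finset.sum_insert (by simp), Finset.sum_singleton] at hs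
    exact case12 hp.out hp5 hm hmd c1 c2 c3 (by omega)
  · left
    obtain ⟨g2, hg2⟩ := exists_of_dvd L Nat.prime_two (by rw [hN]; norm_num)
    obtain ⟨g3, hg3⟩ := exists_of_dvd L Nat.prime_three (by rw [hN]; norm_num)
    obtain ⟨g4, hg4⟩ := exists_orderOf hp2 L hL x
    rw [hx] at hg4
    have c2 := card_ker_le_two_mul L g2 hg2
    have c3 := card_ker_le_of_ne_two hp2 L (by norm_num) g3 hg3
    have c4 := card_ker_le_of_ne_two hp2 L (by norm_num) g4 hg4
    rw [hN] at hmul
    have hdvd' := hdvd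
    rw [hmul] at hdvd'
    obtain ⟨m, hm, hmd⟩ := arith_aux hp5 hker hz0 hdvd'
    have hs := sum_Cl_le L {1, 2, 3, 4}
    rw [Finset.sum_insert (by simp), Finset.sum_insert (by simp), Finset.sum_insert (by simp),
      Finset.sum_singleton] at hs
    refine case24 hp.out hp5 hm hmd c1 c2 c3 c4 (fun h => ?_) (by omega)
    exact two_le_ker hp5 L htr (by rw [hmul]; exact h)
  · obtain ⟨g2, hg2⟩ := exists_of_dvd L Nat.prime_two (by rw [hN]; norm_num)
    obtain ⟨g3, hg3⟩ := exists_of_dvd L Nat.prime_three (by rw [hN]; norm_num)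
    obtain ⟨g4, hg4⟩ := exists_of_dvd L Nat.prime_five (by rw [hN]; norm_num)
    have c2 := card_ker_le_two_mul L g2 hg2
    have c3 := card_ker_le_of_ne_two hp2 L (by norm_num) g3 hg3
    have c4 := card_ker_le_of_ne_two hp2 L (by norm_num) g4 hg4
    rw [hN] at hmul
    have hdvd' := hdvd
    rw [hmul] at hdvd'
    obtain ⟨m, hm, hmd⟩ := arith_aux hp5 hker hz0 hdvd'
    have hs := sum_Cl_le L {1, 2, 3, 5}
    rw [Finset.sum_insert (by simp), Finset.sum_insert (by simp), Finset.sum_insert (by simp),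
      Finset.sum_singleton] at hs
    have hp60 : ¬ p ∣ 60 := fun h => hL (by rw [hmul]; exact h.mul_right _)
    rcases case60 hp.out hp5 hm hmd c1 c2 c3 c4 hp60 (by omega : _ ≤ Nat.card (ConjClasses L)) with
      h | ⟨h, hz2⟩
    · exact Or.inl h
    · right
      refine ⟨h, by rw [hmul, hz2], fun hs => ?_⟩
      refine not_solvable_of_twoFixed htf hN x hx ?_
      exact Group.isSolvable_of_surjective (pr L).rangeRestrict_surjective

end Cfsg.Agent.H697.TwoDim
end

-- part: H697/LinMain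
section
/-!
# `p'`-groups transitive on the nonzero vectors of a `p`-space: the number of classes
-/

set_option autoImplicit false

namespace Cfsg.Agent.H697.LinMain

open Module
open Cfsg.Agent.PermutationGroups.RegularLinear

variable {p : ℕ} [hp : Fact p.Prime] {V : Type*} [AddCommGroup V] [Module (ZMod p) V]

/-- Matrices of a linear group. -/
theorem exists_toGL [Finite V] (H : Subgroup (V ≃ₗ[ZMod p] V)) {n : ℕ} (hn : finrank (ZMod p) V = n) :
    ∃ (b : V ≃ₗ[ZMod p] (Fin n → ZMod p)) (σ : H →* GL (Fin n) (ZMod p)), Function.Injective σ ∧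
      ∀ (h : H) (v : V), (σ h : Matrix (Fin n) (Fin n) (ZMod p)).mulVec (b v) =
        b ((h : V ≃ₗ[ZMod p] V) v) := by
  subst hn
  have : Module.Finite (ZMod p) V := Module.Finite.of_finite
  let b : Basis (Fin (finrank (ZMod p) V)) (ZMod p) V := Module.finBasis (ZMod p) V
  let φ : H →* Module.End (ZMod p) V :=
    { toFun := fun h => ((h : V ≃ₗ[ZMod p] V) : Module.End (ZMod p) V)
      map_one' := rfl
      map_mul' := fun _ _ => rfl }
  let ψ : H →* Matrix (Fin (finrank (ZMod p) V)) (Fin (finrank (ZMod p) V)) (ZMod p) :=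
    ((LinearMap.toMatrixAlgEquiv b).toRingEquiv.toMonoidHom : Module.End (ZMod p) V →* _).comp φ
  refine ⟨b.equivFun, ψ.toHomUnits, ?_, ?_⟩
  · intro c d hcd
    have h1 : ψ c = ψ d := congrArg Units.val hcd
    have h2 : φ c = φ d := (LinearMap.toMatrixAlgEquiv b).injective h1
    apply Subtype.ext
    ext v
    exact DFunLike.congr_fun h2 v
  · intro h v
    have := LinearMap.toMatrix_mulVec_repr b b (φ h) v
    exact this

/-- A transitive linear group of order `|V| - 1` is regular. -/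
theorem regular_of_card [Finite V] (H : Subgroup (V ≃ₗ[ZMod p] V))
    (htr : ∀ v w : V, v ≠ 0 → w ≠ 0 → ∃ h ∈ H, h v = w) (hcard : Nat.card H = Nat.card V - 1) :
    ∀ v w : V, v ≠ 0 → w ≠ 0 → ∃! h : H, (h : V ≃ₗ[ZMod p] V) v = w := by
  classical
  intro v w hv hw
  have : Finite (V ≃ₗ[ZMod p] V) := finite_gl
  let f : H → {w : V // w ≠ 0} := fun g => ⟨(g : V ≃ₗ[ZMod p] V) v, fun h0 =>
    hv ((LinearEquiv.map_eq_zero_iff _).1 h0)⟩
  have hsurj : Function.Surjective f := by
    rintro ⟨w, hw⟩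
    obtain ⟨g, hg, hgw⟩ := htr v w hv hw
    exact ⟨⟨g, hg⟩, Subtype.ext hgw⟩
  have hc : Nat.card H = Nat.card {w : V // w ≠ 0} := by
    rw [hcard]
    have h1 : Nat.card {w : V // w ≠ 0} = ({0} : Set V)ᶜ.ncard := by
      rw [← Nat.card_coe_set_eq]
      rfl
    rw [h1, Set.ncard_compl, Set.ncard_singleton]
  have hbij : Function.Bijective f := by
    have := Fintype.ofFinite H
    have := Fintype.ofFinite {w : V // w ≠ 0}
    rw [Fintype.bijective_iff_surjective_and_card]
    refine ⟨hsurj, ?_⟩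
    rw [← Nat.card_eq_fintype_card, ← Nat.card_eq_fintype_card]
    exact hc
  obtain ⟨g, hg⟩ := hbij.2 ⟨w, hw⟩
  refine ⟨g, congrArg Subtype.val hg, ?_⟩
  intro h hh
  apply hbij.1
  rw [hg]
  exact Subtype.ext hh

theorem sq_lt_pow {n : ℕ} (hn : 3 ≤ n) : n ^ 2 < 5 ^ (n - 1) := by
  obtain ⟨m, rfl⟩ : ∃ m, n = m + 3 := ⟨n - 3, by omega⟩
  clear hn
  induction m with
  | zero => norm_num
  | succ m ih =>
    have e2 : m + 1 + 3 - 1 = (m + 3 - 1) + 1 := by omega
    have e3 : (m + 1 + 3) ^ 2 ≤ (m + 3) ^ 2 * 5 := by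
      have : (m + 3) ^ 2 * 5 = (m + 1 + 3) ^ 2 + (4 * m ^ 2 + 22 * m + 29) := by ring
      omega
    rw [e2, pow_succ 5]
    exact e3.trans_lt (Nat.mul_lt_mul_of_pos_right ih (by norm_num))

/-- **Class numbers of transitive `p'`-groups.** -/
theorem main [Finite V] [Nontrivial V] (H : Subgroup (V ≃ₗ[ZMod p] V))
    (htr : ∀ v w : V, v ≠ 0 → w ≠ 0 → ∃ h ∈ H, h v = w) (hpH : ¬ p ∣ Nat.card H) :
    p ≤ Nat.card (ConjClasses H) ∨ finrank (ZMod p) V = 1 ∨
      (p = 11 ∧ Nat.card V = 121 ∧ Nat.card H = 120 ∧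
        Nonempty (H ≃* Matrix.SpecialLinearGroup (Fin 2) (ZMod 5))) := by
  classical
  have hp' : p.Prime := hp.out
  have : Finite (V ≃ₗ[ZMod p] V) := finite_gl
  have hV := Hering.card_eq (p := p) (V := V)
  have hdvd := Hering.dvd_card H htr
  set n := finrank (ZMod p) V with hn
  have : Module.Finite (ZMod p) V := Module.Finite.of_finite
  have hnpos : 0 < n := by rw [hn]; exact Module.finrank_pos
  by_cases hn1 : n = 1
  · exact Or.inr (Or.inl hn1)
  have hle : Nat.card V - 1 ≤ Nat.card H := Nat.le_of_dvd Nat.card_pos hdvd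
  rcases Nat.lt_or_ge p 5 with hp5 | hp5
  · left
    have hp3 : p ≤ 3 := by
      by_contra hc
      have : p = 4 := by omega
      rw [this] at hp'
      revert hp'; decide
    have h1 : 2 ^ 2 ≤ p ^ n := (Nat.pow_le_pow_left hp'.two_le 2).trans
      (Nat.pow_le_pow_right hp'.pos (by omega))
    have h2 : 3 ≤ Nat.card H := by omega
    by_contra hcon
    have := ClassCount.card_le_two (G := H) (by omega)
    omega
  by_cases hn2 : n = 2
  · obtain ⟨b, σ, hσ, hσb⟩ := exists_toGL H (n := 2) hn2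
    let e : H ≃* σ.range := MonoidHom.ofInjective hσ
    have hcardL : Nat.card σ.range = Nat.card H := (Nat.card_congr e.toEquiv).symm
    have hk := ClassCount.card_conjClasses_congr e
    rcases TwoDim.main hp5 σ.range (by rw [hcardL]; exact hpH) (by
      intro v w hv hw
      obtain ⟨h, hh, hhw⟩ := htr (b.symm v) (b.symm w)
        (fun h0 => hv (by rw [← b.apply_symm_apply v, h0, map_zero]))
        (fun h0 => hw (by rw [← b.apply_symm_apply w, h0, map_zero]))
      refine ⟨σ ⟨h, hh⟩, ⟨⟨h, hh⟩, rfl⟩, ?_⟩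
      have := hσb ⟨h, hh⟩ (b.symm v)
      rw [LinearEquiv.apply_symm_apply] at this
      rw [this]
      show b (h (b.symm v)) = w
      rw [hhw, LinearEquiv.apply_symm_apply]) (by rw [hcardL, ← hn2, ← hV]; exact hdvd) with
      h | ⟨h11, h120, hns⟩
    · left; rw [hk]; exact h
    · right; right
      have hV' : Nat.card V = 121 := by rw [hV, hn2, h11]; norm_num
      rw [hcardL] at h120
      have hreg := regular_of_card H htr (by rw [h120, hV'])
      have hnsH : ¬ Group.IsSolvable H := by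
        intro hs
        exact hns (Group.isSolvable_of_surjective e.surjective)
      refine ⟨h11, hV', h120, ?_⟩
      rcases Cfsg.Agent.S0689.result H hreg hnsH with ⟨-, h⟩ | ⟨h, -⟩ | ⟨h, -⟩
      · exact h
      · omega
      · omega
  · left
    have hn3 : 3 ≤ n := by omega
    by_cases hexc : p = 5 ∧ n = 6
    · obtain ⟨h5, h6⟩ := hexc
      have hpow : ∀ a b : ℕ, a = 5 → b = 6 → a ^ b = 15625 := by
        rintro _ _ rfl rfl; norm_num
      have hd : 15624 ∣ Nat.card H := by
        rw [hV, hpow p n h5 h6] at hdvd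
        exact hdvd
      have hex : ∀ q : ℕ, q.Prime → q ∣ 15624 → ∃ g : H, orderOf g = q := by
        intro q hq hqd
        have : Fact q.Prime := ⟨hq⟩
        exact exists_prime_orderOf_dvd_card' q (hqd.trans hd)
      have := ClassCount.card_orders_le (G := H) {1, 2, 3, 7, 31} (by
        intro d hd
        simp only [Finset.mem_insert, Finset.mem_singleton] at hd
        rcases hd with rfl | rfl | rfl | rfl | rfl
        · exact ⟨1, orderOf_one⟩
        · exact hex 2 (by norm_num) (by norm_num)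
        · exact hex 3 (by norm_num) (by norm_num)
        · exact hex 7 (by norm_num) (by norm_num)
        · exact hex 31 (by norm_num) (by norm_num))
      exact h5.le.trans this
    · obtain ⟨A, -, hA, hAc⟩ := Hering.main hp5 hn3 hexc H htr hpH
      rw [← hn] at hAc
      have hcomm := Cfsg.Agent.LieRecognition.FT61.Grp.comm_of_isCyclic hA
      have h1 := ClassCount.card_le_mul_index A hcomm
      have h2 := A.card_mul_index
      have hidx : A.index ≤ n := by
        rw [← h2, mul_comm] at hAc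
        exact Nat.le_of_mul_le_mul_right hAc Nat.card_pos
      by_contra hcon
      push Not at hcon
      have h3 : Nat.card H ≤ n ^ 2 * Nat.card (ConjClasses H) := by
        calc Nat.card H = Nat.card A * A.index := h2.symm
          _ ≤ (A.index * Nat.card (ConjClasses H)) * A.index := Nat.mul_le_mul h1 le_rfl
          _ = (A.index * A.index) * Nat.card (ConjClasses H) := by ring
          _ ≤ (n * n) * Nat.card (ConjClasses H) :=
            Nat.mul_le_mul (Nat.mul_le_mul hidx hidx) le_rfl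
          _ = n ^ 2 * Nat.card (ConjClasses H) := by ring
      have h4 : n ^ 2 * (Nat.card (ConjClasses H) + 1) ≤ n ^ 2 * p := Nat.mul_le_mul le_rfl hcon
      have h5 : n ^ 2 * (Nat.card (ConjClasses H) + 1) = n ^ 2 * Nat.card (ConjClasses H) + n ^ 2 := by
        ring
      have h6 : p ^ n = p ^ (n - 1) * p := by
        rw [← pow_succ]; congr 1; omega
      have h7 : (n ^ 2 + 1) * p ≤ p ^ (n - 1) * p :=
        Nat.mul_le_mul ((sq_lt_pow hn3).trans_le (Nat.pow_le_pow_left hp5 _)) le_rfl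
      have h8 : (n ^ 2 + 1) * p = n ^ 2 * p + p := by ring
      rw [hV] at hle
      have h9 : 1 ≤ n ^ 2 := Nat.one_le_pow _ _ hnpos
      omega

end Cfsg.Agent.H697.LinMain
end

-- part: H697/Pk
section
/-!
# The number of classes of `p`-regular elements
-/

set_option autoImplicit false

namespace Cfsg.Agent.H697.Pk

/-- The classes of `p`-regular elements. -/
def PReg (p : ℕ) (G : Type*) [Group G] : Type _ :=
  {c : ConjClasses G // ∃ g : G, ConjClasses.mk g = c ∧ ¬ p ∣ orderOf g}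

instance instFinitePReg (p : ℕ) (G : Type*) [Group G] [Finite G] : Finite (PReg p G) :=
  inferInstanceAs (Finite {c : ConjClasses G // ∃ g : G, ConjClasses.mk g = c ∧ ¬ p ∣ orderOf g})

/-- A surjective map of finite sets with a collision. -/
theorem collapse {A B : Type*} [Finite A] (f : A → B) (hf : Function.Surjective f)
    {a0 a1 : A} (hne : a0 ≠ a1) (h01 : f a0 = f a1) :
    Nat.card B + 1 ≤ Nat.card A ∧ (Nat.card A ≤ Nat.card B + 1 → ∀ a a', a ≠ a' → f a = f a' →
      (a = a0 ∨ a = a1) ∧ (a' = a0 ∨ a' = a1)) := by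
  classical
  have := Fintype.ofFinite A
  have : Finite B := Finite.of_surjective f hf
  have := Fintype.ofFinite B
  let g : {a // a ≠ a1} → B := fun a => f a
  have hg : Function.Surjective g := by
    intro b
    obtain ⟨a, rfl⟩ := hf b
    by_cases h : a = a1
    · exact ⟨⟨a0, hne⟩, by rw [h]; exact h01⟩
    · exact ⟨⟨a, h⟩, rfl⟩
  have hc : Nat.card {a // a ≠ a1} + 1 = Nat.card A := by
    have h1 : Nat.card {a // a ≠ a1} = ({a1} : Set A)ᶜ.ncard := by
      rw [← Nat.card_coe_set_eq]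
      rfl
    rw [h1, Set.ncard_compl, Set.ncard_singleton]
    have : 0 < Nat.card A := Nat.card_pos_iff.2 ⟨⟨a1⟩, inferInstance⟩
    omega
  have h2 := Nat.card_le_card_of_surjective g hg
  refine ⟨by omega, fun hle => ?_⟩
  have hbij : Function.Bijective g := by
    rw [Fintype.bijective_iff_surjective_and_card]
    refine ⟨hg, ?_⟩
    rw [← Nat.card_eq_fintype_card, ← Nat.card_eq_fintype_card]
    omega
  have key : ∀ a a', a ≠ a1 → a' ≠ a1 → f a = f a' → a = a' := by
    intro a a' h h' haa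
    have : (⟨a, h⟩ : {a // a ≠ a1}) = ⟨a', h'⟩ := hbij.1 haa
    exact congrArg Subtype.val this
  intro a a' hne' haa
  by_cases h : a = a1
  · have h' : a' ≠ a1 := fun h' => hne' (h.trans h'.symm)
    have h3 : a' = a0 := key a' a0 h' hne (by rw [← haa, h, h01])
    exact ⟨Or.inr h, Or.inl h3⟩
  · by_cases h' : a' = a1
    · have h3 : a = a0 := key a a0 h hne (by rw [haa, h', h01])
      exact ⟨Or.inl h3, Or.inr h'⟩
    · exact absurd (key a a' h h' haa) hne'

section

variable {p : ℕ} [hp : Fact p.Prime] {G Q : Type*} [Group G] [Group Q]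

/-- The map on regular classes. -/
def mapReg (f : G →* Q) : PReg p G → PReg p Q := fun c =>
  ⟨ConjClasses.map f c.1, by
    obtain ⟨c, g, rfl, hg⟩ := c
    exact ⟨f g, rfl, fun h => hg (h.trans (orderOf_map_dvd f g))⟩⟩

/-- The regular class of a regular element. -/
def mkReg (g : G) (hg : ¬ p ∣ orderOf g) : PReg p G := ⟨ConjClasses.mk g, g, rfl, hg⟩

theorem mkReg_eq_iff {g h : G} (hg : ¬ p ∣ orderOf g) (hh : ¬ p ∣ orderOf h) :
    mkReg g hg = mkReg h hh ↔ IsConj g h := by
  constructor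
  · intro e
    exact ConjClasses.mk_eq_mk_iff_isConj.1 (congrArg Subtype.val e)
  · intro e
    exact Subtype.ext (ConjClasses.mk_eq_mk_iff_isConj.2 e)

theorem mapReg_mkReg (f : G →* Q) {g : G} (hg : ¬ p ∣ orderOf g) :
    mapReg f (mkReg g hg) = mkReg (f g) (fun h => hg (h.trans (orderOf_map_dvd f g))) := rfl

/-- Regular elements lift. -/
theorem exists_lift [Finite G] (f : G →* Q) (hf : Function.Surjective f) {q : Q}
    (hq : ¬ p ∣ orderOf q) : ∃ g : G, f g = q ∧ ¬ p ∣ orderOf g := by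
  obtain ⟨g, rfl⟩ := hf q
  obtain ⟨a, m, hm, ham⟩ := Nat.exists_eq_pow_mul_and_not_dvd (orderOf_pos g).ne' p hp.out.ne_one
  have hcop : Nat.Coprime (p ^ a) (orderOf (f g)) :=
    Nat.Coprime.pow_left a ((Nat.Prime.coprime_iff_not_dvd hp.out).2 hq)
  obtain ⟨b, hb⟩ : ∃ b : ℕ, f g ^ (p ^ a * b) = f g := by
    obtain ⟨b, hb⟩ := exists_pow_eq_self_of_coprime hcop
    exact ⟨b, by rw [pow_mul]; exact hb⟩
  refine ⟨g ^ (p ^ a * b), by rw [map_pow, hb], fun h => ?_⟩
  have h1 : orderOf (g ^ (p ^ a * b)) ∣ m := by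
    apply orderOf_dvd_of_pow_eq_one
    rw [← pow_mul]
    have : p ^ a * b * m = orderOf g * b := by rw [ham]; ring
    rw [this, pow_mul, pow_orderOf_eq_one, one_pow]
  exact hm (h.trans h1)

theorem mapReg_surjective [Finite G] (f : G →* Q) (hf : Function.Surjective f) :
    Function.Surjective (mapReg (p := p) f) := by
  rintro ⟨c, q, rfl, hq⟩
  obtain ⟨g, rfl, hg⟩ := exists_lift f hf hq
  exact ⟨mkReg g hg, rfl⟩

theorem card_le_of_surjective [Finite G] (f : G →* Q) (hf : Function.Surjective f) :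
    Nat.card (PReg p Q) ≤ Nat.card (PReg p G) :=
  Nat.card_le_card_of_surjective _ (mapReg_surjective f hf)

/-- For `p'`-groups all classes are regular. -/
theorem card_eq_of_not_dvd [Finite G] (h : ¬ p ∣ Nat.card G) :
    Nat.card (PReg p G) = Nat.card (ConjClasses G) := by
  refine Nat.card_congr ⟨fun c => c.1, fun c => ⟨c, ?_⟩, fun _ => rfl, fun _ => rfl⟩
  obtain ⟨g, rfl⟩ := ConjClasses.mk_surjective c
  exact ⟨g, rfl, fun hd => h (hd.trans (orderOf_dvd_natCard g))⟩

theorem card_congr (e : G ≃* Q) : Nat.card (PReg p G) = Nat.card (PReg p Q) := by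
  refine Nat.card_congr ⟨mapReg e.toMonoidHom, mapReg e.symm.toMonoidHom, ?_, ?_⟩
  · rintro ⟨c, g, rfl, hg⟩
    apply Subtype.ext
    exact congrArg ConjClasses.mk (e.symm_apply_apply g)
  · rintro ⟨c, g, rfl, hg⟩
    apply Subtype.ext
    exact congrArg ConjClasses.mk (e.apply_symm_apply g)

/-- A nontrivial normal `p'`-subgroup gives an additional class. -/
theorem card_quotient_add_one_le [Finite G] (N : Subgroup G) [N.Normal] (hN : ¬ p ∣ Nat.card N)
    (hN1 : N ≠ ⊥) :
    Nat.card (PReg p (G ⧸ N)) + 1 ≤ Nat.card (PReg p G) ∧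
      (Nat.card (PReg p G) ≤ Nat.card (PReg p (G ⧸ N)) + 1 →
        (∀ x ∈ N, ∀ y ∈ N, x ≠ 1 → y ≠ 1 → IsConj x y) ∧
        ∀ (g : G) (n : G), ¬ p ∣ orderOf g → g ∉ N → n ∈ N → ¬ p ∣ orderOf (g * n) →
          IsConj g (g * n)) := by
  classical
  have hreg : ∀ x ∈ N, ¬ p ∣ orderOf x := fun x hx hd => hN (hd.trans (Subgroup.orderOf_dvd_natCard N hx))
  obtain ⟨x₀, hx₀, hx₀1⟩ : ∃ x : G, x ∈ N ∧ x ≠ 1 := by
    by_contra hcon
    push Not at hcon
    exact hN1 ((Subgroup.eq_bot_iff_forall _).2 hcon)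
  have hone : ¬ p ∣ orderOf (1 : G) := by
    rw [orderOf_one]
    exact hp.out.one_lt.ne' ∘ Nat.dvd_one.1
  have hne : mkReg (p := p) (1 : G) hone ≠ mkReg x₀ (hreg x₀ hx₀) := by
    intro h
    rw [mkReg_eq_iff] at h
    exact hx₀1 (isConj_one_right.1 h)
  have himg : ∀ x (hx : x ∈ N), mapReg (p := p) (QuotientGroup.mk' N) (mkReg (1 : G) hone) =
      mapReg (QuotientGroup.mk' N) (mkReg x (hreg x hx)) := by
    intro x hx
    rw [mapReg_mkReg, mapReg_mkReg, mkReg_eq_iff]
    have h1 : (QuotientGroup.mk' N) x = (QuotientGroup.mk' N) 1 := by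
      rw [map_one]
      exact (QuotientGroup.eq_one_iff x).2 hx
    rw [h1]
  obtain ⟨h1, h2⟩ := collapse (mapReg (p := p) (QuotientGroup.mk' N))
    (mapReg_surjective _ (QuotientGroup.mk'_surjective N)) hne (himg x₀ hx₀)
  refine ⟨h1, fun hle => ?_⟩
  have h3 := h2 hle
  have key : ∀ x ∈ N, x ≠ 1 → IsConj x x₀ := by
    intro x hx hx1
    by_contra hcon
    have hne' : mkReg (p := p) (1 : G) hone ≠ mkReg x (hreg x hx) := by
      intro h
      rw [mkReg_eq_iff] at h
      exact hx1 (isConj_one_right.1 h)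
    rcases (h3 _ _ hne' (himg x hx)).2 with h4 | h4
    · exact hne' h4.symm
    · rw [mkReg_eq_iff] at h4
      exact hcon h4
  refine ⟨fun x hx y hy hx1 hy1 => (key x hx hx1).trans (key y hy hy1).symm, ?_⟩
  intro g n hg hgN hn hgn
  by_contra hcon
  have hne' : mkReg (p := p) g hg ≠ mkReg (g * n) hgn := by
    intro h
    rw [mkReg_eq_iff] at h
    exact hcon h
  have himg' : mapReg (p := p) (QuotientGroup.mk' N) (mkReg g hg) =
      mapReg (QuotientGroup.mk' N) (mkReg (g * n) hgn) := by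
    rw [mapReg_mkReg, mapReg_mkReg, mkReg_eq_iff]
    have h1 : (QuotientGroup.mk' N) (g * n) = (QuotientGroup.mk' N) g := by
      rw [map_mul, show (QuotientGroup.mk' N) n = 1 from (QuotientGroup.eq_one_iff n).2 hn, mul_one]
    rw [h1]
  have hNn : N.Normal := inferInstance
  rcases (h3 _ _ hne' himg').1 with h4 | h4
  · rw [mkReg_eq_iff] at h4
    apply hgN
    rw [isConj_one_left.1 h4]
    exact N.one_mem
  · rw [mkReg_eq_iff] at h4
    obtain ⟨c, hc⟩ := isConj_iff.1 h4.symm
    apply hgN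
    rw [← hc]
    exact hNn.conj_mem x₀ hx₀ c

/-- Two regular elements in the same coset of a normal `p`-subgroup are conjugate. -/
theorem isConj_of_coset [Finite G] (P : Subgroup G) [P.Normal] (hP : IsPGroup p P) {g h : G}
    (hg : ¬ p ∣ orderOf g) (hh : ¬ p ∣ orderOf h) (hgh : g⁻¹ * h ∈ P) : IsConj g h := by
  classical
  -- work in `K = P ⟨g⟩ = P ⟨h⟩`
  set K : Subgroup G := P ⊔ Subgroup.zpowers g with hK
  have hPK : P ≤ K := le_sup_left
  have hgK : g ∈ K := (le_sup_right : _ ≤ K) (Subgroup.mem_zpowers g)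
  have hhK : h ∈ K := by
    have : h = g * (g⁻¹ * h) := by group
    rw [this]
    exact K.mul_mem hgK (hPK hgh)
  let P' : Subgroup K := P.subgroupOf K
  have hP'n : P'.Normal := inferInstance
  have hP' : IsPGroup p P' := by
    have e := Subgroup.subgroupOfEquivOfLe hPK
    exact hP.of_equiv e.symm
  let g' : K := ⟨g, hgK⟩
  let h' : K := ⟨h, hhK⟩
  -- complements
  have hcomp : ∀ y : K, ¬ p ∣ orderOf y → (∀ k : K, ∃ i : ℤ, k * (y ^ i)⁻¹ ∈ P') →
      Subgroup.IsComplement' P' (Subgroup.zpowers y) := by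
    intro y hy hcov
    apply Subgroup.isComplement'_of_disjoint_and_mul_eq_univ
    · rw [Subgroup.disjoint_def]
      intro x hx hxy
      obtain ⟨n, hn⟩ := (IsPGroup.iff_orderOf.1 hP') ⟨x, hx⟩
      rw [Subgroup.orderOf_mk] at hn
      have h1 : orderOf x ∣ orderOf y := by
        obtain ⟨i, rfl⟩ := hxy
        apply orderOf_dvd_of_pow_eq_one
        show (y ^ i) ^ orderOf y = 1
        rw [← zpow_natCast, ← zpow_mul, mul_comm, zpow_mul, zpow_natCast, pow_orderOf_eq_one,
          one_zpow]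
      have h2 : n = 0 := by
        by_contra h0
        apply hy
        refine Dvd.dvd.trans ?_ h1
        rw [hn]
        exact dvd_pow_self p h0
      rw [h2, pow_zero, orderOf_eq_one_iff] at hn
      exact hn
    · rw [Set.eq_univ_iff_forall]
      intro k
      obtain ⟨i, hi⟩ := hcov k
      exact ⟨k * (y ^ i)⁻¹, hi, y ^ i, ⟨i, rfl⟩, by group⟩
  have hgo : ¬ p ∣ orderOf g' := by rw [← Subgroup.orderOf_coe]; exact hg
  have hho : ¬ p ∣ orderOf h' := by rw [← Subgroup.orderOf_coe]; exact hh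
  have hcovg : ∀ k : K, ∃ i : ℤ, k * (g' ^ i)⁻¹ ∈ P' := by
    rintro ⟨k, hk⟩
    rw [hK, ← SetLike.mem_coe, Subgroup.normal_mul] at hk
    obtain ⟨x, hx, _, ⟨i, rfl⟩, rfl⟩ := hk
    refine ⟨i, ?_⟩
    show x * g ^ i * (g ^ i)⁻¹ ∈ P
    rw [mul_inv_cancel_right]
    exact hx
  have hquot : ∀ i : ℤ, ((g' ^ i : K) : K ⧸ P') = ((h' ^ i : K) : K ⧸ P') := by
    intro i
    rw [QuotientGroup.mk_zpow, QuotientGroup.mk_zpow]
    congr 1
    rw [QuotientGroup.eq]
    exact hgh
  have hcovh : ∀ k : K, ∃ i : ℤ, k * (h' ^ i)⁻¹ ∈ P' := by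
    intro k
    obtain ⟨i, hi⟩ := hcovg k
    refine ⟨i, ?_⟩
    rw [← QuotientGroup.eq_one_iff, QuotientGroup.mk_mul, QuotientGroup.mk_inv] at hi ⊢
    rw [← hquot]
    exact hi
  have hcg := hcomp g' hgo hcovg
  have hch := hcomp h' hho hcovh
  have hcop : (Nat.card P').Coprime P'.index := by
    rw [hcg.symm.index_eq_card]
    obtain ⟨n, hn⟩ := IsPGroup.iff_card.1 hP'
    rw [hn, Nat.card_zpowers]
    exact Nat.Coprime.pow_left n ((Nat.Prime.coprime_iff_not_dvd hp.out).2 hgo)
  have hsol : Group.IsSolvable P' := by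
    have := hP'.isNilpotent
    infer_instance
  obtain ⟨k, hk⟩ := Cfsg.Agent.Solvable.SchurZassenhausConj.conj_of_solvable P' hcop (Or.inl hsol)
    _ _ hcg hch
  -- `k g k⁻¹ = h`
  have hmem : k * g' * k⁻¹ ∈ Subgroup.zpowers h' := by
    rw [← hk]
    exact ⟨g', Subgroup.mem_zpowers g', rfl⟩
  have hcoset : ((k * g' * k⁻¹ : K) : K ⧸ P') = ((h' : K) : K ⧸ P') := by
    obtain ⟨i, hi⟩ := hcovg k
    have h1 : ((k : K) : K ⧸ P') = ((g' ^ i : K) : K ⧸ P') := by
      rw [← QuotientGroup.eq_one_iff, QuotientGroup.mk_mul, QuotientGroup.mk_inv,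
        mul_inv_eq_one] at hi
      exact hi
    have h2 := hquot 1
    rw [zpow_one, zpow_one] at h2
    rw [← h2, QuotientGroup.mk_mul, QuotientGroup.mk_mul, QuotientGroup.mk_inv, h1,
      QuotientGroup.mk_zpow]
    group
  have hfin : k * g' * k⁻¹ = h' := by
    have h1 : (k * g' * k⁻¹)⁻¹ * h' ∈ P' := QuotientGroup.eq.1 hcoset
    have h2 : (k * g' * k⁻¹)⁻¹ * h' ∈ Subgroup.zpowers h' :=
      Subgroup.mul_mem _ (Subgroup.inv_mem _ hmem) (Subgroup.mem_zpowers h')
    have h3 := Subgroup.disjoint_def.1 hch.disjoint h1 h2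
    exact inv_mul_eq_one.1 h3
  rw [isConj_iff]
  exact ⟨k, congrArg Subtype.val hfin⟩

/-- A normal `p`-subgroup does not change the number of regular classes. -/
theorem card_quotient_eq [Finite G] (P : Subgroup G) [P.Normal] (hP : IsPGroup p P) :
    Nat.card (PReg p (G ⧸ P)) = Nat.card (PReg p G) := by
  symm
  refine Nat.card_congr (Equiv.ofBijective (mapReg (QuotientGroup.mk' P)) ⟨?_,
    mapReg_surjective _ (QuotientGroup.mk'_surjective P)⟩)
  rintro ⟨c, g, rfl, hg⟩ ⟨c', g', rfl, hg'⟩ h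
  have h1 : IsConj ((QuotientGroup.mk' P) g) ((QuotientGroup.mk' P) g') :=
    ConjClasses.mk_eq_mk_iff_isConj.1 (congrArg Subtype.val h)
  obtain ⟨q, hq⟩ := isConj_iff.1 h1
  obtain ⟨t, rfl⟩ := QuotientGroup.mk'_surjective P q
  apply Subtype.ext
  show ConjClasses.mk g = ConjClasses.mk g'
  rw [ConjClasses.mk_eq_mk_iff_isConj]
  have h2 : IsConj g (t * g * t⁻¹) := isConj_iff.2 ⟨t, rfl⟩
  refine h2.trans (isConj_of_coset P hP ?_ hg' ?_)
  · rwa [show t * g * t⁻¹ = MulAut.conj t g from rfl, MulEquiv.orderOf_eq]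
  · apply QuotientGroup.eq.1
    rw [← map_inv, ← map_mul, ← map_mul] at hq
    exact hq

end

end Cfsg.Agent.H697.Pk
end

-- part: H697/SL25
section
/-!
# Facts on `SL(2,5)`: class number, centralisers
-/

set_option autoImplicit false
set_option maxRecDepth 100000

namespace Cfsg.Agent.H697.SL25

open Matrix

/-- The group `SL(2,5)`. -/
abbrev S : Type := Matrix.SpecialLinearGroup (Fin 2) (ZMod 5)

/-- The four entries of a matrix. -/
abbrev Q4 : Type := (ZMod 5 × ZMod 5) × (ZMod 5 × ZMod 5)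

/-- Determinant one, on natural numbers. -/
def isS (q : Q4) : Bool := (q.1.1.val * q.2.2.val + 4 * (q.1.2.val * q.2.1.val)) % 5 == 1

/-- The two matrices commute, on natural numbers. -/
def com (x y : Q4) : Bool :=
  ((x.1.2.val * y.2.1.val + 4 * (y.1.2.val * x.2.1.val)) % 5 == 0) &&
  (((x.1.1.val * y.1.2.val + x.1.2.val * y.2.2.val) +
    4 * (y.1.1.val * x.1.2.val + y.1.2.val * x.2.2.val)) % 5 == 0) &&
  (((x.2.1.val * y.1.1.val + x.2.2.val * y.2.1.val) +
    4 * (y.2.1.val * x.1.1.val + y.2.2.val * x.2.1.val)) % 5 == 0)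

set_option maxHeartbeats 4000000 in
theorem cnt : ((Finset.univ : Finset Q4).filter fun x => isS x).sum
    (fun x => (((Finset.univ : Finset Q4).filter fun y => isS y).filter fun y => com x y).card) = 1080 := by
  decide +kernel

theorem four_eq : (4 : ZMod 5) = -1 := by decide

theorem mod_iff (n : ℕ) : (n % 5 == 0) = true ↔ (n : ZMod 5) = 0 := by
  rw [beq_iff_eq, ZMod.natCast_eq_zero_iff, Nat.dvd_iff_mod_eq_zero]

theorem isS_iff (q : Q4) : isS q = true ↔ q.1.1 * q.2.2 - q.1.2 * q.2.1 = 1 := by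
  revert q; decide +kernel

/-- The entries of an element of `SL(2,5)`. -/
def toQ (x : S) : Q4 := ((x.1 0 0, x.1 0 1), (x.1 1 0, x.1 1 1))

theorem isS_toQ (x : S) : isS (toQ x) = true := by
  rw [isS_iff]
  have := x.2
  rw [Matrix.det_fin_two] at this
  exact this

theorem mul_entry (x y : S) (i j : Fin 2) :
    (x * y).1 i j = x.1 i 0 * y.1 0 j + x.1 i 1 * y.1 1 j := by
  change (x.1 * y.1) i j = _
  rw [Matrix.mul_apply, Fin.sum_univ_two]

theorem com_iff (x y : S) : com (toQ x) (toQ y) = true ↔ x * y = y * x := by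
  unfold com toQ
  simp only [Bool.and_eq_true, mod_iff]
  push_cast
  simp only [ZMod.natCast_zmod_val, four_eq, neg_mul, one_mul, ← sub_eq_add_neg, sub_eq_zero]
  have e : x * y = y * x ↔ ∀ i j, (x * y).1 i j = (y * x).1 i j :=
    Matrix.SpecialLinearGroup.ext_iff _ _
  rw [e]
  simp only [Fin.forall_fin_two, mul_entry]
  constructor
  · rintro ⟨⟨h1, h2⟩, h3⟩
    exact ⟨⟨by linear_combination h1, h2⟩, h3, by linear_combination -h1⟩
  · rintro ⟨⟨h1, h2⟩, h3, _⟩
    exact ⟨⟨by linear_combination h1, h2⟩, h3⟩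

/-- `SL(2,5)` as a set of quadruples. -/
def eQ : S ≃ {q : Q4 // isS q = true} where
  toFun x := ⟨toQ x, isS_toQ x⟩
  invFun q := ⟨!![q.1.1.1, q.1.1.2; q.1.2.1, q.1.2.2], by
    rw [Matrix.det_fin_two]
    exact (isS_iff q.1).1 q.2⟩
  left_inv x := by
    apply Subtype.ext
    ext i j
    fin_cases i <;> fin_cases j <;> rfl
  right_inv q := by
    apply Subtype.ext
    rfl

/-- The number of elements which commute with the matrix of `q`. -/
def cntQ (q : Q4) : ℕ := (((Finset.univ : Finset Q4).filter fun y => isS y).filter fun y => com q y).card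

theorem toQ_injective : Function.Injective toQ := fun x y h =>
  eQ.injective (Subtype.ext h)

theorem card_comm (x : S) : Fintype.card {y : S // x * y = y * x} = cntQ (toQ x) := by
  rw [Fintype.card_subtype, cntQ]
  refine Finset.card_bij (fun y _ => toQ y) ?_ ?_ ?_
  · intro y hy
    rw [Finset.mem_filter] at hy
    simp only [Finset.mem_filter, Finset.mem_univ, true_and]
    exact ⟨isS_toQ y, (com_iff x y).2 hy.2⟩
  · intro y _ z _ h
    exact toQ_injective h
  · intro q hq
    simp only [Finset.mem_filter, Finset.mem_univ, true_and] at hq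
    have h : toQ (eQ.symm ⟨q, hq.1⟩) = q := congrArg Subtype.val (eQ.apply_symm_apply ⟨q, hq.1⟩)
    refine ⟨eQ.symm ⟨q, hq.1⟩, ?_, h⟩
    rw [Finset.mem_filter]
    refine ⟨Finset.mem_univ _, (com_iff _ _).1 ?_⟩
    rw [h]
    exact hq.2

theorem card_pairs : Fintype.card {x : S × S // x.1 * x.2 = x.2 * x.1} = 1080 := by
  rw [← cnt]
  have h1 : Fintype.card {x : S × S // x.1 * x.2 = x.2 * x.1} =
      ∑ x : S, Fintype.card {y : S // x * y = y * x} := by
    rw [← Fintype.card_sigma]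
    exact Fintype.card_congr (Equiv.subtypeProdEquivSigmaSubtype fun x y : S => x * y = y * x)
  rw [h1]
  have h2 : ∑ x : S, Fintype.card {y : S // x * y = y * x} = ∑ x : S, cntQ (eQ x).1 :=
    Finset.sum_congr rfl fun x _ => card_comm x
  rw [h2, eQ.sum_comp (fun q => cntQ q.1)]
  exact (Finset.sum_subtype (p := fun q => isS q = true)
    ((Finset.univ : Finset Q4).filter fun x => isS x) (fun q => by simp) cntQ).symm

set_option maxHeartbeats 4000000 in
theorem card_S : Fintype.card S = 120 := by decide +kernel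

theorem natCard_S : Nat.card S = 120 := by rw [Nat.card_eq_fintype_card, card_S]

theorem card_conjClasses : Nat.card (ConjClasses S) = 9 := by
  have h := card_comm_eq_card_conjClasses_mul_card S
  have h1 : Nat.card { p : S × S // Commute p.1 p.2 } = 1080 := by
    rw [← card_pairs, ← Nat.card_eq_fintype_card]
    rfl
  rw [h1, natCard_S] at h
  omega

theorem perfect : commutator S = ⊤ := by
  have : Fact (Nat.Prime 5) := ⟨Nat.prime_five⟩
  exact Cfsg.Agent.PLocal.SL2Perfect.commutator_eq_top (by norm_num) (by norm_num)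

/-- An element of order four. -/
def y4 : S := ⟨!![0, 1; -1, 0], by decide⟩
/-- An element of order three. -/
def y3 : S := ⟨!![0, 1; -1, -1], by decide⟩
/-- An element of order five. -/
def y5 : S := ⟨!![1, 1; 0, 1], by decide⟩

theorem natCard_centralizer (y : S) :
    Nat.card (Subgroup.centralizer ({y} : Set S)) = (Finset.univ.filter fun x : S => x * y = y * x).card := by
  rw [← Fintype.card_subtype, ← Nat.card_eq_fintype_card]
  refine Nat.card_congr (Equiv.subtypeEquivRight fun x => ?_)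
  exact Subgroup.mem_centralizer_singleton_iff

set_option maxHeartbeats 4000000 in
theorem cent4 : (Finset.univ.filter fun x : S => x * y4 = y4 * x).card = 4 := by decide +kernel
set_option maxHeartbeats 4000000 in
theorem cent3 : (Finset.univ.filter fun x : S => x * y3 = y3 * x).card = 6 := by decide +kernel
set_option maxHeartbeats 4000000 in
theorem cent5 : (Finset.univ.filter fun x : S => x * y5 = y5 * x).card = 10 := by decide +kernel

theorem order4 : orderOf y4 = 4 := by
  have : Fact (Nat.Prime 2) := ⟨Nat.prime_two⟩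
  apply orderOf_eq_prime_pow (p := 2) (n := 1)
  · decide +kernel
  · decide +kernel

theorem order3 : orderOf y3 = 3 := by
  have : Fact (Nat.Prime 3) := ⟨Nat.prime_three⟩
  apply orderOf_eq_prime
  · decide +kernel
  · decide +kernel

theorem order5 : orderOf y5 = 5 := by
  have : Fact (Nat.Prime 5) := ⟨Nat.prime_five⟩
  apply orderOf_eq_prime
  · decide +kernel
  · decide +kernel

/-- For `r = 2, 3, 5` there is an `r`-element with a small centraliser. -/
theorem exists_small {r : ℕ} (hr : r = 2 ∨ r = 3 ∨ r = 5) : ∃ (y : S) (c : ℕ), orderOf y = r ^ c ∧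
    y ≠ 1 ∧ Nat.card (Subgroup.centralizer ({y} : Set S)) < r * orderOf y := by
  rcases hr with rfl | rfl | rfl
  · refine ⟨y4, 2, order4, ?_, ?_⟩
    · intro h
      have := order4
      rw [h, orderOf_one] at this
      omega
    · rw [natCard_centralizer, cent4, order4]; norm_num
  · refine ⟨y3, 1, order3, ?_, ?_⟩
    · intro h
      have := order3
      rw [h, orderOf_one] at this
      omega
    · rw [natCard_centralizer, cent3, order3]; norm_num
  · refine ⟨y5, 1, order5, ?_, ?_⟩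
    · intro h
      have := order5
      rw [h, orderOf_one] at this
      omega
    · rw [natCard_centralizer, cent5, order5]; norm_num

end Cfsg.Agent.H697.SL25
end

-- part: H697/LemmaY
section
/-!
# Extensions of `SL(2,5)` have at least eleven classes
-/

set_option autoImplicit false

namespace Cfsg.Agent.H697.LemmaY

open Cfsg.Agent.H697.Pk

section elementary

variable {Y : Type*} [Group Y] [Finite Y] (N : Subgroup Y) [N.Normal]

/-- A normal subgroup whose nontrivial elements are conjugate is elementary abelian. -/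
theorem elementary (hN1 : N ≠ ⊥) (hconj : ∀ x ∈ N, ∀ y ∈ N, x ≠ 1 → y ≠ 1 → IsConj x y) :
    ∃ r : ℕ, r.Prime ∧ (∀ x ∈ N, x ^ r = 1) ∧ (∀ x ∈ N, ∀ y ∈ N, x * y = y * x) := by
  obtain ⟨x₀, hx₀, hx₀1⟩ : ∃ x : Y, x ∈ N ∧ x ≠ 1 := by
    by_contra hcon
    push Not at hcon
    exact hN1 ((Subgroup.eq_bot_iff_forall _).2 hcon)
  have hord : orderOf x₀ ≠ 1 := fun h => hx₀1 (orderOf_eq_one_iff.1 h)
  obtain ⟨r, hr, hrd⟩ := Nat.exists_prime_and_dvd hord
  have : Fact r.Prime := ⟨hr⟩
  have hpos := orderOf_pos x₀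
  have hx1o : orderOf (x₀ ^ (orderOf x₀ / r)) = r := by
    rw [orderOf_pow_of_dvd (Nat.div_pos (Nat.le_of_dvd hpos hrd) hr.pos).ne' (Nat.div_dvd_of_dvd hrd)]
    exact Nat.div_div_self hrd hpos.ne'
  have hx1 : x₀ ^ (orderOf x₀ / r) ≠ 1 := by
    intro h
    rw [h, orderOf_one] at hx1o
    exact hr.one_lt.ne hx1o
  have hexp : ∀ x ∈ N, x ^ r = 1 := by
    intro x hx
    by_cases h1 : x = 1
    · rw [h1, one_pow]
    · obtain ⟨c, hc⟩ := isConj_iff.1 (hconj _ (N.pow_mem hx₀ (orderOf x₀ / r)) x hx hx1 h1)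
      have hx1p : (x₀ ^ (orderOf x₀ / r)) ^ r = 1 := by
        have := pow_orderOf_eq_one (x₀ ^ (orderOf x₀ / r))
        rwa [hx1o] at this
      rw [← hc, conj_pow, hx1p, mul_one, mul_inv_cancel]
  refine ⟨r, hr, hexp, ?_⟩
  have hNp : IsPGroup r N := by
    rintro ⟨x, hx⟩
    exact ⟨1, Subtype.ext (by rw [pow_one]; exact hexp x hx)⟩
  have : Nontrivial N := (Subgroup.nontrivial_iff_ne_bot N).2 hN1
  have hc := hNp.center_nontrivial
  obtain ⟨z, hz⟩ := exists_ne (1 : Subgroup.center N)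
  have hz1 : ((z : N) : Y) ≠ 1 := fun h => hz (Subtype.ext (Subtype.ext h))
  have hzc : ∀ n ∈ N, n * ((z : N) : Y) = ((z : N) : Y) * n := by
    intro n hn
    have := (Subgroup.mem_center_iff.1 z.2) ⟨n, hn⟩
    exact congrArg Subtype.val this
  intro x hx y hy
  by_cases h1 : x = 1
  · rw [h1, one_mul, mul_one]
  obtain ⟨c, hc⟩ := isConj_iff.1 (hconj _ (z : N).2 x hx hz1 h1)
  have hNn : N.Normal := inferInstance
  have h2 := hzc (c⁻¹ * y * c⁻¹⁻¹) (hNn.conj_mem y hy c⁻¹)
  rw [inv_inv] at h2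
  rw [← hc]
  calc c * ((z : N) : Y) * c⁻¹ * y = c * (((z : N) : Y) * (c⁻¹ * y * c)) * c⁻¹ := by group
    _ = c * ((c⁻¹ * y * c) * ((z : N) : Y)) * c⁻¹ := by rw [h2]
    _ = y * (c * ((z : N) : Y) * c⁻¹) := by group

/-- The order of such a subgroup minus one divides the index of any normal subgroup centralising it. -/
theorem card_sub_one_dvd (hN1 : N ≠ ⊥) (hconj : ∀ x ∈ N, ∀ y ∈ N, x ≠ 1 → y ≠ 1 → IsConj x y)
    (K : Subgroup Y) (hK : ∀ x ∈ N, ∀ y ∈ K, x * y = y * x) : Nat.card N - 1 ∣ K.index := by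
  obtain ⟨x₀, hx₀, hx₀1⟩ : ∃ x : Y, x ∈ N ∧ x ≠ 1 := by
    by_contra hcon
    push Not at hcon
    exact hN1 ((Subgroup.eq_bot_iff_forall _).2 hcon)
  have hNn : N.Normal := inferInstance
  have hcl : (ConjClasses.mk x₀).carrier = (N : Set Y) \ {1} := by
    ext y
    rw [ConjClasses.mem_carrier_iff_mk_eq, ConjClasses.mk_eq_mk_iff_isConj]
    constructor
    · intro h
      obtain ⟨c, hc⟩ := isConj_iff.1 h.symm
      refine ⟨?_, ?_⟩
      · rw [← hc]; exact hNn.conj_mem x₀ hx₀ c
      · rintro rfl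
        exact hx₀1 (isConj_one_right.1 h)
    · rintro ⟨hy, hy1⟩
      exact hconj y hy x₀ hx₀ hy1 hx₀1
  have h1 := ClassCount.index_centralizer x₀
  rw [hcl, Set.ncard_sdiff_singleton_of_mem N.one_mem] at h1
  have h2 : Nat.card N = (N : Set Y).ncard := (Nat.card_coe_set_eq (N : Set Y))
  rw [h2, ← h1]
  apply Subgroup.index_dvd_of_le
  intro y hy
  rw [Subgroup.mem_centralizer_singleton_iff]
  exact (hK x₀ hx₀ y hy).symm

end elementary

section small

variable {Y : Type*} [Group Y] [Finite Y] (N : Subgroup Y) [N.Normal]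

/-- If `g` is conjugate to all elements of `g N`, then `|C(g)| ≤ |C(g N)|`. -/
theorem card_centralizer_le (g : Y) (h : ∀ n ∈ N, IsConj g (g * n)) :
    Nat.card (Subgroup.centralizer ({g} : Set Y)) ≤
      Nat.card (Subgroup.centralizer ({(g : Y ⧸ N)} : Set (Y ⧸ N))) := by
  classical
  have hNn : N.Normal := inferInstance
  let f : (ConjClasses.mk (g : Y ⧸ N)).carrier × N → (ConjClasses.mk g).carrier := fun x =>
    ⟨x.1.1.out * (x.2 : Y), by
      obtain ⟨⟨q, hq⟩, n, hn⟩ := x
      rw [ConjClasses.mem_carrier_iff_mk_eq, ConjClasses.mk_eq_mk_iff_isConj] at hq ⊢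
      obtain ⟨t, ht⟩ := isConj_iff.1 hq.symm
      obtain ⟨t, rfl⟩ := QuotientGroup.mk_surjective t
      have h1 : (t * g * t⁻¹)⁻¹ * (q.out * n) ∈ N := by
        rw [← QuotientGroup.eq]
        rw [QuotientGroup.mk_mul, QuotientGroup.mk_mul, QuotientGroup.mk_mul, QuotientGroup.mk_inv,
          ht, QuotientGroup.out_eq', (QuotientGroup.eq_one_iff n).2 hn, mul_one]
      have h2 : t⁻¹ * ((t * g * t⁻¹)⁻¹ * (q.out * n)) * t⁻¹⁻¹ ∈ N := hNn.conj_mem _ h1 t⁻¹
      have h3 : IsConj g (g * (t⁻¹ * ((t * g * t⁻¹)⁻¹ * (q.out * n)) * t⁻¹⁻¹)) := h _ h2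
      have h4 : IsConj (g * (t⁻¹ * ((t * g * t⁻¹)⁻¹ * (q.out * n)) * t⁻¹⁻¹)) (q.out * n) := by
        rw [isConj_iff]
        refine ⟨t, ?_⟩
        group
      exact (h3.trans h4).symm⟩
  have hf : Function.Injective f := by
    rintro ⟨⟨q, hq⟩, n, hn⟩ ⟨⟨q', hq'⟩, n', hn'⟩ hx
    have h1 : q.out * n = q'.out * n' := congrArg Subtype.val hx
    have h2 : q = q' := by
      have h3 := congrArg (fun y : Y => (y : Y ⧸ N)) h1
      simp only [QuotientGroup.mk_mul] at h3
      rw [QuotientGroup.out_eq', QuotientGroup.out_eq', (QuotientGroup.eq_one_iff n).2 hn,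
        (QuotientGroup.eq_one_iff n').2 hn', mul_one, mul_one] at h3
      exact h3
    subst h2
    have h3 : n = n' := mul_left_cancel h1
    subst h3
    rfl
  have h1 := Nat.card_le_card_of_injective f hf
  rw [Nat.card_prod, Nat.card_coe_set_eq, Nat.card_coe_set_eq, ← ClassCount.index_centralizer,
    ← ClassCount.index_centralizer] at h1
  have h2 := (Subgroup.centralizer ({g} : Set Y)).card_mul_index
  have h3 := (Subgroup.centralizer ({(g : Y ⧸ N)} : Set (Y ⧸ N))).card_mul_index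
  have h4 := Subgroup.card_eq_card_quotient_mul_card_subgroup N
  set a := Nat.card (Subgroup.centralizer ({g} : Set Y))
  set b := Nat.card (Subgroup.centralizer ({(g : Y ⧸ N)} : Set (Y ⧸ N)))
  set i := (Subgroup.centralizer ({g} : Set Y)).index
  set j := (Subgroup.centralizer ({(g : Y ⧸ N)} : Set (Y ⧸ N))).index
  have hi : 0 < i := Nat.pos_of_ne_zero Subgroup.index_ne_zero_of_finite
  have h5 : a * (j * Nat.card N) ≤ b * (j * Nat.card N) := by
    calc a * (j * Nat.card N) ≤ a * i := Nat.mul_le_mul le_rfl h1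
      _ = Nat.card Y := h2
      _ = b * (j * Nat.card N) := by rw [h4, ← h3]; ring
  have hj : 0 < j * Nat.card N :=
    Nat.mul_pos (Nat.pos_of_ne_zero Subgroup.index_ne_zero_of_finite) Nat.card_pos
  exact Nat.le_of_mul_le_mul_right h5 hj

/-- A lower bound for the centraliser of an `r`-element. -/
theorem le_card_centralizer {r : ℕ} [Fact r.Prime] (hN1 : N ≠ ⊥) (hNr : ∀ x ∈ N, x ^ r = 1) (g : Y)
    {a : ℕ} (hg : orderOf (g : Y ⧸ N) = r ^ a) :
    r * orderOf (g : Y ⧸ N) ≤ Nat.card (Subgroup.centralizer ({g} : Set Y)) := by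
  classical
  have hr : r.Prime := Fact.out
  have hNn : N.Normal := inferInstance
  have hNp : IsPGroup r N := by
    rintro ⟨x, hx⟩
    exact ⟨1, Subtype.ext (by rw [pow_one]; exact hNr x hx)⟩
  have hgp : IsPGroup r (Subgroup.zpowers g) := by
    have h1 : g ^ r ^ (a + 1) = 1 := by
      have h2 : g ^ r ^ a ∈ N := by
        rw [← QuotientGroup.eq_one_iff, QuotientGroup.mk_pow, ← hg, pow_orderOf_eq_one]
      rw [pow_succ, pow_mul]
      exact hNr _ h2
    rintro ⟨_, i, rfl⟩
    refine ⟨a + 1, Subtype.ext ?_⟩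
    show (g ^ i) ^ r ^ (a + 1) = 1
    rw [← zpow_natCast, ← zpow_mul, mul_comm, zpow_mul, zpow_natCast, h1, one_zpow]
  -- fixed points
  obtain ⟨x, hxN, hx1, hxg⟩ : ∃ x ∈ N, x ≠ 1 ∧ g * x = x * g := by
    let act : MulAction (Subgroup.zpowers g) N :=
      MulAction.compHom N ((MulAut.conjNormal (H := N)).comp (Subgroup.zpowers g).subtype)
    have hact : ∀ (k : Subgroup.zpowers g) (x : N), ((k • x : N) : Y) = (k : Y) * x * (k : Y)⁻¹ :=
      fun k x => rfl
    have h1 := hgp.card_modEq_card_fixedPoints N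
    have h2 : r ∣ Nat.card N := by
      obtain ⟨n, hn⟩ := IsPGroup.iff_card.1 hNp
      rw [hn]
      apply dvd_pow_self
      rintro rfl
      rw [pow_zero] at hn
      exact hN1 (Subgroup.eq_bot_of_card_eq _ hn)
    have h3 : r ∣ Nat.card (MulAction.fixedPoints (Subgroup.zpowers g) N) :=
      (Nat.modEq_zero_iff_dvd.1 (h1.symm.trans (Nat.modEq_zero_iff_dvd.2 h2)))
    have h4 : (1 : N) ∈ MulAction.fixedPoints (Subgroup.zpowers g) N := by
      intro k
      apply Subtype.ext
      rw [hact]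
      simp
    have h5 : 1 < Nat.card (MulAction.fixedPoints (Subgroup.zpowers g) N) := by
      have : 0 < Nat.card (MulAction.fixedPoints (Subgroup.zpowers g) N) :=
        Nat.card_pos_iff.2 ⟨⟨⟨1, h4⟩⟩, inferInstance⟩
      exact hr.one_lt.trans_le (Nat.le_of_dvd this h3)
    have : Nontrivial (MulAction.fixedPoints (Subgroup.zpowers g) N) :=
      Finite.one_lt_card_iff_nontrivial.1 h5
    obtain ⟨⟨y, hy⟩, hy1⟩ := exists_ne (⟨1, h4⟩ : MulAction.fixedPoints (Subgroup.zpowers g) N)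
    refine ⟨y, y.2, fun h => hy1 (Subtype.ext (Subtype.ext h)), ?_⟩
    have h6 := congrArg Subtype.val (hy ⟨g, Subgroup.mem_zpowers g⟩)
    rw [hact] at h6
    exact mul_inv_eq_iff_eq_mul.1 h6
  have hxr : orderOf x = r := orderOf_eq_prime (hNr x hxN) hx1
  set C := Subgroup.centralizer ({g} : Set Y) with hC
  have hgC : g ∈ C := Subgroup.mem_centralizer_singleton_iff.2 rfl
  have hxC : x ∈ C := Subgroup.mem_centralizer_singleton_iff.2 hxg.symm
  let π : C →* Y ⧸ N := (QuotientGroup.mk' N).comp C.subtype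
  have h1 : Nat.card C = Nat.card π.range * Nat.card π.ker := by
    rw [Subgroup.card_eq_card_quotient_mul_card_subgroup π.ker]
    congr 1
    exact Nat.card_congr (QuotientGroup.quotientKerEquivRange π).toEquiv
  have h2 : orderOf (g : Y ⧸ N) ≤ Nat.card π.range := by
    have h3 : ((g : Y ⧸ N)) ∈ π.range := ⟨⟨g, hgC⟩, rfl⟩
    exact Nat.le_of_dvd Nat.card_pos (Subgroup.orderOf_dvd_natCard _ h3)
  have h3 : r ≤ Nat.card π.ker := by
    have h4 : (⟨x, hxC⟩ : C) ∈ π.ker := (QuotientGroup.eq_one_iff x).2 hxN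
    have h5 : orderOf (⟨x, hxC⟩ : C) = r := by rw [← Subgroup.orderOf_coe]; exact hxr
    rw [← h5]
    exact Nat.le_of_dvd Nat.card_pos (Subgroup.orderOf_dvd_natCard _ h4)
  rw [h1, mul_comm]
  exact Nat.mul_le_mul h2 h3

end small

theorem arith {r a m : ℕ} (hr : r.Prime) (h11 : r ≠ 11) (h2 : r ≠ 2) (h3 : r ≠ 3) (h5 : r ≠ 5)
    (hm : m = r ^ a) (ha : 0 < a) (h : m - 1 ∣ 120) : a = 1 := by
  have hr7 : 7 ≤ r := by
    by_contra hc
    push Not at hc
    interval_cases r <;> first | omega | (revert hr; decide)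
  have hle : m - 1 ≤ 120 := Nat.le_of_dvd (by norm_num) h
  by_contra hne
  have ha2 : 2 ≤ a := by omega
  have h7 : r ^ 2 ≤ m := by rw [hm]; exact Nat.pow_le_pow_right hr.pos ha2
  have hr11 : r ≤ 10 := by
    by_contra hc
    push Not at hc
    have : 12 ≤ r := by omega
    have : 12 ^ 2 ≤ r ^ 2 := Nat.pow_le_pow_left this 2
    omega
  have hr7' : r = 7 := by
    interval_cases r
    · rfl
    · revert hr; decide
    · revert hr; decide
    · revert hr; decide
  subst hr7'
  have ha3 : a = 2 := by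
    by_contra hc
    have h8 : 7 ^ 3 ≤ m := by rw [hm]; exact Nat.pow_le_pow_right hr.pos (by omega)
    omega
  subst ha3
  rw [hm] at h
  revert h; decide

/-- **Extensions of `SL(2,5)`** by a nontrivial `11'`-group have at least eleven classes. -/
theorem main {Y : Type*} [Group Y] [Finite Y] (N : Subgroup Y) [N.Normal] (hN1 : N ≠ ⊥)
    (e : (Y ⧸ N) ≃* SL25.S) (h11 : ¬ 11 ∣ Nat.card N) : 11 ≤ Nat.card (ConjClasses Y) := by
  classical
  have : Fact (Nat.Prime 11) := ⟨by norm_num⟩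
  by_contra hcon
  push Not at hcon
  have hcardQ : Nat.card (Y ⧸ N) = 120 := by rw [Nat.card_congr e.toEquiv, SL25.natCard_S]
  have hcardY : Nat.card Y = 120 * Nat.card N := by
    rw [Subgroup.card_eq_card_quotient_mul_card_subgroup N, hcardQ]
  have hY : ¬ 11 ∣ Nat.card Y := by
    rw [hcardY]
    intro h
    rcases (Nat.Prime.dvd_mul (by norm_num)).1 h with h | h
    · revert h; decide
    · exact h11 h
  have hQ : ¬ 11 ∣ Nat.card (Y ⧸ N) := by rw [hcardQ]; decide
  obtain ⟨-, h2⟩ := card_quotient_add_one_le (p := 11) N h11 hN1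
  rw [card_eq_of_not_dvd hY, card_eq_of_not_dvd hQ, ClassCount.card_conjClasses_congr e,
    SL25.card_conjClasses] at h2
  obtain ⟨hconj, hcos⟩ := h2 (by omega)
  have hreg : ∀ g : Y, ¬ 11 ∣ orderOf g := fun g h => hY (h.trans (orderOf_dvd_natCard g))
  obtain ⟨r, hr, hNr, hNc⟩ := elementary N hN1 hconj
  have : Fact r.Prime := ⟨hr⟩
  have hNn : N.Normal := inferInstance
  have hNp : IsPGroup r N := by
    rintro ⟨x, hx⟩
    exact ⟨1, Subtype.ext (by rw [pow_one]; exact hNr x hx)⟩
  obtain ⟨a, ha⟩ := IsPGroup.iff_card.1 hNp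
  have ha0 : 0 < a := by
    apply Nat.pos_of_ne_zero
    rintro rfl
    rw [pow_zero] at ha
    exact hN1 (Subgroup.eq_bot_of_card_eq _ ha)
  have hdvd : Nat.card N - 1 ∣ 120 := by
    have h3 := card_sub_one_dvd N hN1 hconj N hNc
    have h4 : N.index = 120 := hcardQ
    rwa [h4] at h3
  by_cases hsmall : r = 2 ∨ r = 3 ∨ r = 5
  · obtain ⟨y, c, hyo, hy1, hyc⟩ := SL25.exists_small hsmall
    obtain ⟨g, hg⟩ := QuotientGroup.mk_surjective (e.symm y)
    have hgo : orderOf (g : Y ⧸ N) = orderOf y := by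
      rw [hg]; exact MulEquiv.orderOf_eq e.symm y
    have hgN : g ∉ N := by
      intro h
      have h3 : (g : Y ⧸ N) = 1 := (QuotientGroup.eq_one_iff g).2 h
      rw [h3] at hg
      apply hy1
      rw [← e.apply_symm_apply y, ← hg, map_one]
    have h3 := card_centralizer_le N g (fun n hn => hcos g n (hreg g) hgN hn (hreg _))
    have h4 := le_card_centralizer N hN1 hNr g (hgo.trans hyo)
    have h5 : Nat.card (Subgroup.centralizer ({(g : Y ⧸ N)} : Set (Y ⧸ N))) =
        Nat.card (Subgroup.centralizer ({y} : Set SL25.S)) := by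
      refine Nat.card_congr (e.toEquiv.subtypeEquiv fun x => ?_)
      rw [Subgroup.mem_centralizer_singleton_iff, Subgroup.mem_centralizer_singleton_iff, hg]
      constructor
      · intro h6
        have := congrArg e h6
        rw [map_mul, map_mul, e.apply_symm_apply] at this
        exact this
      · intro h6
        apply e.injective
        rw [map_mul, map_mul, e.apply_symm_apply]
        exact h6
    rw [hgo] at h4
    omega
  · push Not at hsmall
    have ha1 := arith hr (by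
      rintro rfl
      exact h11 (by rw [ha]; exact dvd_pow_self 11 ha0.ne')) hsmall.1 hsmall.2.1 hsmall.2.2 ha ha0 hdvd
    rw [ha1, pow_one] at ha
    -- `N` is cyclic, hence central
    have : Nontrivial N := (Subgroup.nontrivial_iff_ne_bot N).2 hN1
    obtain ⟨⟨x, hx⟩, hx1⟩ := exists_ne (1 : N)
    have hx1' : x ≠ 1 := fun h => hx1 (Subtype.ext h)
    have hNx : ∀ y ∈ N, y ∈ Subgroup.zpowers x := by
      have h3 : Subgroup.zpowers x = N := by
        apply Subgroup.eq_of_le_of_card_ge (by rw [Subgroup.zpowers_le]; exact hx)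
        rw [ha, Nat.card_zpowers, orderOf_eq_prime (hNr x hx) hx1']
      intro y hy
      rw [h3]; exact hy
    have hcomm : commutator Y ≤ Subgroup.centralizer {x} := by
      rw [commutator_def, Subgroup.commutator_le]
      intro g _ h _
      rw [Subgroup.mem_centralizer_singleton_iff]
      obtain ⟨i, hi⟩ := hNx _ (hNn.conj_mem x hx g)
      obtain ⟨j, hj⟩ := hNx _ (hNn.conj_mem x hx h)
      have hi' : x ^ i = g * x * g⁻¹ := hi
      have hj' : x ^ j = h * x * h⁻¹ := hj
      have h3 : g * h * x * h⁻¹ * g⁻¹ = h * g * x * g⁻¹ * h⁻¹ := by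
        calc g * h * x * h⁻¹ * g⁻¹ = g * (h * x * h⁻¹) * g⁻¹ := by group
          _ = (g * x * g⁻¹) ^ j := by rw [← hj', conj_zpow]
          _ = x ^ (i * j) := by rw [← hi', zpow_mul]
          _ = (h * x * h⁻¹) ^ i := by rw [← hj', ← zpow_mul, mul_comm]
          _ = h * (g * x * g⁻¹) * h⁻¹ := by rw [← hi', conj_zpow]
          _ = h * g * x * g⁻¹ * h⁻¹ := by group
      -- `⁅g, h⁆` evaluated at the conjugate
      have h4 : ∀ y ∈ N, g * h * y * h⁻¹ * g⁻¹ = h * g * y * g⁻¹ * h⁻¹ := by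
        intro y hy
        obtain ⟨k, hk⟩ := hNx y hy
        have hk' : x ^ k = y := hk
        calc g * h * y * h⁻¹ * g⁻¹ = (g * h) * x ^ k * (g * h)⁻¹ := by rw [hk']; group
          _ = (g * h * x * (g * h)⁻¹) ^ k := by rw [conj_zpow]
          _ = (h * g * x * (h * g)⁻¹) ^ k := by
            congr 1
            have : g * h * x * (g * h)⁻¹ = g * h * x * h⁻¹ * g⁻¹ := by group
            rw [this, h3]; group
          _ = (h * g) * x ^ k * (h * g)⁻¹ := by rw [conj_zpow]
          _ = h * g * y * g⁻¹ * h⁻¹ := by rw [hk']; group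
      have h5 := h4 (g⁻¹ * (h⁻¹ * x * h) * g) (by
        have h6 := hNn.conj_mem _ (hNn.conj_mem x hx h⁻¹) g⁻¹
        simpa using h6)
      have h6 : h * g * (g⁻¹ * (h⁻¹ * x * h) * g) * g⁻¹ * h⁻¹ = x := by group
      rw [h6] at h5
      rw [commutatorElement_def]
      have h7 : g * h * g⁻¹ * h⁻¹ * x = g * h * (g⁻¹ * (h⁻¹ * x * h) * g) * h⁻¹ * g⁻¹ *
          (g * h * g⁻¹ * h⁻¹) := by group
      rw [h7, h5]
    have hperf : commutator Y ⊔ N = ⊤ := by
      have h3 : commutator (Y ⧸ N) = ⊤ := by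
        have h4 := SL25.perfect
        have h5 : (commutator SL25.S).map e.symm.toMonoidHom = commutator (Y ⧸ N) := by
          rw [commutator_def, commutator_def, Subgroup.map_commutator,
            Subgroup.map_top_of_surjective _ e.symm.surjective]
        rw [← h5, h4, Subgroup.map_top_of_surjective _ e.symm.surjective]
      have h4 : (commutator Y).map (QuotientGroup.mk' N) = ⊤ := by
        rw [commutator_def, Subgroup.map_commutator,
          Subgroup.map_top_of_surjective _ (QuotientGroup.mk'_surjective N), ← commutator_def, h3]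
      have h5 := congrArg (Subgroup.comap (QuotientGroup.mk' N)) h4
      rw [Subgroup.comap_map_eq, QuotientGroup.ker_mk', Subgroup.comap_top] at h5
      exact h5
    have hcen : Subgroup.centralizer ({x} : Set Y) = ⊤ := by
      rw [eq_top_iff, ← hperf, sup_le_iff]
      refine ⟨hcomm, fun n hn => ?_⟩
      rw [Subgroup.mem_centralizer_singleton_iff]
      exact hNc n hn x hx
    have h3 : x⁻¹ = x := by
      have hx2 : x⁻¹ ≠ 1 := fun h => hx1' (inv_eq_one.1 h)
      obtain ⟨c, hc⟩ := isConj_iff.1 (hconj x hx x⁻¹ (N.inv_mem hx) hx1' hx2)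
      have h4 : c ∈ Subgroup.centralizer ({x} : Set Y) := by rw [hcen]; exact Subgroup.mem_top c
      rw [Subgroup.mem_centralizer_singleton_iff] at h4
      rw [← hc, h4, mul_inv_cancel_right]
    have h4 : orderOf x = r := orderOf_eq_prime (hNr x hx) hx1'
    have h5 : orderOf x ∣ 2 := by
      apply orderOf_dvd_of_pow_eq_one
      rw [sq]
      nth_rewrite 1 [← h3]
      exact inv_mul_cancel x
    rw [h4] at h5
    exact hsmall.1 ((Nat.prime_dvd_prime_iff_eq hr Nat.prime_two).1 h5)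

end Cfsg.Agent.H697.LemmaY
end

-- part: H697/ActMain
section
/-!
# Groups acting transitively on the nonzero elements of an elementary abelian group
-/

set_option autoImplicit false
set_option linter.style.haveILetI false

namespace Cfsg.Agent.H697.ActMain

open Module
open scoped Pointwise

variable {p : ℕ} [hp : Fact p.Prime]

theorem act_main {D E : Type*} [Group D] [Finite D] [AddCommGroup E] [Finite E] [Nontrivial E]
    [DistribMulAction D E] [FaithfulSMul D E] (hE : ∀ e : E, p • e = 0)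
    (htr : ∀ a b : E, a ≠ 0 → b ≠ 0 → ∃ d : D, d • a = b) (hpD : ¬ p ∣ Nat.card D) :
    p ≤ Nat.card (ConjClasses D) ∨ Nat.card E = p ∨
      (p = 11 ∧ Nat.card E = 121 ∧ Nat.card D = 120 ∧ Nonempty (D ≃* SL25.S)) := by
  classical
  obtain ⟨_inst⟩ : Nonempty (Module (ZMod p) E) := ⟨AddCommGroup.zmodModule hE⟩
  let lin : D → (E ≃ₗ[ZMod p] E) := fun d =>
    { toFun := fun x => d • x
      invFun := fun x => d⁻¹ • x
      map_add' := fun x y => smul_add d x y
      map_smul' := fun c x => by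
        have h := ((DistribSMul.toAddMonoidHom E d).toZModLinearMap p).map_smul c x
        exact h
      left_inv := fun x => inv_smul_smul d x
      right_inv := fun x => smul_inv_smul d x }
  have hlin : ∀ d x, lin d x = d • x := fun _ _ => rfl
  let φ : D →* (E ≃ₗ[ZMod p] E) :=
    { toFun := lin
      map_one' := by
        apply LinearEquiv.ext
        intro x
        rw [hlin, one_smul]
        rfl
      map_mul' := fun a b => by
        apply LinearEquiv.ext
        intro x
        rw [LinearEquiv.mul_apply, hlin, hlin, hlin, mul_smul] }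
  have hφ : ∀ d x, φ d x = d • x := fun _ _ => rfl
  have hinj : Function.Injective φ := by
    intro a b hab
    apply FaithfulSMul.eq_of_smul_eq_smul (α := E)
    intro x
    rw [← hφ, ← hφ, hab]
  let e : D ≃* φ.range := MonoidHom.ofInjective hinj
  have hcard : Nat.card φ.range = Nat.card D := (Nat.card_congr e.toEquiv).symm
  rcases LinMain.main (p := p) φ.range (by
    intro v w hv hw
    obtain ⟨d, hd⟩ := htr v w hv hw
    exact ⟨φ d, ⟨d, rfl⟩, hd⟩) (by rw [hcard]; exact hpD) with h | h | ⟨h1, h2, h3, ⟨h4⟩⟩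
  · left
    rwa [ClassCount.card_conjClasses_congr e]
  · right; left
    rw [Hering.card_eq (p := p) (V := E), h, pow_one]
  · right; right
    exact ⟨h1, h2, by rw [← hcard]; exact h3, ⟨e.trans h4⟩⟩

/-- Group version: a complement acting transitively. -/
theorem grp_main {Q : Type*} [Group Q] [Finite Q] (V H : Subgroup Q) (hVn : V.Normal)
    (hVc : ∀ x ∈ V, ∀ y ∈ V, x * y = y * x) (hVp : ∀ x ∈ V, x ^ p = 1) (hV1 : V ≠ ⊥)
    (hfaith : ∀ h ∈ H, (∀ v ∈ V, h * v = v * h) → h = 1)
    (htr : ∀ v ∈ V, ∀ w ∈ V, v ≠ 1 → w ≠ 1 → ∃ h ∈ H, h * v * h⁻¹ = w) (hpH : ¬ p ∣ Nat.card H) :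
    p ≤ Nat.card (ConjClasses H) ∨ Nat.card V = p ∨
      (p = 11 ∧ Nat.card V = 121 ∧ Nat.card H = 120 ∧ Nonempty (H ≃* SL25.S)) := by
  classical
  letI : CommGroup V :=
    { (inferInstance : Group V) with
      mul_comm := fun a b => Subtype.ext (hVc a a.2 b b.2) }
  have hnt : Nontrivial V := (Subgroup.nontrivial_iff_ne_bot V).2 hV1
  have : Nontrivial (Additive V) := hnt
  let c : H → V → V := fun h v => ⟨h * v * (h : Q)⁻¹, hVn.conj_mem v v.2 h⟩
  letI : DistribMulAction H (Additive V) :=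
    { smul := fun h v => Additive.ofMul (c h (Additive.toMul v))
      one_smul := fun v => by
        apply Additive.toMul.injective
        apply Subtype.ext
        show ((1 : H) : Q) * ((Additive.toMul v : V) : Q) * ((1 : H) : Q)⁻¹ = _
        simp
      mul_smul := fun a b v => by
        apply Additive.toMul.injective
        apply Subtype.ext
        show ((a * b : H) : Q) * ((Additive.toMul v : V) : Q) * ((a * b : H) : Q)⁻¹ =
          (a : Q) * ((b : Q) * ((Additive.toMul v : V) : Q) * (b : Q)⁻¹) * (a : Q)⁻¹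
        rw [Subgroup.coe_mul]
        group
      smul_zero := fun a => by
        apply Additive.toMul.injective
        apply Subtype.ext
        show (a : Q) * ((1 : V) : Q) * (a : Q)⁻¹ = ((1 : V) : Q)
        simp
      smul_add := fun a v w => by
        apply Additive.toMul.injective
        apply Subtype.ext
        show (a : Q) * (((Additive.toMul v : V) : Q) * ((Additive.toMul w : V) : Q)) * (a : Q)⁻¹ =
          ((a : Q) * ((Additive.toMul v : V) : Q) * (a : Q)⁻¹) *
            ((a : Q) * ((Additive.toMul w : V) : Q) * (a : Q)⁻¹)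
        group }
  have hsmul : ∀ (h : H) (v : V), ((Additive.toMul (h • Additive.ofMul v) : V) : Q) =
      (h : Q) * v * (h : Q)⁻¹ := fun _ _ => rfl
  have hF : FaithfulSMul H (Additive V) := by
    refine ⟨fun {a b} hab => ?_⟩
    have h1 : ∀ v ∈ V, (a : Q) * v * (a : Q)⁻¹ = (b : Q) * v * (b : Q)⁻¹ := by
      intro v hv
      have h2 := hab (Additive.ofMul (⟨v, hv⟩ : V))
      have h3 := congrArg (fun z : Additive V => ((Additive.toMul z : V) : Q)) h2
      exact h3
    have h2 : (b : Q)⁻¹ * a = 1 := by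
      apply hfaith _ (H.mul_mem (H.inv_mem b.2) a.2)
      intro v hv
      have h3 := h1 v hv
      have h4 : (a : Q) * v = (b : Q) * v * (b : Q)⁻¹ * a := by
        rw [← h3]; group
      rw [mul_assoc, h4]
      group
    exact Subtype.ext (inv_mul_eq_one.1 h2).symm
  have hfin : Finite (Additive V) := inferInstanceAs (Finite V)
  rcases act_main (p := p) (D := H) (E := Additive V) (by
    intro x
    apply Additive.toMul.injective
    apply Subtype.ext
    show (((Additive.toMul x : V) ^ p : V) : Q) = 1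
    rw [Subgroup.coe_pow]
    exact hVp _ (Additive.toMul x).2) (by
    intro a b ha hb
    obtain ⟨h, hh, hhb⟩ := htr _ (Additive.toMul a).2 _ (Additive.toMul b).2
      (fun h0 => ha (Additive.toMul.injective (Subtype.ext h0)))
      (fun h0 => hb (Additive.toMul.injective (Subtype.ext h0)))
    refine ⟨⟨h, hh⟩, ?_⟩
    apply Additive.toMul.injective
    apply Subtype.ext
    exact hhb) hpH with h | h | h
  · exact Or.inl h
  · exact Or.inr (Or.inl h)
  · exact Or.inr (Or.inr h)

/-- The structure of a `p`-solvable group with trivial `p'`-core and one class of nontrivial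
`p`-elements. -/
theorem structure_of_core {Q : Type*} [Group Q] [Finite Q] (hsol : Cfsg.IsPSolvable p Q)
    (hcore : Cfsg.pPrimeCore p Q = ⊥) (hdiv : p ∣ Nat.card Q)
    (hconj : ∀ x y : Q, x ≠ 1 → y ≠ 1 → (∃ k : ℕ, orderOf x = p ^ k) →
      (∃ k : ℕ, orderOf y = p ^ k) → IsConj x y) :
    ∃ V H : Subgroup Q, V.Normal ∧ (∀ x ∈ V, ∀ y ∈ V, x * y = y * x) ∧ (∀ x ∈ V, x ^ p = 1) ∧
      V ≠ ⊥ ∧ Subgroup.IsComplement' V H ∧ ¬ p ∣ Nat.card H ∧
      (∀ g : Q, (∀ v ∈ V, g * v = v * g) → g ∈ V) ∧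
      (∀ v ∈ V, ∀ w ∈ V, v ≠ 1 → w ≠ 1 → ∃ h ∈ H, h * v * h⁻¹ = w) := by
  classical
  have hp' : p.Prime := hp.out
  have hcent := Cfsg.Agent.Lib.PSolvable.centralizer_pCore_le_of_pSolvable p hsol hcore
  set V := Cfsg.pCore p Q with hV
  have hVn : V.Normal := by rw [hV]; exact Cfsg.Agent.Lib.Cores.pCore_normal p
  have hVp : IsPGroup p V := by rw [hV]; exact Cfsg.Agent.Lib.Cores.pCore_isPGroup p
  have hV1 : V ≠ ⊥ := by
    intro h
    rw [h] at hcent
    have h1 : Subgroup.centralizer ((⊥ : Subgroup Q) : Set Q) = ⊤ := by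
      rw [eq_top_iff]
      intro g _
      rw [Subgroup.mem_centralizer_iff]
      intro x hx
      have hx' : x = 1 := hx
      rw [hx', one_mul, mul_one]
    rw [h1] at hcent
    have h2 : (⊤ : Subgroup Q) = ⊥ := le_bot_iff.1 hcent
    have h3 : Nat.card Q = 1 := by
      rw [← Subgroup.card_top, h2, Subgroup.card_bot]
    rw [h3] at hdiv
    exact hp'.one_lt.ne' (Nat.dvd_one.1 hdiv)
  have hpe : ∀ x ∈ V, ∃ k : ℕ, orderOf x = p ^ k := by
    intro x hx
    obtain ⟨k, hk⟩ := (IsPGroup.iff_orderOf.1 hVp) ⟨x, hx⟩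
    rw [Subgroup.orderOf_mk] at hk
    exact ⟨k, hk⟩
  have hVconj : ∀ x ∈ V, ∀ y ∈ V, x ≠ 1 → y ≠ 1 → IsConj x y := fun x hx y hy hx1 hy1 =>
    hconj x y hx1 hy1 (hpe x hx) (hpe y hy)
  obtain ⟨r, hr, hVr, hVc⟩ := LemmaY.elementary V hV1 hVconj
  obtain ⟨x₀, hx₀, hx₀1⟩ : ∃ x : Q, x ∈ V ∧ x ≠ 1 := by
    by_contra hcon
    push Not at hcon
    exact hV1 ((Subgroup.eq_bot_iff_forall _).2 hcon)
  have hrp : r = p := by
    have : Fact r.Prime := ⟨hr⟩
    obtain ⟨k, hk⟩ := hpe x₀ hx₀
    have h1 : orderOf x₀ = r := orderOf_eq_prime (hVr x₀ hx₀) hx₀1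
    rw [h1] at hk
    have h2 : r ∣ p := hr.dvd_of_dvd_pow (n := k) (by rw [← hk])
    exact (Nat.prime_dvd_prime_iff_eq hr hp').1 h2
  subst hrp
  -- every `p`-element lies in `V`
  have hmem : ∀ y : Q, (∃ k : ℕ, orderOf y = r ^ k) → y ∈ V := by
    intro y hy
    by_cases hy1 : y = 1
    · rw [hy1]; exact V.one_mem
    · obtain ⟨c, hc⟩ := isConj_iff.1 (hconj x₀ y hx₀1 hy1 (hpe x₀ hx₀) hy)
      rw [← hc]
      exact hVn.conj_mem x₀ hx₀ c
  obtain ⟨S⟩ : Nonempty (Sylow r Q) := inferInstance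
  have hSV : (S : Subgroup Q) ≤ V := by
    intro y hy
    apply hmem
    obtain ⟨k, hk⟩ := (IsPGroup.iff_orderOf.1 S.isPGroup') ⟨y, hy⟩
    rw [Subgroup.orderOf_mk] at hk
    exact ⟨k, hk⟩
  have hVS : V = (S : Subgroup Q) := S.is_maximal' hVp hSV
  have hidx : ¬ r ∣ V.index := by
    rw [hVS]
    exact S.not_dvd_index
  have hcop : (Nat.card V).Coprime V.index := by
    obtain ⟨n, hn⟩ := IsPGroup.iff_card.1 hVp
    rw [hn]
    exact Nat.Coprime.pow_left n ((Nat.Prime.coprime_iff_not_dvd hp').2 hidx)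
  obtain ⟨H, hH⟩ := Subgroup.exists_right_complement'_of_coprime hcop
  have hHc : Nat.card H = V.index := hH.symm.index_eq_card.symm
  refine ⟨V, H, hVn, hVc, hVr, hV1, hH, by rw [hHc]; exact hidx, ?_, ?_⟩
  · intro g hg
    apply hcent
    rw [Subgroup.mem_centralizer_iff]
    intro v hv
    exact (hg v hv).symm
  · intro v hv w hw hv1 hw1
    obtain ⟨g, hg⟩ := isConj_iff.1 (hVconj v hv w hw hv1 hw1)
    have hg' : g ∈ (V : Set Q) * (H : Set Q) := by
      rw [Subgroup.IsComplement.mul_eq hH]; trivial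
    obtain ⟨x, hx, h, hh, rfl⟩ := hg'
    refine ⟨h, hh, ?_⟩
    have h1 : h * v * h⁻¹ ∈ V := hVn.conj_mem v hv h
    have h2 := hVc x hx _ h1
    have hg2 : x * h * v * (x * h)⁻¹ = w := hg
    rw [← hg2]
    have h3 : x * h * v * (x * h)⁻¹ = x * (h * v * h⁻¹) * x⁻¹ := by group
    rw [h3, h2, mul_inv_cancel_right]

end Cfsg.Agent.H697.ActMain
end

-- part: H697/CycAct
section
/-!
# Abelian normal subgroups of transitive linear groups are cyclic: group version
-/

set_option autoImplicit false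
set_option linter.style.haveILetI false

namespace Cfsg.Agent.H697.CycAct

open Module
open Cfsg.Agent.PermutationGroups.RegularLinear

theorem act_cyclic {r : ℕ} [Fact r.Prime] {D E : Type*} [Group D] [AddCommGroup E] [Finite E]
    [Nontrivial E] [DistribMulAction D E] (hE : ∀ e : E, r • e = 0)
    (htr : ∀ a b : E, a ≠ 0 → b ≠ 0 → ∃ d : D, d • a = b) (K : Subgroup D) (hK : K.Normal)
    (hKc : ∀ a ∈ K, ∀ b ∈ K, ∀ e : E, a • b • e = b • a • e) (P : Subgroup D) (hPK : P ≤ K)
    (hPf : ∀ a ∈ P, (∀ e : E, a • e = e) → a = 1) : IsCyclic P := by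
  classical
  obtain ⟨_inst⟩ : Nonempty (Module (ZMod r) E) := ⟨AddCommGroup.zmodModule hE⟩
  let lin : D → (E ≃ₗ[ZMod r] E) := fun d =>
    { toFun := fun x => d • x
      invFun := fun x => d⁻¹ • x
      map_add' := fun x y => smul_add d x y
      map_smul' := fun c x => by
        have h := ((DistribSMul.toAddMonoidHom E d).toZModLinearMap r).map_smul c x
        exact h
      left_inv := fun x => inv_smul_smul d x
      right_inv := fun x => smul_inv_smul d x }
  have hlin : ∀ d x, lin d x = d • x := fun _ _ => rfl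
  let φ : D →* (E ≃ₗ[ZMod r] E) :=
    { toFun := lin
      map_one' := by
        apply LinearEquiv.ext
        intro x
        rw [hlin, one_smul]
        rfl
      map_mul' := fun a b => by
        apply LinearEquiv.ext
        intro x
        rw [LinearEquiv.mul_apply, hlin, hlin, hlin, mul_smul] }
  have hφ : ∀ d x, φ d x = d • x := fun _ _ => rfl
  let A : Subgroup φ.range := K.map φ.rangeRestrict
  have hA : A.Normal := hK.map φ.rangeRestrict φ.rangeRestrict_surjective
  have hAc : IsMulCommutative A := by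
    refine ⟨⟨?_⟩⟩
    rintro ⟨_, a, ha, rfl⟩ ⟨_, b, hb, rfl⟩
    apply Subtype.ext
    apply Subtype.ext
    apply LinearEquiv.ext
    intro e
    exact hKc a ha b hb e
  have hinj := groupAlg_injective_of_comm φ.range (by
    intro v w hv hw
    obtain ⟨d, hd⟩ := htr v w hv hw
    exact ⟨φ d, ⟨d, rfl⟩, hd⟩) A hA hAc
  refine (isCyclic_and_card_dvd (groupAlg A) hinj (φ.comp P.subtype) ?_ ?_).1
  · rw [injective_iff_map_eq_one]
    intro a ha
    apply Subtype.ext
    apply hPf a a.2
    intro e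
    have h1 : φ (a : D) = 1 := ha
    rw [← hφ, h1]
    rfl
  · intro g
    exact coe_mem_groupAlg A (a := φ.rangeRestrict g) ⟨g, hPK g.2, rfl⟩

/-- The conjugation action on a normal elementary abelian subgroup. -/
theorem grp_cyclic {r : ℕ} [Fact r.Prime] {Q : Type*} [Group Q] [Finite Q] (V : Subgroup Q)
    (hVn : V.Normal) (hVc : ∀ x ∈ V, ∀ y ∈ V, x * y = y * x) (hVp : ∀ x ∈ V, x ^ r = 1) (hV1 : V ≠ ⊥)
    (htr : ∀ v ∈ V, ∀ w ∈ V, v ≠ 1 → w ≠ 1 → IsConj v w) (K : Subgroup Q) (hK : K.Normal)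
    (hKc : ∀ a ∈ K, ∀ b ∈ K, ∀ v ∈ V, a * b * v * (a * b)⁻¹ = b * a * v * (b * a)⁻¹)
    (P : Subgroup Q) (hPK : P ≤ K) (hPf : ∀ a ∈ P, (∀ v ∈ V, a * v = v * a) → a = 1) :
    IsCyclic P := by
  classical
  letI : CommGroup V :=
    { (inferInstance : Group V) with
      mul_comm := fun a b => Subtype.ext (hVc a a.2 b b.2) }
  have hnt : Nontrivial V := (Subgroup.nontrivial_iff_ne_bot V).2 hV1
  have : Nontrivial (Additive V) := hnt
  let c : Q → V → V := fun h v => ⟨h * v * h⁻¹, hVn.conj_mem v v.2 h⟩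
  letI : DistribMulAction Q (Additive V) :=
    { smul := fun h v => Additive.ofMul (c h (Additive.toMul v))
      one_smul := fun v => by
        apply Additive.toMul.injective
        apply Subtype.ext
        show (1 : Q) * ((Additive.toMul v : V) : Q) * (1 : Q)⁻¹ = _
        simp
      mul_smul := fun a b v => by
        apply Additive.toMul.injective
        apply Subtype.ext
        show (a * b) * ((Additive.toMul v : V) : Q) * (a * b)⁻¹ =
          a * (b * ((Additive.toMul v : V) : Q) * b⁻¹) * a⁻¹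
        group
      smul_zero := fun a => by
        apply Additive.toMul.injective
        apply Subtype.ext
        show a * ((1 : V) : Q) * a⁻¹ = ((1 : V) : Q)
        simp
      smul_add := fun a v w => by
        apply Additive.toMul.injective
        apply Subtype.ext
        show a * (((Additive.toMul v : V) : Q) * ((Additive.toMul w : V) : Q)) * a⁻¹ =
          (a * ((Additive.toMul v : V) : Q) * a⁻¹) * (a * ((Additive.toMul w : V) : Q) * a⁻¹)
        group }
  have hsmul : ∀ (h : Q) (v : Additive V), ((Additive.toMul (h • v) : V) : Q) =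
      h * ((Additive.toMul v : V) : Q) * h⁻¹ := fun _ _ => rfl
  have hfin : Finite (Additive V) := inferInstanceAs (Finite V)
  refine act_cyclic (r := r) (D := Q) (E := Additive V) ?_ ?_ K hK ?_ P hPK ?_
  · intro x
    apply Additive.toMul.injective
    apply Subtype.ext
    show (((Additive.toMul x : V) ^ r : V) : Q) = 1
    rw [Subgroup.coe_pow]
    exact hVp _ (Additive.toMul x).2
  · intro a b ha hb
    obtain ⟨h, hh⟩ := isConj_iff.1 (htr _ (Additive.toMul a).2 _ (Additive.toMul b).2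
      (fun h0 => ha (Additive.toMul.injective (Subtype.ext h0)))
      (fun h0 => hb (Additive.toMul.injective (Subtype.ext h0))))
    refine ⟨h, ?_⟩
    apply Additive.toMul.injective
    apply Subtype.ext
    exact hh
  · intro a ha b hb e
    apply Additive.toMul.injective
    apply Subtype.ext
    rw [← mul_smul, ← mul_smul, hsmul, hsmul]
    exact hKc a ha b hb _ (Additive.toMul e).2
  · intro a ha h
    apply hPf a ha
    intro v hv
    have h1 := congrArg (fun z : Additive V => ((Additive.toMul z : V) : Q))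
      (h (Additive.ofMul (⟨v, hv⟩ : V)))
    have h2 : a * v * a⁻¹ = v := h1
    rw [mul_inv_eq_iff_eq_mul] at h2
    exact h2

end Cfsg.Agent.H697.CycAct
end

-- part: H697/PSolvA
section
/-!
# `p`-solvable groups with one class of nontrivial `p`-elements: the case of a trivial `p'`-core
-/

set_option autoImplicit false

namespace Cfsg.Agent.H697.PSolvA

open Pk

variable {p : ℕ} [hp : Fact p.Prime]

/-- `p`-elements lift. -/
theorem exists_lift_pow {G Q : Type*} [Group G] [Group Q] [Finite G] (f : G →* Q)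
    (hf : Function.Surjective f) {q : Q} (hq : ∃ k : ℕ, orderOf q = p ^ k) :
    ∃ g : G, f g = q ∧ ∃ k : ℕ, orderOf g = p ^ k := by
  obtain ⟨g, rfl⟩ := hf q
  obtain ⟨k, hk⟩ := hq
  obtain ⟨a, m, hm, ham⟩ := Nat.exists_eq_pow_mul_and_not_dvd (orderOf_pos g).ne' p hp.out.ne_one
  have hcop : Nat.Coprime m (orderOf (f g)) := by
    rw [hk]
    exact (Nat.Coprime.pow_left k ((Nat.Prime.coprime_iff_not_dvd hp.out).2 hm)).symm
  obtain ⟨b, hb⟩ : ∃ b : ℕ, f g ^ (m * b) = f g := by
    obtain ⟨b, hb⟩ := exists_pow_eq_self_of_coprime hcop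
    exact ⟨b, by rw [pow_mul]; exact hb⟩
  refine ⟨g ^ (m * b), by rw [map_pow, hb], ?_⟩
  have h1 : orderOf (g ^ (m * b)) ∣ p ^ a := by
    apply orderOf_dvd_of_pow_eq_one
    rw [← pow_mul]
    have : m * b * p ^ a = orderOf g * b := by rw [ham]; ring
    rw [this, pow_mul, pow_orderOf_eq_one, one_pow]
  obtain ⟨j, -, hj⟩ := (Nat.dvd_prime_pow hp.out).1 h1
  exact ⟨j, hj⟩

/-- The hypothesis passes to quotients. -/
theorem hconj_map {G Q : Type*} [Group G] [Group Q] [Finite G] (f : G →* Q)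
    (hf : Function.Surjective f)
    (hconj : ∀ x y : G, x ≠ 1 → y ≠ 1 → (∃ k : ℕ, orderOf x = p ^ k) →
      (∃ k : ℕ, orderOf y = p ^ k) → IsConj x y) :
    ∀ x y : Q, x ≠ 1 → y ≠ 1 → (∃ k : ℕ, orderOf x = p ^ k) →
      (∃ k : ℕ, orderOf y = p ^ k) → IsConj x y := by
  intro x y hx hy hxk hyk
  obtain ⟨g, rfl, hg⟩ := exists_lift_pow f hf hxk
  obtain ⟨h, rfl, hh⟩ := exists_lift_pow f hf hyk
  have hg1 : g ≠ 1 := fun h => hx (by rw [h, map_one])
  have hh1 : h ≠ 1 := fun h' => hy (by rw [h', map_one])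
  obtain ⟨c, hc⟩ := isConj_iff.1 (hconj g h hg1 hh1 hg hh)
  exact isConj_iff.2 ⟨f c, by rw [← hc, map_mul, map_mul, map_inv]⟩

/-- The case of a trivial `p'`-core. -/
theorem core_case {Q : Type*} [Group Q] [Finite Q] (hsol : Cfsg.IsPSolvable p Q)
    (hcore : Cfsg.pPrimeCore p Q = ⊥) (hdiv : p ∣ Nat.card Q)
    (hconj : ∀ x y : Q, x ≠ 1 → y ≠ 1 → (∃ k : ℕ, orderOf x = p ^ k) →
      (∃ k : ℕ, orderOf y = p ^ k) → IsConj x y) :
    p ≤ Nat.card (PReg p Q) ∨
      (Nat.card (PReg p Q) = p - 1 ∧ Nonempty (Q ≃* Cfsg.affineGroup (ZMod p))) ∨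
      (p = 11 ∧ Nat.card (PReg p Q) = 9 ∧ ∃ V H : Subgroup Q, V.Normal ∧
        (∀ x ∈ V, ∀ y ∈ V, x * y = y * x) ∧ (∀ x ∈ V, x ^ p = 1) ∧ Nat.card V = 121 ∧
        Nat.card H = 120 ∧ Subgroup.IsComplement' V H ∧ Nonempty (H ≃* SL25.S) ∧
        (∀ v ∈ V, ∀ w ∈ V, v ≠ 1 → w ≠ 1 → ∃ h ∈ H, h * v * h⁻¹ = w)) := by
  classical
  obtain ⟨V, H, hVn, hVc, hVp, hV1, hVH, hpH, hcent, htr⟩ :=
    ActMain.structure_of_core hsol hcore hdiv hconj
  have hVpg : IsPGroup p V := by
    intro x
    exact ⟨1, Subtype.ext (by rw [pow_one]; exact hVp x x.2)⟩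
  have hκ : Nat.card (PReg p Q) = Nat.card (ConjClasses H) := by
    rw [← card_quotient_eq V hVpg, card_congr hVH.symm.QuotientMulEquiv, card_eq_of_not_dvd hpH]
  have hfaith : ∀ h ∈ H, (∀ v ∈ V, h * v = v * h) → h = 1 := by
    intro h hh hc
    exact Subgroup.disjoint_def.1 hVH.disjoint (hcent h hc) hh
  rw [hκ]
  rcases ActMain.grp_main V H hVn hVc hVp hV1 hfaith htr hpH with h | h | ⟨h1, h2, h3, h4⟩
  · exact Or.inl h
  · right; left
    obtain ⟨hH, hHc⟩ := Affine.card_complement V H hVn h hVH hcent htr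
    refine ⟨?_, Affine.affine_iso V H hVn h hVH hcent htr⟩
    letI : CommGroup H :=
      { (inferInstance : Group H) with
        mul_comm := fun a b => Subtype.ext (hHc a a.2 b b.2) }
    rw [← hH]
    refine Nat.card_congr (Equiv.ofBijective (ConjClasses.mk : H → ConjClasses H) ⟨?_, ConjClasses.mk_surjective⟩).symm
    intro a b hab
    exact isConj_iff_eq.1 (ConjClasses.mk_eq_mk_iff_isConj.1 hab)
  · right; right
    obtain ⟨e⟩ := h4
    refine ⟨h1, ?_, V, H, hVn, hVc, hVp, h2, h3, hVH, ⟨e⟩, htr⟩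
    rw [ClassCount.card_conjClasses_congr e, SL25.card_conjClasses]

/-- A regular complement is a Frobenius complement. -/
theorem isFrobeniusComplement {Q : Type*} [Group Q] [Finite Q] (V H : Subgroup Q) (hVn : V.Normal)
    (hVH : Subgroup.IsComplement' V H) (hV : 2 < Nat.card V) (hH : Nat.card H + 1 = Nat.card V)
    (htr : ∀ v ∈ V, ∀ w ∈ V, v ≠ 1 → w ≠ 1 → ∃ h ∈ H, h * v * h⁻¹ = w) :
    Cfsg.IsFrobeniusComplement H := by
  classical
  have hdisj := hVH.disjoint
  have hreg : ∀ v ∈ V, v ≠ 1 → ∀ h ∈ H, h * v * h⁻¹ = v → h = 1 := by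
    intro v hv hv1 h hh hhv
    let f : H → {w : V // w ≠ 1} := fun k => ⟨⟨k * v * (k : Q)⁻¹, hVn.conj_mem v hv k⟩, by
      intro e
      apply hv1
      have e' : (k : Q) * v * (k : Q)⁻¹ = 1 := congrArg Subtype.val e
      have : v = (k : Q)⁻¹ * ((k : Q) * v * (k : Q)⁻¹) * k := by group
      rw [this, e']
      group⟩
    have hf : Function.Surjective f := by
      rintro ⟨⟨w, hw⟩, hw1⟩
      obtain ⟨k, hk, hkw⟩ := htr v hv w hw hv1 (fun e => hw1 (Subtype.ext e))
      exact ⟨⟨k, hk⟩, Subtype.ext (Subtype.ext hkw)⟩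
    have hcard : Nat.card H = Nat.card {w : V // w ≠ 1} := by
      have h1 : Nat.card {w : V // w ≠ 1} = ({1} : Set V)ᶜ.ncard := by
        rw [← Nat.card_coe_set_eq]
        rfl
      rw [h1, Set.ncard_compl, Set.ncard_singleton]
      omega
    have hbij : Function.Injective f := by
      have := Fintype.ofFinite H
      have := Fintype.ofFinite {w : V // w ≠ 1}
      have h2 : Function.Bijective f := by
        rw [Fintype.bijective_iff_surjective_and_card]
        exact ⟨hf, by rw [← Nat.card_eq_fintype_card, ← Nat.card_eq_fintype_card, hcard]⟩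
      exact h2.1
    have h3 : f ⟨h, hh⟩ = f 1 := by
      apply Subtype.ext
      apply Subtype.ext
      show h * v * h⁻¹ = (1 : Q) * v * (1 : Q)⁻¹
      rw [hhv]
      group
    exact congrArg Subtype.val (hbij h3)
  refine ⟨?_, ?_, ?_⟩
  · intro h
    rw [h, Subgroup.card_bot] at hH
    omega
  · intro h
    rw [h] at hdisj
    have : V = ⊥ := by rw [eq_bot_iff]; exact hdisj le_rfl le_top
    rw [this, Subgroup.card_bot] at hV
    omega
  · intro g hg
    rw [eq_bot_iff]
    intro x hxx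
    obtain ⟨hx, hx'⟩ := Subgroup.mem_inf.1 hxx
    rw [Subgroup.mem_pointwise_smul_iff_inv_smul_mem] at hx'
    have hx2 : g⁻¹ * x * g ∈ H := by
      simpa [MulAut.smul_def] using hx'
    -- write `g = v h₀`
    obtain ⟨⟨⟨v, hv⟩, ⟨h₀, hh₀⟩⟩, hvh⟩ := (hVH.existsUnique g).exists
    have hgv : v * h₀ = g := hvh
    have hv1 : v ≠ 1 := by
      intro e
      apply hg
      rw [← hgv, e, one_mul]
      exact hh₀
    have hk : v⁻¹ * x * v ∈ H := by
      have : v⁻¹ * x * v = h₀ * (g⁻¹ * x * g) * h₀⁻¹ := by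
        rw [← hgv]; group
      rw [this]
      exact H.mul_mem (H.mul_mem hh₀ hx2) (H.inv_mem hh₀)
    -- `x⁻¹ (v⁻¹ x v)` lies in `V ∩ H`
    have h1 : x⁻¹ * (v⁻¹ * x * v) ∈ V := by
      have : x⁻¹ * (v⁻¹ * x * v) = (x⁻¹ * v⁻¹ * x⁻¹⁻¹) * v := by group
      rw [this]
      exact V.mul_mem (hVn.conj_mem _ (V.inv_mem hv) x⁻¹) hv
    have h2 : x⁻¹ * (v⁻¹ * x * v) ∈ H := H.mul_mem (H.inv_mem hx) hk
    have h3 : x⁻¹ * (v⁻¹ * x * v) = 1 := Subgroup.disjoint_def.1 hdisj h1 h2
    have h4 : x * v * x⁻¹ = v := by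
      have h5 : v⁻¹ * x * v = x := by
        have := congrArg (fun z => x * z) h3
        simpa using this
      have h6 : x * v = v * x := by
        have := congrArg (fun z => v * z) h5
        simpa [mul_assoc] using this
      rw [h6]; group
    exact hreg v hv hv1 x hx h4

end Cfsg.Agent.H697.PSolvA
end

-- part: H697/PSolvB
section
/-!
# `p`-solvable groups with one class of nontrivial `p`-elements: the exceptional case
-/

set_option autoImplicit false

namespace Cfsg.Agent.H697.PSolvB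

open Pk

/-- A nontrivial `11'`-group below the exceptional group contributes at least two classes. -/
theorem exceptional {G : Type*} [Group G] [Finite G] (N : Subgroup G) [N.Normal] (hN1 : N ≠ ⊥)
    (h11 : ¬ 11 ∣ Nat.card N) (V H : Subgroup (G ⧸ N)) (hVn : V.Normal)
    (hVc : ∀ x ∈ V, ∀ y ∈ V, x * y = y * x) (hVp : ∀ x ∈ V, x ^ 11 = 1) (hV : Nat.card V = 121)
    (hH : Nat.card H = 120) (hVH : Subgroup.IsComplement' V H) (e : H ≃* SL25.S)
    (htr : ∀ v ∈ V, ∀ w ∈ V, v ≠ 1 → w ≠ 1 → ∃ h ∈ H, h * v * h⁻¹ = w)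
    (hκ : Nat.card (PReg 11 (G ⧸ N)) = 9) : 11 ≤ Nat.card (PReg 11 G) := by
  classical
  have : Fact (Nat.Prime 11) := ⟨by norm_num⟩
  have hp11 : Nat.Prime 11 := by norm_num
  by_contra hcon
  push Not at hcon
  obtain ⟨-, h2⟩ := card_quotient_add_one_le (p := 11) N h11 hN1
  rw [hκ] at h2
  obtain ⟨hconjN, -⟩ := h2 (by omega)
  obtain ⟨r, hr, hNr, hNc⟩ := LemmaY.elementary (N := N) hN1 hconjN
  have : Fact r.Prime := ⟨hr⟩
  have hcardQ : Nat.card (G ⧸ N) = 121 * 120 := by rw [← hVH.card_mul_card, hV, hH]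
  have hcardG : Nat.card G = 121 * 120 * Nat.card N := by
    rw [Subgroup.card_eq_card_quotient_mul_card_subgroup N, hcardQ]
  let f := QuotientGroup.mk' N
  have hfker : ∀ x, f x = 1 ↔ x ∈ N := fun x => by
    rw [← MonoidHom.mem_ker, QuotientGroup.ker_mk']
  have hfs : Function.Surjective f := QuotientGroup.mk'_surjective N
  let P : Sylow 11 G := default
  have hPcard : Nat.card P = 121 := by
    rw [Sylow.card_eq_multiplicity, hcardG, Nat.factorization_mul (by norm_num) Nat.card_pos.ne']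
    rw [Finsupp.add_apply, Nat.factorization_eq_zero_of_not_dvd h11, add_zero,
      Nat.factorization_mul (by norm_num) (by norm_num), Finsupp.add_apply,
      Nat.factorization_eq_zero_of_not_dvd (n := 120) (by norm_num), add_zero,
      show (121 : ℕ) = 11 ^ 2 by norm_num, hp11.factorization_pow]
    simp
  have hPN : ∀ x ∈ (P : Subgroup G), x ∈ N → x = 1 := by
    intro x hx hxN
    have h1 : orderOf x ∣ Nat.card P := Subgroup.orderOf_dvd_natCard _ hx
    have h3 : orderOf x ∣ Nat.card N := Subgroup.orderOf_dvd_natCard _ hxN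
    have h4 : Nat.Coprime (Nat.card P) (Nat.card N) := by
      rw [hPcard, show (121 : ℕ) = 11 ^ 2 by norm_num]
      exact Nat.Coprime.pow_left 2 ((Nat.Prime.coprime_iff_not_dvd hp11).2 h11)
    exact orderOf_eq_one_iff.1 (Nat.dvd_one.1 (h4 ▸ Nat.dvd_gcd h1 h3))
  -- the image of `P` is `V`
  have hPV : ∀ x ∈ (P : Subgroup G), f x ∈ V := by
    intro x hx
    have h1 : (QuotientGroup.mk' V) (f x) = 1 := by
      have h3 : orderOf ((QuotientGroup.mk' V) (f x)) ∣ Nat.card P :=
        (orderOf_map_dvd _ _).trans ((orderOf_map_dvd _ _).trans (Subgroup.orderOf_dvd_natCard _ hx))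
      have h4 : orderOf ((QuotientGroup.mk' V) (f x)) ∣ 120 := by
        have h5 : Nat.card ((G ⧸ N) ⧸ V) = 120 := by
          rw [← hH]
          exact Nat.card_congr hVH.symm.QuotientMulEquiv.toEquiv
        rw [← h5]
        exact orderOf_dvd_natCard _
      rw [hPcard] at h3
      have h6 : Nat.Coprime 121 120 := by norm_num
      exact orderOf_eq_one_iff.1 (Nat.dvd_one.1 (h6 ▸ Nat.dvd_gcd h3 h4))
    rwa [← MonoidHom.mem_ker, QuotientGroup.ker_mk'] at h1
  have hPmap : (P : Subgroup G).map f = V := by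
    apply Subgroup.eq_of_le_of_card_ge
    · rintro _ ⟨x, hx, rfl⟩
      exact hPV x hx
    · rw [hV, ← hPcard]
      apply le_of_eq
      symm
      refine Nat.card_congr (Equiv.ofBijective (fun x : P => (⟨f x, ⟨x, x.2, rfl⟩⟩ :
        (P : Subgroup G).map f)) ⟨?_, ?_⟩) |>.symm
      · intro a b hab
        have h1 : f a = f b := congrArg Subtype.val hab
        have h3 : f ((a : G)⁻¹ * b) = 1 := by rw [map_mul, map_inv, h1, inv_mul_cancel]
        have h4 := hPN _ ((P : Subgroup G).mul_mem ((P : Subgroup G).inv_mem a.2) b.2) ((hfker _).1 h3)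
        exact Subtype.ext (inv_mul_eq_one.1 h4)
      · rintro ⟨_, x, hx, rfl⟩
        exact ⟨⟨x, hx⟩, rfl⟩
  have hP11 : ∀ x ∈ (P : Subgroup G), x ^ 11 = 1 := by
    intro x hx
    apply hPN _ ((P : Subgroup G).pow_mem hx 11)
    rw [← hfker, map_pow]
    exact hVp _ (hPV x hx)
  have hncyc : ¬ IsCyclic (P : Subgroup G) := by
    intro h
    obtain ⟨g, hg⟩ := h.exists_generator
    have h1 : orderOf g = Nat.card P := orderOf_eq_card_of_forall_mem_zpowers hg
    have h3 : orderOf g ∣ 11 := orderOf_dvd_of_pow_eq_one (Subtype.ext (hP11 g g.2))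
    rw [h1, hPcard] at h3
    revert h3; norm_num
  let K := V.comap f
  have hK : K.Normal := inferInstance
  have hKc : ∀ a ∈ K, ∀ b ∈ K, ∀ v ∈ N, a * b * v * (a * b)⁻¹ = b * a * v * (b * a)⁻¹ := by
    intro a ha b hb v hv
    have h1 : (b * a)⁻¹ * (a * b) ∈ N := by
      rw [← hfker, map_mul, map_inv, map_mul, map_mul, hVc _ ha _ hb, inv_mul_cancel]
    have h3 := hNc _ h1 v hv
    have h4 : a * b * v * (a * b)⁻¹ = (b * a) * (((b * a)⁻¹ * (a * b)) * v) * (a * b)⁻¹ := by group
    rw [h4, h3]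
    group
  by_cases hPC : ∀ a ∈ (P : Subgroup G), (∀ v ∈ N, a * v = v * a) → a = 1
  · exact hncyc (CycAct.grp_cyclic (r := r) N inferInstance hNc hNr hN1
      (fun v hv w hw hv1 hw1 => hconjN v hv w hw hv1 hw1) K hK hKc P
      (fun x hx => hPV x hx) hPC)
  push Not at hPC
  obtain ⟨a, haP, haC, ha1⟩ := hPC
  -- then `P` centralises `N`
  have hcentP : ∀ x ∈ (P : Subgroup G), ∀ v ∈ N, x * v = v * x := by
    intro x hx
    by_cases hx1 : x = 1
    · intro v _
      rw [hx1, one_mul, mul_one]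
    have hfx : f x ≠ 1 := fun h => hx1 (hPN x hx ((hfker x).1 h))
    have hfa : f a ≠ 1 := fun h => ha1 (hPN a haP ((hfker a).1 h))
    obtain ⟨h, -, hh⟩ := htr (f a) (hPV a haP) (f x) (hPV x hx) hfa hfx
    obtain ⟨g, rfl⟩ := hfs h
    have h1 : f (x⁻¹ * (g * a * g⁻¹)) = 1 := by
      rw [map_mul, map_inv, map_mul, map_mul, map_inv, hh, inv_mul_cancel]
    have h3 : x⁻¹ * (g * a * g⁻¹) ∈ N := (hfker _).1 h1
    have hga : ∀ v ∈ N, (g * a * g⁻¹) * v = v * (g * a * g⁻¹) := by
      intro v hv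
      have h4 : g⁻¹ * v * g ∈ N := by
        have := (inferInstance : N.Normal).conj_mem v hv g⁻¹
        simpa using this
      have h5 := haC _ h4
      have h6 : (g * a * g⁻¹) * v = g * (a * (g⁻¹ * v * g)) * g⁻¹ := by group
      rw [h6, h5]
      group
    intro v hv
    have h7 : x = (g * a * g⁻¹) * (x⁻¹ * (g * a * g⁻¹))⁻¹ := by group
    have h8 := hNc _ (N.inv_mem h3) v hv
    rw [h7, mul_assoc, h8, ← mul_assoc, hga v hv, mul_assoc]
  -- hence `P` is normal
  have hPchar : ∀ z ∈ K, z ^ 11 = 1 → z ∈ (P : Subgroup G) := by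
    intro z hz hz11
    have h1 : f z ∈ (P : Subgroup G).map f := by rw [hPmap]; exact hz
    obtain ⟨x, hx, hxz⟩ := h1
    have h3 : x⁻¹ * z ∈ N := by
      rw [← hfker, map_mul, map_inv, hxz, inv_mul_cancel]
    have hcomm : Commute x (x⁻¹ * z) := hcentP x hx _ h3
    have h4 : (x⁻¹ * z) ^ 11 = 1 := by
      have h5 : (x * (x⁻¹ * z)) ^ 11 = 1 := by
        rw [mul_inv_cancel_left]; exact hz11
      rw [hcomm.mul_pow, hP11 x hx, one_mul] at h5
      exact h5
    have h5 : orderOf (x⁻¹ * z) ∣ 11 := orderOf_dvd_of_pow_eq_one h4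
    have h6 : orderOf (x⁻¹ * z) ∣ Nat.card N := Subgroup.orderOf_dvd_natCard _ h3
    have h7 : orderOf (x⁻¹ * z) = 1 := by
      rcases (Nat.dvd_prime hp11).1 h5 with h | h
      · exact h
      · exact absurd (h ▸ h6) h11
    have h8 : x⁻¹ * z = 1 := orderOf_eq_one_iff.1 h7
    rw [← inv_mul_eq_one.1 h8]
    exact hx
  have hPn : (P : Subgroup G).Normal := by
    refine ⟨fun x hx g => hPchar _ (hK.conj_mem x (hPV x hx) g) ?_⟩
    rw [conj_pow, hP11 x hx]
    group
  -- pass to `G / P`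
  let π := QuotientGroup.mk' (P : Subgroup G)
  have hπs : Function.Surjective π := QuotientGroup.mk'_surjective _
  have hπker : ∀ x, π x = 1 ↔ x ∈ (P : Subgroup G) := fun x => by
    rw [← MonoidHom.mem_ker, QuotientGroup.ker_mk']
  have hN' : (N.map π).Normal := (inferInstance : N.Normal).map π hπs
  have hN'1 : N.map π ≠ ⊥ := by
    intro h
    apply hN1
    rw [eq_bot_iff]
    intro x hx
    have h1 : π x ∈ N.map π := ⟨x, hx, rfl⟩
    rw [h] at h1
    exact hPN x ((hπker x).1 h1) hx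
  have h11' : ¬ 11 ∣ Nat.card (N.map π) := fun h => h11 (h.trans (Subgroup.card_map_dvd N π))
  let φ : G →* SL25.S := (e.toMonoidHom.comp hVH.symm.QuotientMulEquiv.toMonoidHom).comp
    ((QuotientGroup.mk' V).comp f)
  have hφs : Function.Surjective φ :=
    (e.surjective.comp hVH.symm.QuotientMulEquiv.surjective).comp
      ((QuotientGroup.mk'_surjective V).comp hfs)
  have hφker : φ.ker = K := by
    ext x
    rw [MonoidHom.mem_ker]
    show e (hVH.symm.QuotientMulEquiv ((QuotientGroup.mk' V) (f x))) = 1 ↔ f x ∈ V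
    rw [map_eq_one_iff _ e.injective, map_eq_one_iff _ hVH.symm.QuotientMulEquiv.injective,
      ← MonoidHom.mem_ker, QuotientGroup.ker_mk']
  let ψ : G →* (G ⧸ (P : Subgroup G)) ⧸ (N.map π) := (QuotientGroup.mk' (N.map π)).comp π
  have hψs : Function.Surjective ψ := (QuotientGroup.mk'_surjective _).comp hπs
  have hψker : ψ.ker = K := by
    ext x
    rw [MonoidHom.mem_ker]
    show (QuotientGroup.mk' (N.map π)) (π x) = 1 ↔ f x ∈ V
    rw [← MonoidHom.mem_ker, QuotientGroup.ker_mk']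
    constructor
    · rintro ⟨n, hn, hnx⟩
      have h1 : n⁻¹ * x ∈ (P : Subgroup G) := by
        rw [← hπker, map_mul, map_inv, hnx, inv_mul_cancel]
      have h3 : f x = f (n⁻¹ * x) := by
        rw [map_mul, map_inv, (hfker n).2 hn, inv_one, one_mul]
      rw [h3]
      exact hPV _ h1
    · intro hx
      have h1 : f x ∈ (P : Subgroup G).map f := by rw [hPmap]; exact hx
      obtain ⟨y, hy, hyx⟩ := h1
      refine ⟨x * y⁻¹, ?_, ?_⟩
      · rw [SetLike.mem_coe, ← hfker, map_mul, map_inv, hyx, mul_inv_cancel]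
      · rw [map_mul, map_inv, (hπker y).2 hy, inv_one, mul_one]
  have e' : (G ⧸ (P : Subgroup G)) ⧸ (N.map π) ≃* SL25.S :=
    ((QuotientGroup.quotientKerEquivOfSurjective ψ hψs).symm.trans
      (QuotientGroup.quotientMulEquivOfEq (hψker.trans hφker.symm))).trans
      (QuotientGroup.quotientKerEquivOfSurjective φ hφs)
  have hmain := LemmaY.main (N.map π) hN'1 e' h11'
  have hcardP : ¬ 11 ∣ Nat.card (G ⧸ (P : Subgroup G)) := by
    rw [Subgroup.card_eq_card_quotient_mul_card_subgroup (N.map π), Nat.card_congr e'.toEquiv,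
      SL25.natCard_S]
    intro h
    rcases (Nat.Prime.dvd_mul hp11).1 h with h | h
    · revert h; decide
    · exact h11' h
  rw [← card_eq_of_not_dvd hcardP, card_quotient_eq (p := 11) (P : Subgroup G) P.isPGroup'] at hmain
  omega

/-- The assembled theorem. -/
theorem main {G : Type*} [Group G] [Finite G] (p : ℕ) [Fact p.Prime]
    (hsolv : Cfsg.IsPSolvable p G) (hdiv : p ∣ Nat.card G)
    (hconj : ∀ x y : G, x ≠ 1 → y ≠ 1 → (∃ k : ℕ, orderOf x = p ^ k) →
      (∃ k : ℕ, orderOf y = p ^ k) → IsConj x y) :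
    p ≤ Nat.card (PReg p G) ∨
      (Nat.card (PReg p G) = p - 1 ∧ Nonempty (G ≃* Cfsg.affineGroup (ZMod p))) ∨
      (p = 11 ∧ Nat.card (PReg p G) = 9 ∧ (Nat.card G = 121 * 120 ∧
        ∃ H : Subgroup G, Cfsg.IsFrobeniusComplement H ∧ Nonempty (H ≃* SL25.S))) := by
  classical
  have hp' : p.Prime := Fact.out
  by_cases hN : Cfsg.pPrimeCore p G = ⊥
  · rcases PSolvA.core_case hsolv hN hdiv hconj with h | h | ⟨h1, h2, V, H, hVn, hVc, hVp, hV, hH,
      hVH, he, htr⟩
    · exact Or.inl h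
    · exact Or.inr (Or.inl h)
    · right; right
      refine ⟨h1, h2, ?_, H, ?_, he⟩
      · rw [← hVH.card_mul_card, hV, hH]
      · exact PSolvA.isFrobeniusComplement V H hVn hVH (by omega) (by omega) htr
  · left
    have hNn : (Cfsg.pPrimeCore p G).Normal := Lib.Cores.pPrimeCore_normal p
    have hNp : ¬ p ∣ Nat.card (Cfsg.pPrimeCore p G) := by
      have := Lib.Cores.pPrimeCore_coprime (G := G) p
      exact (Nat.Prime.coprime_iff_not_dvd hp').1 this.symm
    have hsolQ := Lib.PSolvable.IsPSolvable_of_surjective p hsolv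
      (QuotientGroup.mk' (Cfsg.pPrimeCore p G)) (QuotientGroup.mk'_surjective _)
    have hcoreQ := Lib.Cores.pPrimeCore_quotient_pPrimeCore (G := G) p
    have hdivQ : p ∣ Nat.card (G ⧸ Cfsg.pPrimeCore p G) := by
      have h1 := Subgroup.card_eq_card_quotient_mul_card_subgroup (Cfsg.pPrimeCore p G)
      rw [h1] at hdiv
      exact ((Nat.Prime.dvd_mul hp').1 hdiv).resolve_right hNp
    have hconjQ := PSolvA.hconj_map (p := p) (QuotientGroup.mk' (Cfsg.pPrimeCore p G))
      (QuotientGroup.mk'_surjective _) hconj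
    have hle := (card_quotient_add_one_le (p := p) (Cfsg.pPrimeCore p G) hNp hN).1
    rcases PSolvA.core_case hsolQ hcoreQ hdivQ hconjQ with h | ⟨h, -⟩ | ⟨h1, h2, V, H, hVn, hVc,
      hVp, hV, hH, hVH, ⟨e⟩, htr⟩
    · omega
    · have := hp'.one_lt
      omega
    · subst h1
      exact exceptional (Cfsg.pPrimeCore 11 G) hN hNp V H hVn hVc hVp hV hH hVH e htr h2

end Cfsg.Agent.H697.PSolvB
end
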